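import Cfsg.Agent.H17.KnDefs

/-! The graph automorphism of the unitriangular group of degree five over the field of order two. -/

set_option autoImplicit false
set_option maxRecDepth 100000
set_option synthInstance.maxSize 2000

namespace Cfsg.Agent.H64.KnG

open Equiv Subgroup Cfsg.Agent.H11.A16 Cfsg.Agent.H17.Kn
open scoped Matrix

/-- Square matrices of degree five. -/
abbrev M5 : Type := Matrix (Fin 5) (Fin 5) (ZMod 2)

/-- A unitriangular matrix. -/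
def T (a b c d e f g h k l : ZMod 2) : M5 :=
  !![1, a, b, c, d; 0, 1, e, f, g; 0, 0, 1, h, k; 0, 0, 0, 1, l; 0, 0, 0, 0, 1]

/-- The unitriangular matrix with the entries of `c` above the diagonal. -/
def U (c : Fin 5 → Fin 5 → ZMod 2) : M5 :=
  T (c 0 1) (c 0 2) (c 0 3) (c 0 4) (c 1 2) (c 1 3) (c 1 4) (c 2 3) (c 2 4) (c 3 4)

/-- The reflection in the second diagonal. -/
def fl (A : M5) : M5 := Matrix.of fun i j => A (4 - j) (4 - i)

theorem T_mul (a b c d e f g h k l a' b' c' d' e' f' g' h' k' l' : ZMod 2) :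
    T a b c d e f g h k l * T a' b' c' d' e' f' g' h' k' l' =
      T (a' + a) (b' + a * e' + b) (c' + a * f' + b * h' + c) (d' + a * g' + b * k' + c * l' + d)
        (e' + e) (f' + e * h' + f) (g' + e * k' + f * l' + g) (h' + h) (k' + h * l' + k) (l' + l) := by
  ext i j
  fin_cases i <;> fin_cases j <;> simp [T, Matrix.mul_apply, Fin.sum_univ_five]

theorem T_one : T 0 0 0 0 0 0 0 0 0 0 = 1 := by decide

theorem T_inj {a b c d e f g h k l a' b' c' d' e' f' g' h' k' l' : ZMod 2} :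
    T a b c d e f g h k l = T a' b' c' d' e' f' g' h' k' l' ↔ a = a' ∧ b = b' ∧ c = c' ∧ d = d' ∧ e = e' ∧
      f = f' ∧ g = g' ∧ h = h' ∧ k = k' ∧ l = l' :=
  ⟨fun H => ⟨congrFun₂ H 0 1, congrFun₂ H 0 2, congrFun₂ H 0 3, congrFun₂ H 0 4, congrFun₂ H 1 2,
    congrFun₂ H 1 3, congrFun₂ H 1 4, congrFun₂ H 2 3, congrFun₂ H 2 4, congrFun₂ H 3 4⟩,
    by rintro ⟨rfl, rfl, rfl, rfl, rfl, rfl, rfl, rfl, rfl, rfl⟩; rfl⟩

theorem fl_T (a b c d e f g h k l : ZMod 2) : fl (T a b c d e f g h k l) = T l k g d h f c e b a := by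
  ext i j
  fin_cases i <;> fin_cases j <;> rfl

theorem fl_mul (A B : M5) : fl (A * B) = fl B * fl A := by
  ext i j
  simp only [fl, Matrix.of_apply, Matrix.mul_apply, Fin.sum_univ_five]
  change _ = B 4 _ * A _ 4 + B 3 _ * A _ 3 + B 2 _ * A _ 2 + B 1 _ * A _ 1 + B 0 _ * A _ 0
  ring

theorem fl_fl (A : M5) : fl (fl A) = A := by
  ext i j
  simp [fl]

/-- `u` acts on the coordinates as the matrix `A`. -/
def Act (u : N2) (A : M5) : Prop := ∀ y, co (pm2 u y) = A *ᵥ co y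

instance instDecidableAct (u : N2) (A : M5) : Decidable (Act u A) := inferInstanceAs (Decidable (∀ _, _))

theorem Act.mul {u v : N2} {A B : M5} (h : Act u A) (h' : Act v B) : Act (u * v) (A * B) := fun y => by
  rw [map_mul, Perm.mul_apply, h, h', Matrix.mulVec_mulVec]

theorem act_one : Act 1 1 := fun y => by rw [map_one, Perm.one_apply, Matrix.one_mulVec]

theorem co_inj : ∀ y y' : Ω, co y = co y' → y = y' := by decide +kernel

theorem Act.eq {u v : N2} {A : M5} (h : Act u A) (h' : Act v A) : u = v :=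
  pm2_inj (Equiv.ext fun y => co_inj _ _ ((h y).trans (h' y).symm))

theorem Act.en {u : N2} {A : M5} (h : Act u A) (i j : Fin 5) : en u i j = A i j := by
  have h1 : co (0, 0) = Pi.single 4 1 := by decide +kernel
  have h2 : ∀ j : Fin 5, j ≠ 4 → co (if j = 0 then (0, 1) else (pw (d3 j), 0)) =
      Pi.single j 1 + Pi.single 4 1 := by decide +kernel
  rw [H17.Kn.en, h, h, h1]
  split_ifs with h3
  · rw [h3, Matrix.mulVec_single_one]; rfl
  all_goals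
    have h4 := h2 j h3
    simp only [*, if_true, if_false] at h4
    simp only [h4, Matrix.mulVec_add, Matrix.mulVec_single_one, Pi.add_apply, Matrix.col_apply, add_assoc,
      CharTwo.add_self_eq_zero, add_zero, *]

theorem Act.unique {u : N2} {A B : M5} (h : Act u A) (h' : Act u B) : A = B :=
  Matrix.ext fun i j => (h.en i j).symm.trans (h'.en i j)

theorem act_xc : ∀ c : ZMod 2, Act (xc c 0 1) (T c 0 0 0 0 0 0 0 0 0) ∧ Act (xc c 0 2) (T 0 c 0 0 0 0 0 0 0 0) ∧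
    Act (xc c 0 3) (T 0 0 c 0 0 0 0 0 0 0) ∧ Act (xc c 0 4) (T 0 0 0 c 0 0 0 0 0 0) ∧
    Act (xc c 1 2) (T 0 0 0 0 c 0 0 0 0 0) ∧ Act (xc c 1 3) (T 0 0 0 0 0 c 0 0 0 0) ∧
    Act (xc c 1 4) (T 0 0 0 0 0 0 c 0 0 0) ∧ Act (xc c 2 3) (T 0 0 0 0 0 0 0 c 0 0) ∧
    Act (xc c 2 4) (T 0 0 0 0 0 0 0 0 c 0) ∧ Act (xc c 3 4) (T 0 0 0 0 0 0 0 0 0 c) ∧
    Act (zp c) (T 0 0 0 c 0 0 0 0 0 0) := by decide +kernel

theorem act_ut (c : Fin 5 → Fin 5 → ZMod 2) : Act (ut c) (U c) := by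
  have h := (((((((((act_xc (c 0 4)).2.2.2.1.mul (act_xc (c 1 4)).2.2.2.2.2.2.1).mul
    (act_xc (c 2 4)).2.2.2.2.2.2.2.2.1).mul (act_xc (c 3 4)).2.2.2.2.2.2.2.2.2.1).mul
    (act_xc (c 0 3)).2.2.1).mul (act_xc (c 1 3)).2.2.2.2.2.1).mul (act_xc (c 2 3)).2.2.2.2.2.2.2.1).mul
    (act_xc (c 0 2)).2.1).mul (act_xc (c 1 2)).2.2.2.2.1).mul (act_xc (c 0 1)).1
  simp only [T_mul, mul_zero, zero_mul, add_zero, zero_add] at h
  exact h

theorem act_fix (a b c e : ZMod 2) : Act (zp a * xc b 1 3 * (xc c 0 3 * xc c 1 4) * (xc e 0 1 * xc e 3 4))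
    (T e 0 c (c * e + a) 0 b (b * e + c) 0 0 e) := by
  have h := (((act_xc a).2.2.2.2.2.2.2.2.2.2.mul (act_xc b).2.2.2.2.2.1).mul
    ((act_xc c).2.2.1.mul (act_xc c).2.2.2.2.2.2.1)).mul ((act_xc e).1.mul (act_xc e).2.2.2.2.2.2.2.2.2.1)
  simp only [T_mul, mul_zero, zero_mul, add_zero, zero_add] at h
  exact h

section
variable (m1 : Mod1)
include m1

theorem act_U {u : N2} (hu : u ∈ T0) : Act u (U (en u)) := by
  have h := act_ut (en u)
  rwa [← m1.nf u hu] at h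

theorem act_gm {u : N2} (hu : u ∈ T0) {A : M5} (h : Act u⁻¹ A) : Act (gm u) (fl A) := by
  rw [h.unique (act_U m1 (inv_mem hu)), U, fl_T]
  exact act_ut _

theorem gm_mem (u : N2) : gm u ∈ T0 := m1.utm _

theorem gm_mul {u v : N2} (hu : u ∈ T0) (hv : v ∈ T0) : gm (u * v) = gm u * gm v := by
  have h1 := act_U m1 (inv_mem hu)
  have h2 := act_U m1 (inv_mem hv)
  refine (act_gm m1 (mul_mem hu hv) (by rw [mul_inv_rev]; exact h2.mul h1)).eq ?_
  rw [fl_mul]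
  exact (act_gm m1 hu h1).mul (act_gm m1 hv h2)

theorem gm_one : gm 1 = 1 := by
  have := gm_mul m1 (one_mem _) (one_mem _)
  rwa [mul_one, left_eq_mul] at this

theorem gm_inv {u : N2} (hu : u ∈ T0) : gm u⁻¹ = (gm u)⁻¹ :=
  eq_inv_of_mul_eq_one_left (by rw [← gm_mul m1 (inv_mem hu) hu, inv_mul_cancel, gm_one m1])

theorem act_gm_inv {u : N2} (hu : u ∈ T0) {A : M5} (h : Act u A) : Act (gm u)⁻¹ (fl A) := by
  rw [← gm_inv m1 hu]
  exact act_gm m1 (inv_mem hu) (by rwa [inv_inv])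

theorem gm2 : ∀ u ∈ T0, gm (gm u) = u := fun u hu => by
  have h := act_gm m1 (gm_mem m1 u) (act_gm_inv m1 hu (act_U m1 hu))
  rw [fl_fl] at h
  exact h.eq (act_U m1 hu)

theorem gma : Au gm T0 :=
  ⟨fun u _ => gm_mem m1 u, fun _ hu _ hv => gm_mul m1 hu hv, fun u hu v hv e => by
    rw [← gm2 m1 u hu, e, gm2 m1 v hv]⟩

theorem gmc : ∀ y ∈ T0, y * gm y = 1 → ∃ c ∈ T0, y = c * (gm c)⁻¹ := fun y hy e => by
  have h1 := act_U m1 hy
  have h2 := act_gm_inv m1 hy h1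
  rw [← eq_inv_of_mul_eq_one_left e] at h2
  have h3 := h1.unique h2
  rw [U, fl_T, T_inj] at h3
  obtain ⟨a1, a2, a3, -, a4, -⟩ := h3
  let c : Fin 5 → Fin 5 → ZMod 2 := T 0 (en y 0 4) 0 0 (en y 1 3) 0 (en y 0 3 + en y 0 4 * en y 1 3)
    (en y 1 2 + en y 1 3) (en y 0 2 + en y 0 4) (en y 0 1)
  have h4 : Act (ut c) (T 0 (en y 0 4) 0 0 (en y 1 3) 0 (en y 0 3 + en y 0 4 * en y 1 3)
    (en y 1 2 + en y 1 3) (en y 0 2 + en y 0 4) (en y 0 1)) := act_ut c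
  refine ⟨ut c, m1.utm c, h1.eq ?_⟩
  have h5 := h4.mul (act_gm_inv m1 (m1.utm c) h4)
  rw [fl_T, T_mul] at h5
  convert h5 using 1
  rw [U, ← a1, ← a2, ← a3, ← a4, T_inj]
  generalize en y 0 1 = p1, en y 0 2 = p2, en y 0 3 = p3, en y 0 4 = p4, en y 1 2 = p5, en y 1 3 = p6
  revert p1 p2 p3 p4 p5 p6
  decide

theorem gmz : ∀ y ∈ T0, y * gm y ≠ H17.Kn.z2 := fun y hy e => by
  have h1 := act_U m1 (inv_mem hy)
  have h2 := act_gm m1 hy h1
  rw [eq_inv_mul_of_mul_eq e] at h2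
  have h3 := h2.unique (h1.mul (act_xc 1).2.2.2.2.2.2.2.2.2.2)
  rw [U, fl_T, T_mul, T_inj] at h3
  simpa using h3.2.2.2.1

theorem gmf : ∀ u ∈ T0, gm u = u ↔ ∃ a b c e : ZMod 2,
    u = zp a * xc b 1 3 * (xc c 0 3 * xc c 1 4) * (xc e 0 1 * xc e 3 4) := fun u hu => by
  have h1 := act_U m1 hu
  have h2 := act_gm_inv m1 hu h1
  constructor
  · intro e
    have h3 := h2.mul h1
    rw [e, inv_mul_cancel] at h3
    have h4 := h3.unique act_one
    rw [U, fl_T, T_mul, ← T_one, T_inj] at h4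
    refine ⟨en u 0 4 + en u 0 3 * en u 0 1, en u 1 3, en u 0 3, en u 0 1, h1.eq ?_⟩
    convert act_fix _ _ _ _ using 1
    rw [U, T_inj]
    revert h4
    generalize en u 0 1 = p1, en u 0 2 = p2, en u 0 3 = p3, en u 0 4 = p4, en u 1 2 = p5, en u 1 3 = p6,
      en u 1 4 = p7, en u 2 3 = p8, en u 2 4 = p9, en u 3 4 = p0
    revert p1 p2 p3 p4 p5 p6 p7 p8 p9 p0
    decide +kernel
  · rintro ⟨a, b, c, e, h⟩
    have h3 := act_fix a b c e
    rw [← h] at h3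
    have h4 := (act_gm_inv m1 hu h3).mul h3
    rw [fl_T, T_mul] at h4
    refine inv_mul_eq_one.1 (h4.eq ?_)
    convert act_one
    rw [← T_one, T_inj]
    clear h h3 h4
    revert a b c e
    decide

end

theorem gmx : ∀ i j : Fin 5, i < j → gm (xe i j) = xe (4 - j) (4 - i) := by decide +kernel

theorem gmA (m1 : Mod1) (m2 : Mod2) : (∀ a ∈ AA, gm a ∈ AP) ∧ ∀ a ∈ AP, gm a ∈ AA := by
  have key : ∀ X : Subgroup N2, ∃ K : Subgroup N2, ∀ u, u ∈ K ↔ u ∈ T0 ∧ gm u ∈ X := fun X =>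
    ⟨{ carrier := {u | u ∈ T0 ∧ gm u ∈ X}
       one_mem' := ⟨one_mem _, by rw [gm_one m1]; exact one_mem _⟩
       mul_mem' := fun h h' => ⟨mul_mem h.1 h'.1, by rw [gm_mul m1 h.1 h'.1]; exact mul_mem h.2 h'.2⟩
       inv_mem' := fun h => ⟨inv_mem h.1, by rw [gm_inv m1 h.1]; exact inv_mem h.2⟩ }, fun _ => Iff.rfl⟩
  obtain ⟨K, hK⟩ := key AP
  obtain ⟨L, hL⟩ := key AA
  have h : (∀ i, xe i 4 ∈ T0 ∧ gm (xe i 4) ∈ AP) ∧ ∀ j, xe 0 j ∈ T0 ∧ gm (xe 0 j) ∈ AA := by decide +kernel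
  exact ⟨fun a ha => ((hK a).1 (m2.gAA K (fun i => (hK _).2 (h.1 i)) ha)).2,
    fun a ha => ((hL a).1 (m2.gAP L (fun j => (hL _).2 (h.2 j)) ha)).2⟩

end Cfsg.Agent.H64.KnG
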