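import Cfsg.Agent.H17.KnDef2

/-! Elements of the normaliser of the group `F` of order 256. -/

set_option autoImplicit false

namespace Cfsg.Agent.H64.KnFb

open Equiv Subgroup Cfsg.Agent.H63
open Cfsg.Agent.H11.A16 hiding z2
open Cfsg.Agent.H89.Rec (Syl)
open Cfsg.Agent.H17.Kn

universe u

variable {G : Type u} [Group G] {J : N2 → G} {φ : G → Perm Ω}

/-- `g` acts on the image of `FF` as the permutation `m` does. -/
def Re (J : N2 → G) (g : G) (m : Perm Ω) : Prop :=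
  Ey J g m FF FF ∧ ∀ u ∈ FF, ∃ v ∈ FF, m * pm2 u * m⁻¹ = pm2 v

theorem Re.mul {g g' : G} {m m' : Perm Ω} (h : Re J g m) (h' : Re J g' m') :
    Re J (g * g') (m * m') := by
  refine ⟨fun u hu v hv e => ?_, fun u hu => ?_⟩
  · obtain ⟨x, hx, ex⟩ := h'.2 u hu
    refine (h'.1 u hu x hx ex).trans (h.1 x hx v hv ?_)
    rw [← ex, ← e]; group
  · obtain ⟨x, hx, ex⟩ := h'.2 u hu
    obtain ⟨y, hy, ey⟩ := h.2 x hx
    exact ⟨y, hy, by rw [← ey, ← ex]; group⟩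

theorem re_J (h2 : Mod2) (hS : Em J SE) (hF : FF ≤ SE) {t : N2} (ht : t ∈ SE) :
    Re J (J t) (pm2 t) := by
  refine ⟨fun u hu v _ e => ?_, fun u hu => ⟨_, ((h2.nrm t).2.2.1 ht.1).1 u hu, by simp⟩⟩
  rw [← map_inv, ← map_mul, ← map_mul] at e
  exact pm2_inj e ▸ hS.self ht (hF hu)

/-- Two sign changes. -/
def bb (i c : Fin 4) : N2 := dl (pb i) * dl (pb (i + c))

theorem bb_fin : ∀ i, bb i 1 ∈ SE ∧ bb i 2 ∈ SE ∧
    pm2 (bb i 1) * s12 * pm2 (bb i 1) * s12 * pm2 (bb i 2) * s12 * pm2 (bb i 1) * s12 *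
      pm2 (bb i 1) * pm2 (bb i 2) = th i := by
  decide +kernel

theorem th' (hB : Base.{u}) : ThStmt.{u} := by
  intro G _ _ J φ s h i
  obtain ⟨-, -, -, -, -, -, -, -, -, -, -, -, l13, -, -, -, -, -, -, -, l21, -⟩ := hB.m2.le
  obtain ⟨m1, m2, e⟩ := bb_fin i
  have a : Re J s s12 := ⟨fun u hu v hv => h.sY u (l21 hu) v (l21 hv), hB.m2.s12m.2.2.1⟩
  have b := re_J hB.m2 h.emS l13 m1
  have c := re_J hB.m2 h.emS l13 m2
  exact ⟨_, e ▸ (((((((((b.mul a).mul b).mul a).mul c).mul a).mul b).mul a).mul b).mul c).1⟩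

/-- The generators of `VV`. -/
def vv (b : Bool) : N2 := if b = true then xe 2 4 else xe 3 4

/-- The commutator with a generator of `VV`. -/
def dd (b : Bool) (u : N2) : N2 := vv b * u * (vv b)⁻¹ * u⁻¹

theorem vv_fin : (∀ b, vv b ∈ VV) ∧ (∀ i k, wb i k ∈ FF) ∧ z2 ∈ PI ∧ xe 1 4 ∈ PI ∧
    xe 0 4 = z2 ∧ xe 4 4 = 1 ∧ (xe 2 4) ^ 2 = 1 ∧ (xe 3 4) ^ 2 = 1 ∧
    ∀ i k a b c, dd a (dd b (dd c (wb i k))) = 1 := by
  decide +kernel

theorem nc {F : Subgroup G} {g c : G} (hg : g ∈ N[F]) (hc : c ∈ C[F]) : g * c * g⁻¹ ∈ C[F] :=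
  mem_centralizer_iff.2 fun y hy => by
    have := mem_centralizer_iff.1 hc _ ((mem_normalizer_iff.1 (inv_mem hg) y).1 hy)
    calc y * (g * c * g⁻¹) = g * (g⁻¹ * y * g⁻¹⁻¹ * c) * g⁻¹ := by group
      _ = g * c * g⁻¹ * y := by rw [this]; group

/-- An element of odd order that normalises `F` and centralises `A` centralises `F`. -/
theorem triv [Finite G] (hB : Base.{u}) (hS : Em J SE) {k : G} (ho : Odd (orderOf k))
    (hN : k ∈ N[im J FF]) (hA : k ∈ C[im J AA]) : ∀ u ∈ FF, Commute k (J u) := by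
  obtain ⟨-, -, -, -, -, -, -, l8, l9, -, -, -, l13, -, -, -, l17, -⟩ := hB.m2.le
  obtain ⟨f1, f2, -, -, -, -, -, -, f9⟩ := vv_fin
  have vS : ∀ b, vv b ∈ SE := fun b => l9 (l8 (AA_le_T0 (l17 (f1 b))))
  have cA : ∀ a ∈ AA, Commute k (J a) := fun a ha =>
    (mem_centralizer_iff.1 hA _ (mem_im ha)).symm
  have dF : ∀ b, ∀ u ∈ FF, dd b u ∈ FF := fun b u hu =>
    mul_mem (((hB.m2.nrm _).2.2.1 (vS b).1).1 u hu) (inv_mem hu)
  have step : ∀ u ∈ FF, (∀ b, Commute k (J (dd b u))) → Commute k (J u) := fun u hu hd => by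
    obtain ⟨x, hx, e⟩ := (hS.mono l13).mem.1 ((mem_normalizer_iff.1 hN _).1 (mem_im hu))
    have hc : u⁻¹ * x ∈ FF := mul_mem (inv_mem hu) hx
    have e1 : k * J u * k⁻¹ = J u * J (u⁻¹ * x) := by
      rw [← hS.mul _ (l13 hu) _ (l13 hc), mul_inv_cancel_left, e]
    have cv : ∀ b, Commute (u⁻¹ * x) (vv b) := fun b => by
      have e2 : J (vv b) * J u * (J (vv b))⁻¹ = J (dd b u) * J u := by
        rw [hS.self (vS b) (l13 hu), ← hS.mul _ (l13 (dF b u hu)) _ (l13 hu), dd, inv_mul_cancel_right]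
      have e3 : J (vv b) * J (u⁻¹ * x) * (J (vv b))⁻¹ = J (u⁻¹ * x) := by
        refine mul_left_cancel (a := J (dd b u) * J u) ?_
        calc _ = J (vv b) * (k * J u * k⁻¹) * (J (vv b))⁻¹ := by rw [← e2, e1]; group
          _ = k * (J (vv b) * J u * (J (vv b))⁻¹) * k⁻¹ := by
            have := cA _ (l17 (f1 b))
            rw [← mul_assoc, ← mul_assoc, ← this.eq, mul_assoc _ k⁻¹, this.inv_inv.eq]; group
          _ = _ := by rw [e2, ← mul_assoc, (hd b).eq, mul_assoc, mul_assoc, ← mul_assoc k, e1, mul_assoc]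
      rw [hS.self (vS b) (l13 hc)] at e3
      have := hS.inj _ (mul_mem (mul_mem (vS b) (l13 hc)) (inv_mem (vS b))) _ (l13 hc) e3
      exact (mul_inv_eq_iff_eq_mul.1 this).symm
    have hp : u⁻¹ * x ∈ PI := hB.m3.cFV _ hc fun a ha => by
      rcases hB.m2.lVV a ha with rfl | rfl | rfl | rfl
      exacts [Commute.one_right _, cv true, cv false, (cv true).mul_right (cv false)]
    have := (hB.gen (G := G)).odd1 k (J u) _ 1 ho (cA _ hp.1) e1 (by
      rw [pow_one, ← hS.pow (l13 hc), pow_two, hB.m2.ab.2.2.2.2.1 _ hc, hS.one])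
    rw [this, mul_one] at e1
    exact mul_inv_eq_iff_eq_mul.1 e1
  let K : Subgroup N2 :=
    { carrier := {u | u ∈ FF ∧ Commute k (J u)}
      one_mem' := ⟨one_mem _, by rw [hS.one]; exact Commute.one_right _⟩
      mul_mem' := fun ha hb => ⟨mul_mem ha.1 hb.1, by
        rw [hS.mul _ (l13 ha.1) _ (l13 hb.1)]; exact ha.2.mul_right hb.2⟩
      inv_mem' := fun ha => ⟨inv_mem ha.1, by rw [hS.inv (l13 ha.1)]; exact ha.2.inv_right⟩ }
  refine fun u hu => (hB.m2.gFF K (fun i j => ⟨f2 i j, ?_⟩) hu).2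
  refine step _ (f2 i j) fun c => step _ (dF _ _ (f2 i j)) fun b =>
    step _ (dF _ _ (dF _ _ (f2 i j))) fun a => ?_
  rw [f9, hS.one]
  exact Commute.one_right _

theorem fb (hB : Base.{u}) : FbStmt.{u} := by
  intro G _ _ J φ s h g hg hv hp
  obtain ⟨-, -, -, -, -, -, -, l8, l9, -, -, -, l13, -, -, -, l17, -, l19, -⟩ := hB.m2.le
  obtain ⟨f1, -, f3, f4, f5, f6, f7, f8, -⟩ := vv_fin
  have hS := h.emS
  have kit := hB.kit J φ h.toKi
  have gen := hB.gen (G := G)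
  have aS : AA ≤ SE := AA_le_T0.trans (l8.trans l9)
  have vS : VV ≤ SE := l17.trans aS
  have xS : FF ⊔ VV ≤ SE := sup_le l13 vS
  have eF := hS.mono l13
  have eX := hS.mono xS
  have cj : ∀ t ∈ SE, ∀ u ∈ FF, t * u * t⁻¹ ∈ FF := fun t ht => ((hB.m2.nrm t).2.2.1 ht.1).1
  have nS : ∀ t ∈ SE, J t ∈ N[im J FF] := fun t ht => mem_normalizer_fintype fun n hn => by
    obtain ⟨u, hu, rfl⟩ := eF.mem.1 hn
    rw [show J t * J u * (J t)⁻¹ = _ from hS.self ht (l13 hu)]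
    exact mem_im (cj t ht u hu)
  have FC : im J FF ≤ C[im J FF] := fun a ha => mem_centralizer_iff.2 fun b hb => by
    obtain ⟨u, hu, rfl⟩ := eF.mem.1 ha
    obtain ⟨x, hx, rfl⟩ := eF.mem.1 hb
    rw [← eF.mul _ hx _ hu, ← eF.mul _ hu _ hx, (hB.m2.ab.2.1 _ hx _ hu).eq]
  obtain ⟨O, oC, oo, oN, od⟩ := gen.dec C[im J FF] (im J FF)
    (h.sylF.mono FC (centralizer_le (im_mono inf_le_right))) fun a ha b hb =>
      mem_centralizer_iff.1 hb a ha
  have nO : ∀ t ∈ SE, ∀ o ∈ O, (J t)⁻¹ * o * J t ∈ O := fun t ht o ho => by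
    have : (J t)⁻¹ ∈ N[O] := oN (mem_normalizer_fintype fun c hc => nc (inv_mem (nS t ht)) hc)
    simpa using (mem_normalizer_iff.1 this o).1 ho
  obtain ⟨o, ho, hY⟩ := gen.frO (im J (FF ⊔ VV)) O g
    (eX.two (hB.m1.two.to_le (xS.trans inf_le_left))) (fun o ho => (oo o (oC ho)).1 ho)
    (im_le fun t ht => oN (mem_normalizer_fintype fun c hc => nc (nS t (xS ht)) hc)) fun y hy => by
      obtain ⟨m, hm, rfl⟩ := eX.mem.1 hy
      have hm' : m ∈ ((FF ⊔ VV : Subgroup N2) : Set N2) := hm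
      rw [coe_mul_of_right_le_normalizer_left FF VV fun v hv =>
        mem_normalizer_fintype fun n hn => cj v (vS hv) n hn] at hm'
      obtain ⟨u, hu, v, hv', rfl⟩ := hm'
      obtain ⟨a, ha, o, ho, e⟩ := od _ (hv v hv')
      refine ⟨g * J u * g⁻¹ * a * J v, mul_mem (im_mono le_sup_left (mul_mem
        ((mem_normalizer_iff.1 hg _).1 (mem_im hu)) ha)) (mem_im (mem_sup_right hv')), _,
        nO v (vS hv') o ho, ?_⟩
      change g * J (u * v) * g⁻¹ = _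
      rw [hS.mul _ (l13 hu) _ (vS hv')]
      calc _ = g * J u * g⁻¹ * (g * J v * g⁻¹ * (J v)⁻¹) * J v := by group
        _ = _ := by rw [e]; group
  have key : ∀ v ∈ VV, ∃ b ∈ FF, R J (o * g) v (v * b) := fun v hv' => by
    have h1 : (J v)⁻¹ * (o * g * J v * (o * g)⁻¹) ∈ im J (FF ⊔ VV) :=
      mul_mem (inv_mem (mem_im (mem_sup_right hv')))
        ((mem_normalizer_iff.1 hY _).1 (mem_im (mem_sup_right hv')))
    have h2 : (J v)⁻¹ * (o * g * J v * (o * g)⁻¹) ∈ C[im J FF] := by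
      have := mul_mem (nc (inv_mem (nS v (vS hv'))) (mul_mem (oC ho) (hv v hv'))) (inv_mem (oC ho))
      convert this using 1
      group
    obtain ⟨b, hb, e⟩ := eX.mem.1 h1
    refine ⟨b, hB.m3.cFF b fun x hx => hS.inj _ (mul_mem (xS hb) (l13 hx)) _
      (mul_mem (l13 hx) (xS hb)) ?_, ?_⟩
    · rw [hS.mul _ (xS hb) _ (l13 hx), hS.mul _ (l13 hx) _ (xS hb), e]
      exact (mem_centralizer_iff.1 h2 _ (mem_im hx)).symm
    · rw [R, hS.mul _ (vS hv') _ (xS hb), e, mul_inv_cancel_left]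
  have v2 : xe 2 4 ∈ VV := f1 true
  have v3 : xe 3 4 ∈ VV := f1 false
  obtain ⟨b, hb, eb⟩ := key _ v2
  obtain ⟨c, hc, ec⟩ := key _ v3
  have bS := mul_mem (vS v2) (l13 hb)
  have cS := mul_mem (vS v3) (l13 hc)
  have sq : ∀ v ∈ SE, ∀ x ∈ SE, v ^ 2 = 1 → R J (o * g) v x → x ^ 2 = 1 := fun v hv x hx e r =>
    hS.inj _ (pow_mem hx 2) _ (one_mem _) (by
      rw [hS.pow hx, ← r, conj_pow, ← hS.pow hv, e, hS.one, mul_one, mul_inv_cancel])
  obtain ⟨e, he, e2, e3⟩ := hB.m3.cplF b hb c hc (sq _ (vS v2) _ bS f7 eb) (sq _ (vS v3) _ cS f8 ec)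
    (hS.inj _ (mul_mem bS cS) _ (mul_mem cS bS) (by
      rw [hS.mul _ bS _ cS, hS.mul _ cS _ bS, ← eb, ← ec, conj_mul, conj_mul,
        ← hS.mul _ (vS v2) _ (vS v3), ← hS.mul _ (vS v3) _ (vS v2),
        (hB.m2.ab.2.2.1 _ (l17 v2) _ (l17 v3)).eq]))
  have hC : (J e)⁻¹ * o ∈ C[im J FF] := mul_mem (inv_mem (FC (mem_im he))) (oC ho)
  have cA : (J e)⁻¹ * o * g ∈ C[im J AA] := by
    have cP : ∀ u ∈ PI, J u ∈ C1[(J e)⁻¹ * o * g] := fun u hu => mem_centralizer_singleton_iff.2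
      (Commute.mul_right (mem_centralizer_iff.1 hC _ (mem_im hu.2)) (hp u hu).symm)
    have cV : ∀ v ∈ VV, ∀ x, R J (o * g) v x → e * v * e⁻¹ = x → J v ∈ C1[(J e)⁻¹ * o * g] :=
      fun v hv' x r ex => mem_centralizer_singleton_iff.2 (by
        have := r.trans (ex ▸ hS.self (l13 he) (vS hv')).symm
        rw [R, ← mul_assoc _ o] at this
        exact (mul_inv_eq_iff_eq_mul.1 this).symm)
    have : AA ≤ (C1[(J e)⁻¹ * o * g].comap hS.hom).map SE.subtype := hB.m2.gAA _ fun i => by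
      have k : ∀ u ∈ SE, J u ∈ C1[(J e)⁻¹ * o * g] →
          u ∈ (C1[(J e)⁻¹ * o * g].comap hS.hom).map SE.subtype := fun u hu a => ⟨⟨u, hu⟩, a, rfl⟩
      fin_cases i
      · exact k _ (aS (f5 ▸ f3.1)) (cP _ (f5 ▸ f3))
      · exact k _ (aS f4.1) (cP _ f4)
      · exact k _ (vS v2) (cV _ v2 _ eb e2)
      · exact k _ (vS v3) (cV _ v3 _ ec e3)
      · exact (show xe 4 4 = 1 from f6) ▸ one_mem _
    refine mem_centralizer_iff.2 fun y hy => ?_
    obtain ⟨u, hu, rfl⟩ := (hS.mono aS).mem.1 hy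
    obtain ⟨x, hx, rfl⟩ := this hu
    exact mem_centralizer_singleton_iff.1 hx
  obtain ⟨a, ha, k, hk, k1, ek⟩ := kit.dec _ cA
  have kN : k ∈ N[im J FF] := by
    have := mul_mem (inv_mem (nS a (aS ha))) (mul_mem (centralizer_le_normalizer _ hC) hg)
    rwa [ek, inv_mul_cancel_left] at this
  have kF := triv hB hS (h.ker k hk k1) kN (kit.kerC k hk k1)
  obtain ⟨v, hv', x, hx, rfl⟩ := hB.m2.pDD a (l19 ha)
  refine ⟨v, hv', fun u hu => ?_⟩
  have e1 : (J e)⁻¹ * o * g * J u * ((J e)⁻¹ * o * g)⁻¹ = g * J u * g⁻¹ := by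
    have := mem_centralizer_iff.1 hC _ ((mem_normalizer_iff.1 hg _).1 (mem_im hu))
    calc _ = (J e)⁻¹ * o * (g * J u * g⁻¹) * ((J e)⁻¹ * o)⁻¹ := by group
      _ = _ := by rw [← this, mul_inv_cancel_right]
  have e2 : v * x * u * (v * x)⁻¹ = v * u * v⁻¹ := by
    rw [mul_assoc v, (hB.m2.ab.2.1 _ hx.2 _ hu).eq]; group
  rw [R, ← e1, ek, mul_assoc _ k, (kF u hu).eq, ← e2, ← hS.self (aS ha) (l13 hu)]
  group

theorem th (hB : Base.{u}) : ThStmt.{u} := th' hB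

end Cfsg.Agent.H64.KnFb
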