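import Cfsg.Agent.H42.HtDefs

/-! An element interchanging `t` and `t z`. -/

set_option autoImplicit false

namespace Cfsg.Agent.H64.HtTA

open Cfsg Cfsg.Agent.H63 Cfsg.Agent.H63.SL Cfsg.Agent.H63.AN Subgroup Cfsg.Agent.H42.HT
open Cfsg.Agent.H7.AA (ev d2 Acts KA NA ev_mul ev_conj ev_inv ev_pow ev_one ev_inj ev_eq_one ev_comm
  KA_ev acts_ev acts_one mem_range_iff)
open Cfsg.Agent.H78 (c3)
open Equiv (swap Perm)
open Equiv.Perm (sign)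
open scoped commutatorElement

universe u

/-- Data for the exclusion of a type of involution. -/
def Dat (r b₁ c₁ b₂ c₂ : P) : Prop :=
  (sign b₁ = 1 ∧ sign c₁ = 1 ∧ sign b₂ = 1 ∧ sign c₂ = 1) ∧
  (r * b₁ = b₁ * r ∧ r * c₁ = c₁ * r ∧ r * b₂ = b₂ * r ∧ r * c₂ = c₂ * r) ∧
  (b₁ * c₁ * b₁⁻¹ * c₁⁻¹) ^ 2 = 1 ∧ (b₂ * c₂ * b₂⁻¹ * c₂⁻¹) ^ 2 = 1 ∧
  (b₁ * c₁ * b₁⁻¹ * c₁⁻¹ * (b₂ * c₂ * b₂⁻¹ * c₂⁻¹)) ^ 5 = 1 ∧
  b₁ * c₁ * b₁⁻¹ * c₁⁻¹ * (b₂ * c₂ * b₂⁻¹ * c₂⁻¹) ≠ 1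

def r10 : P := swap 0 1 * swap 2 3 * swap 4 5 * swap 6 7 * swap 8 9

theorem dat2 : Dat (swap 0 1) (d2 2 4 3 5) (c3 3 4 5) (d2 3 5 4 6) (c3 4 5 6) := by
  unfold Dat; decide +kernel

theorem dat10 : Dat r10 (d2 0 4 1 5 * d2 2 6 3 7) (c3 2 4 6 * c3 3 5 7) (d2 2 6 3 7 * d2 4 8 5 9)
    (c3 4 6 8 * c3 5 7 9) := by
  unfold Dat; decide +kernel

theorem fin : (sign z8 = 1 ∧ z8 * z8 = 1 ∧ z8 ≠ 1 ∧ z8.support.card = 8) ∧
    (sign w = 1 ∧ w * w = 1 ∧ w.support.card = 4) ∧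
    (swap 0 1 * swap 0 1 = (1 : P) ∧ (swap 0 1 : P).support.card = 2) ∧
    r10 * r10 = 1 ∧ r10.support.card = 10 := by
  decide +kernel

variable {G : Type u} [Group G] {ψ : Al →* G} {t : G}

theorem ev_comm4 {b c : P} (hb : sign b = 1) (hc : sign c = 1) :
    ev ψ (b * c * b⁻¹ * c⁻¹) = ⁅ev ψ b, ev ψ c⁆ := by
  rw [ev_mul (by simp [hb, hc]) (by simp [hc]), ev_conj hb hc, ev_inv hc, commutatorElement_def]

theorem kill (z5 : ∀ p : P, p ^ 5 = 1 → Commute p z8 → p = 1) (b : Bs ψ t) (k : Kit ψ t) {g : G}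
    (hg : g * t * g⁻¹ = t * ev ψ z8) {r b₁ c₁ b₂ c₂ : P} (ha : Acts ψ (g⁻¹ * t * g) r)
    (h : Dat r b₁ c₁ b₂ c₂) : False := by
  obtain ⟨⟨s1, s2, s3, s4⟩, ⟨m1, m2, m3, m4⟩, q1, q2, q5, ne⟩ := h
  have ct : ∀ σ : P, sign σ = 1 → r * σ = σ * r → Commute (g * ev ψ σ * g⁻¹) t := fun σ hs hc => by
    have e := ha.comm hs hc
    calc g * ev ψ σ * g⁻¹ * t = g * (ev ψ σ * (g⁻¹ * t * g)) * g⁻¹ := by group
      _ = t * (g * ev ψ σ * g⁻¹) := by rw [← e]; group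
  have cz : ∀ σ : P, Commute (g * ev ψ σ * g⁻¹) (t * ev ψ z8) := fun σ => by
    rw [← hg]
    calc g * ev ψ σ * g⁻¹ * (g * t * g⁻¹) = g * (ev ψ σ * t) * g⁻¹ := by group
      _ = g * t * g⁻¹ * (g * ev ψ σ * g⁻¹) := by rw [← KA_ev b.tK]; group
  have rg : ∀ x y : P, sign x = 1 → sign y = 1 → r * x = x * r → r * y = y * r →
      (x * y * x⁻¹ * y⁻¹) ^ 2 = 1 → g * ev ψ (x * y * x⁻¹ * y⁻¹) * g⁻¹ ∈ ψ.range :=
    fun x y hx hy cx cy h2 => by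
      refine k.der _ ?_ ⟨1, ?_⟩
      · have e : g * ev ψ (x * y * x⁻¹ * y⁻¹) * g⁻¹ = ⁅g * ev ψ x * g⁻¹, g * ev ψ y * g⁻¹⁆ := by
          rw [ev_comm4 hx hy, commutatorElement_def, commutatorElement_def]; group
        rw [e]
        exact commutator_mem_commutator (mem_centralizer_singleton_iff.2 (ct x hx cx))
          (mem_centralizer_singleton_iff.2 (ct y hy cy))
      · rw [pow_one, conj_pow, ← ev_pow (by simp [hx, hy]), h2, ev_one, mul_one, mul_inv_cancel]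
  set a := b₁ * c₁ * b₁⁻¹ * c₁⁻¹ * (b₂ * c₂ * b₂⁻¹ * c₂⁻¹) with hadef
  have sa : sign a = 1 := by simp [hadef, s1, s2, s3, s4]
  have ra : r * a = a * r :=
    (((Commute.mul_right m1 m2).mul_right (Commute.inv_right m1)).mul_right (Commute.inv_right m2)).mul_right
      (((Commute.mul_right m3 m4).mul_right (Commute.inv_right m3)).mul_right (Commute.inv_right m4))
  have hm : g * ev ψ a * g⁻¹ ∈ ψ.range := by
    have := mul_mem (rg _ _ s1 s2 m1 m2 q1) (rg _ _ s3 s4 m3 m4 q2)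
    rw [hadef, ev_mul (by simp [s1, s2]) (by simp [s3, s4])]
    convert this using 1
    group
  obtain ⟨σ, hσ, e⟩ := mem_range_iff.1 hm
  have c1 : Commute (ev ψ σ) (ev ψ z8) := by
    have := (ct a sa ra).inv_right.mul_right (cz a)
    rwa [inv_mul_cancel_left, ← e] at this
  have c2 : Commute σ z8 := (acts_ev hσ).comm_perm b.inj fin.1.1 c1
  have p5 : σ ^ 5 = 1 := ev_eq_one b.inj (by simp [hσ]) (by
    rw [ev_pow hσ, e, conj_pow, ← ev_pow sa, q5, ev_one, mul_one, mul_inv_cancel])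
  rw [z5 σ p5 c2, ev_one, eq_comm, conj_eq_one_iff] at e
  exact ne (ev_eq_one b.inj sa e)

theorem ta : TaStmt.{u} := by
  intro ff G _ _ ψ t fr _ n2 n3 ⟨p, p2, sp, cp, hp⟩
  obtain ⟨⟨sz, z2, z1, cz⟩, ⟨sw, w2, cw⟩, ⟨x2, cx⟩, y2, cy⟩ := fin
  have ct : ∀ a : P, ev ψ a * t * (ev ψ a)⁻¹ = t := fun a => by
    rw [← KA_ev fr.tK, mul_inv_cancel_right]
  have h5 : 5 ≤ Fintype.card (Fin 10) := by simp
  obtain ⟨g, hg⟩ : IsConj t (t * ev ψ z8) := by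
    obtain ⟨a, sa, ha⟩ := fr.typ p z8 p2 z2 (by rw [cp, cz])
    refine hp.trans (isConj_iff.2 ⟨ev ψ a, ?_⟩)
    rw [← ha, ev_conj sa sp, ← conj_mul, ct]
  obtain ⟨g, hg⟩ : ∃ g : G, g * t * g⁻¹ = t * ev ψ z8 := isConj_iff.1 ⟨g, hg⟩
  have d1 : ∀ g : G, g * t * g⁻¹ = t * ev ψ z8 → ∀ r, Acts ψ (g⁻¹ * t * g) r →
      D1 ψ t (g⁻¹ * t * g) r := fun g hg r hr => by
    refine ⟨isConj_iff.2 ⟨g⁻¹, by rw [inv_inv]⟩, ?_, fun e => z1 (ev_eq_one fr.inj sz ?_), hr⟩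
    · calc g⁻¹ * t * g * t = g⁻¹ * (t * (g * t * g⁻¹)) * g := by group
        _ = g⁻¹ * (g * t * g⁻¹ * t) * g := by rw [hg, mul_assoc t, ← KA_ev fr.tK]
        _ = t * (g⁻¹ * t * g) := by group
    · have : g * t * g⁻¹ = t := by
        conv_lhs => rw [← e]
        group
      exact mul_eq_left.1 (hg.symm.trans this)
  have i2 : ∀ g : G, Is2 (g⁻¹ * t * g) := fun g => ⟨1, by
    rw [pow_one, pow_two, show g⁻¹ * t * g * (g⁻¹ * t * g) = g⁻¹ * (t * t) * g by group, fr.t2]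
    group⟩
  have cm : Commute (g⁻¹ * t * g) t := by
    calc g⁻¹ * t * g * t = g⁻¹ * (t * (g * t * g⁻¹)) * g := by group
      _ = g⁻¹ * (g * t * g⁻¹ * t) * g := by rw [hg, mul_assoc t, ← KA_ev fr.tK]
      _ = t * (g⁻¹ * t * g) := by group
  obtain ⟨r, hr⟩ := fr.act _ cm
  have r2 : r * r = 1 := by
    refine (hr.mul hr).uniq h5 fr.inj ?_
    rw [show g⁻¹ * t * g * (g⁻¹ * t * g) = g⁻¹ * (t * t) * g by group, fr.t2, mul_one, inv_mul_cancel]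
    exact acts_one
  have mv : ∀ q : P, q * q = 1 → r.support.card = q.support.card →
      ∃ g : G, g * t * g⁻¹ = t * ev ψ z8 ∧ Acts ψ (g⁻¹ * t * g) q := fun q q2 hq => by
    obtain ⟨a, sa, ha⟩ := fr.typ r q r2 q2 hq
    refine ⟨g * (ev ψ a)⁻¹, ?_, ?_⟩
    · rw [← hg]
      conv_rhs => rw [← ct a⁻¹, ev_inv sa]
      group
    · have := (acts_ev (ψ := ψ) sa).conj hr
      rw [ha] at this
      convert this using 1
      group
  have evn : ∀ q : P, q * q = 1 → sign q = 1 → r.support.card = q.support.card →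
      ∃ g : G, g * t * g⁻¹ = t * ev ψ z8 ∧ g⁻¹ * t * g = t * ev ψ q := fun q q2 sq hq => by
    obtain ⟨g, hg, ha⟩ := mv q q2 hq
    have d := d1 g hg q ha
    rcases fr.ev2 _ q d.cm (i2 g) ha sq with e | e
    · exact absurd (e ▸ d.cj) (fr.nl q)
    · exact ⟨g, hg, e⟩
  have h10 : r.support.card ≤ 10 := by simpa using r.support.card_le_univ
  have h2 : 2 ∣ r.support.card := Equiv.Perm.two_dvd_card_support (by rw [pow_two, r2])
  have h6 := n3 _ r (d1 g hg r hr)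
  have : r.support.card = 0 ∨ r.support.card = 2 ∨ r.support.card = 4 ∨ r.support.card = 8 ∨
      r.support.card = 10 := by omega
  rcases this with c | c | c | c | c
  · obtain ⟨g, hg, e⟩ := evn 1 (mul_one 1) (by simp) (by simpa using c)
    rw [ev_one, mul_one] at e
    exact absurd e (d1 g hg 1 (by rw [e]; exact H7.AA.acts_of_KA fr.tK)).ne
  · obtain ⟨g, hg, ha⟩ := mv _ x2 (c.trans cx.symm)
    exact (kill ff.z5 fr.toBs fr.toKit hg ha dat2).elim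
  · obtain ⟨g, -, e⟩ := evn _ w2 sw (c.trans cw.symm)
    exact (n2 ⟨w, w2, sw, cw, isConj_iff.2 ⟨g⁻¹, by rw [inv_inv, e]⟩⟩).elim
  · obtain ⟨g, hg, e⟩ := evn _ z2 sz (c.trans cz.symm)
    refine ⟨g, hg, ?_⟩
    have zz : ev ψ z8 * ev ψ z8 = 1 := by rw [← ev_mul sz sz, z2, ev_one]
    have e1 : g * (t * ev ψ z8) * g⁻¹ = t := by rw [← e]; group
    have e2 : g * ev ψ z8 * g⁻¹ = ev ψ z8 := by
      rw [← conj_mul, hg, mul_assoc, mul_eq_left] at e1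
      exact mul_left_cancel (e1.trans zz.symm)
    exact mul_inv_eq_iff_eq_mul.1 e2
  · obtain ⟨g, hg, ha⟩ := mv _ y2 (c.trans cy.symm)
    exact (kill ff.z5 fr.toBs fr.toKit hg ha dat10).elim

end Cfsg.Agent.H64.HtTA
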