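import Cfsg.Agent.H64.L33T2b

/-! Project L33, piece T2: the model of `N(⟨t, z⟩)` in case II. -/

set_option autoImplicit false
set_option linter.unusedSectionVars false
set_option linter.unusedSimpArgs false

noncomputable section

namespace Cfsg.Agent.H64.T2

open Subgroup Cfsg.Agent.H83 Cfsg.Agent.H40.L3

universe u

variable {G : Type*} [Group G] [Finite G]

section P
open P
variable {j : P →* G} {ρ κ β : G}

def pV : Subgroup P := M.sV.comap M.sS.subtype
def pA : Subgroup P := M.sA.comap M.sS.subtype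

instance (m : P) : Decidable (m ∈ pV) := inferInstanceAs (Decidable (m.1 ∈ M.sV))
instance (m : P) : Decidable (m ∈ pA) := inferInstanceAs (Decidable (m.1 ∈ M.sA))

/-- The action on `A = ⟨t, γ, a, z⟩` given by the images of the generators. -/
def fA (t g a z n : P) : P := bp t n.1.t * bp g n.1.d * bp a n.1.a * bp z n.1.z

theorem nfA : ∀ n ∈ pA, n = fA T (D * W) A Z n := by decide +kernel

theorem acA {h : G} {t g a z : P} (ht : Ac j h T t) (hg : Ac j h (D * W) g) (ha : Ac j h A a)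
    (hz : Ac j h Z z) {n : P} (hn : n ∈ pA) : Ac j h n (fA t g a z n) :=
  ((((ht.bp _).mul (hg.bp _)).mul (ha.bp _)).mul (hz.bp _)).to (nfA n hn).symm rfl

theorem nfV : ∀ n ∈ pV, n = bp A n.1.a * bp Z n.1.z := by decide +kernel

theorem v_aux : ∀ a : P, a.1 ∈ M.sD → a * a = 1 → ∀ z : P, z.1 ∈ M.sD → z * z = 1 → a * z = z * a →
    ∃ s : P, s * a * s⁻¹ ∈ pV ∧ s * z * s⁻¹ ∈ pV := by decide +kernel

theorem cV : ∀ m : P, m ∈ pA ↔ ∀ n ∈ pV, n * m = m * n := by decide +kernel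

theorem normV {h : G} {a z : P} (ha : Ac j h A a) (hz : Ac j h Z z) (a1 : a ∈ pV) (z1 : z ∈ pV) :
    h ∈ normalizer (pV.map j : Set G) :=
  Ac.norm fun m hm => ⟨_, mul_mem (bp_mem a1 _) (bp_mem z1 _),
    ((ha.bp _).mul (hz.bp _)).to (nfV m hm).symm rfl⟩

theorem Sit.sylA (h : Sit j ρ κ) : IsSylowIn 2 (pA.map j)
    (centralizer ({j T} : Set G) ⊓ centralizer (pV.map j : Set G)) := by
  have e : pA.map j = j.range ⊓ centralizer (pV.map j : Set G) := by
    refine le_antisymm ?_ ?_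
    · rintro _ ⟨m, hm, rfl⟩
      refine ⟨⟨m, rfl⟩, ?_⟩
      rintro _ ⟨n, hn, rfl⟩
      rw [← map_mul, (cV m).1 hm n hn, map_mul]
    · rintro _ ⟨⟨m, rfl⟩, hm⟩
      exact ⟨m, (cV m).2 fun n hn => h.inj (by rw [map_mul, map_mul]; exact hm _ ⟨n, hn, rfl⟩), rfl⟩
  rw [e]
  refine syl_cent h.syl (map_le_range _ _) fun g hg le => ?_
  have gt : Ac j g T T := .of_comm (mem_centralizer_singleton_iff.1 hg)
  obtain ⟨a, ea⟩ := le (conj_mem_cj ⟨A, show A ∈ pV by decide +kernel, rfl⟩)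
  obtain ⟨z, ez⟩ := le (conj_mem_cj ⟨Z, show Z ∈ pV by decide +kernel, rfl⟩)
  replace ea : Ac j g A a := ea.symm
  replace ez : Ac j g Z z := ez.symm
  obtain ⟨s, s1, s2⟩ := v_aux a (h.fus _ _ _ gt ea (by decide +kernel))
    (((ea.mul ea).to (by decide +kernel) rfl).uniq h.inj .one) z (h.fus _ _ _ gt ez (by decide +kernel))
    (((ez.mul ez).to (by decide +kernel) rfl).uniq h.inj .one)
    (((ea.mul ez).to (by decide +kernel) rfl).uniq h.inj (ez.mul ea))
  exact ⟨j s, ⟨s, rfl⟩, normV (ea.comp (.inn s _)) (ez.comp (.inn s _)) s1 s2⟩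

/-- The action of `ρ`. -/
def fρ (g n : P) : P := fA T g (A * Z) A n
/-- The action of `w ρ`. -/
def fw (g n : P) : P := W * fρ g n * W⁻¹

theorem g_aux : ∀ g ∈ pA, (∀ n ∈ pA, fρ g n = g → n = D * W) → g = D * W ∨ g = D * W * (A * Z) ∨
    (fρ g (fρ g g) ≠ D * W ∧ fρ g (fρ g (fρ g (fρ g (fρ g g)))) = D * W) ∨
    (fw g (fw g (D * W)) ≠ D * W ∧ fw g (fw g (fw g (fw g (D * W)))) = D * W) := by decide +kernel

theorem fρ_mem : ∀ g ∈ pA, ∀ n ∈ pA, fρ g n ∈ pA ∧ fw g n ∈ pA := by decide +kernel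

theorem fV : ∀ g ∈ pA, ∀ n ∈ [T, A, Z], n ∈ pA ∧ fρ g (fρ g (fρ g n)) = n ∧ fw g (fw g n) = n := by
  decide +kernel

theorem Sit.rho (h : Sit j ρ κ) (b : Bt j β) (hd : Ac j β D D) :
    ∃ (j' : P →* G) (ρ' : G), Sit j' ρ' κ ∧ Bt j' β ∧ Ac j' β D D ∧ Ac j' ρ' (D * W) (D * W) := by
  have sy := h.sylA
  have mt : ∀ {g}, Ac j g T T → g ∈ centralizer ({j T} : Set G) := fun e =>
    mem_centralizer_singleton_iff.2 e.comm
  obtain ⟨c, hc, r, hr, rfl⟩ := sy.frattini (g := ρ) (le_norm_inf (H := zpowers ρ)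
    (le_norm_of_le (zpowers_le.2 (mt h.ρt))) (le_norm_cent (zpowers_le.2
      (normV h.ρa h.ρz (by decide +kernel) (by decide +kernel)))) (mem_zpowers ρ))
  have cv : ∀ n ∈ pV, Ac j c⁻¹ n n := fun n hn => (Ac.of_comm (hc.2 _ ⟨n, hn, rfl⟩).symm).symm
  have ct : Ac j c⁻¹ T T := (Ac.of_comm (mem_centralizer_singleton_iff.1 hc.1)).symm
  have rt : Ac j r T T := by simpa using h.ρt.comp ct
  have rz : Ac j r Z A := by simpa using h.ρz.comp (cv _ (by decide +kernel))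
  have ra : Ac j r A (A * Z) := by simpa using h.ρa.comp (cv _ (by decide +kernel))
  have h' : Sit j r κ := ⟨h.inj, h.syl, h.fus, h.nz, rt, rz, ra, h.κt, h.κw, h.κq⟩
  obtain ⟨g, hg, e⟩ := Ac.of_norm hr (show D * W ∈ pA by decide +kernel)
  have a1 : ∀ {n}, n ∈ pA → Ac j r n (fρ g n) := acA rt e ra rz
  have a2 : ∀ {n}, n ∈ pA → Ac j (j W * r) n (fw g n) := fun hn => (a1 hn).comp (.inn W _)
  have m1 : ∀ {n}, n ∈ pA → fρ g n ∈ pA := fun hn => (fρ_mem g hg _ hn).1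
  have m2 : ∀ {n}, n ∈ pA → fw g n ∈ pA := fun hn => (fρ_mem g hg _ hn).2
  have gA : D * W ∈ pA := by decide +kernel
  have key : ∀ {x : G} {f : P → P}, (∀ {n}, n ∈ pA → Ac j x n (f n)) → (∀ {n}, n ∈ pA → f n ∈ pA) →
      (∀ n ∈ [T, A, Z], n ∈ pA ∧ f n = n) → f (f (D * W)) = D * W → f (D * W) = D * W := by
    intro x f a m v e
    have v' : ∀ n ∈ [T, A, Z], Ac j x n n := fun n hn => (a (v n hn).1).to rfl (v n hn).2
    refine (a gA).uniq h.inj (.of_comm (comm_of_sq sy ⟨mt (v' _ (by simp)), ?_⟩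
      (Ac.norm fun n hn => ⟨_, m hn, a hn⟩) ?_ (((a gA).comp (a (m gA))).to rfl e).comm))
    · rintro _ ⟨n, hn, rfl⟩
      exact ((((v' A (by simp)).bp _).mul ((v' Z (by simp)).bp _)).to (nfV n hn).symm
        (nfV n hn).symm).comm.symm
    · rintro _ ⟨n, hn, rfl⟩
      rw [← map_mul, ← map_mul, (by decide +kernel : ∀ n ∈ pA, n * (D * W) = D * W * n) n hn]
  have eg : fρ g (D * W) = g := (a1 gA).uniq h.inj e
  rcases g_aux g hg (fun n hn k => ((a1 hn).to rfl k).uniq' h.inj e) with rfl | rfl | ⟨k1, k2⟩ | ⟨k1, k2⟩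
  · exact ⟨j, r, h', b, hd, e⟩
  · exact ⟨_, r, h'.comp thZ, b.comp thZ,
      (hd.mul b.z).to (m' := θZ D) (n' := θZ D) (by decide +kernel) (by decide +kernel),
      (e.mul rz).to (m' := θZ (D * W)) (n' := θZ (D * W)) (by decide +kernel) (by decide +kernel)⟩
  · have := key (f := fun n => fρ g (fρ g (fρ g n)))
      (fun hn => ((a1 hn).comp (a1 (m1 hn))).comp (a1 (m1 (m1 hn)))) (fun hn => m1 (m1 (m1 hn)))
      (fun n hn => ⟨(fV g hg n hn).1, (fV g hg n hn).2.1⟩) (by rw [eg]; exact k2)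
    rw [eg] at this
    exact absurd this k1
  · exact absurd (key (f := fun n => fw g (fw g n)) (fun hn => (a2 hn).comp (a2 (m2 hn)))
      (fun hn => m2 (m2 hn)) (fun n hn => ⟨(fV g hg n hn).1, (fV g hg n hn).2.2⟩) k2) k1

/-- The action of `β`. -/
def fβ (a m : P) : P := E (T * Z) D W Q a Z m.1.t m.1.d m.1.w m.1.q m.1.a m.1.z

theorem c_aux : ∀ a : P, a * W = W * Z * a → a * Q = W * Q * a → ∀ n : P, n * W * n⁻¹ = W →
    n * Q * n⁻¹ = Q → fβ a n = n → fβ a a = n * A * n⁻¹ → a = A * T ∨ a = A * Z * T ∨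
      (a = A * D ∨ a = A * D * Z) ∨ ∃ s : P, s * T * s⁻¹ = T ∧ s * D * s⁻¹ = D ∧ s * W * s⁻¹ = W ∧
        s * Q * s⁻¹ = Q ∧ fβ a s * n * s = Z ∧
        (fβ a (s * A * s⁻¹) = A ∨ fβ a (s * (T * D * A) * s⁻¹) = A) := by decide +kernel

/-- A word in two maps. -/
def run {X : Type*} (f g : X → X) : List Bool → X → X
  | [], n => n
  | c :: l, n => run f g l (bif c then f n else g n)

theorem run_ac {x r : G} {f g : P → P} (hf : ∀ n ∈ pA, f n ∈ pA ∧ Ac j x n (f n))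
    (hg : ∀ n ∈ pA, g n ∈ pA ∧ Ac j r n (g n)) (l : List Bool) :
    ∃ y : G, ∀ n ∈ pA, Ac j y n (run f g l n) := by
  induction l with
  | nil => exact ⟨1, fun n _ => by simp [Ac, run]⟩
  | cons c l ih =>
    obtain ⟨y, hy⟩ := ih
    cases c
    · exact ⟨y * r, fun n hn => (hg n hn).2.comp (hy _ (hg n hn).1)⟩
    · exact ⟨y * x, fun n hn => (hf n hn).2.comp (hy _ (hf n hn).1)⟩

theorem m16 : ∀ a ∈ [A * D, A * D * Z], (∀ n ∈ pA, fβ a (Q * n * Q⁻¹) ∈ pA) ∧
    ∃ l ∈ [[true, false, false, true, false, true, false, true],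
      [true, false, true, false, true, false, false, true]],
      run (fun n => fβ a (Q * n * Q⁻¹)) (fρ (D * W)) l T = T ∧
      (run (fun n => fβ a (Q * n * Q⁻¹)) (fρ (D * W)) l Z).1 ∉ M.sD := by decide +kernel

theorem Sit.rel (h : Sit j ρ κ) (b : Bt j β) (hd : Ac j β D D) (hg : Ac j ρ (D * W) (D * W)) :
    ∃ o β', Rel2 o (j T) β' (j D) (j W) (j Q) (j A) (j Z) := by
  obtain ⟨a, ea⟩ := b.nm A
  obtain ⟨n, en, e1, e2⟩ := b.sq'
  have f : ∀ m, Ac j β m (fβ a m) := fun m =>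
    ((((((b.t.bp _).mul (hd.bp _)).mul (b.w.bp _)).mul (b.q.bp _)).mul (ea.bp _)).mul
      (b.z.bp _)).to (nf m).symm rfl
  have zt : IsConj (j (A * T)) (j T) := (h.ρz.mul h.ρt).isConj.symm.trans
    ((b.z.mul b.t).to rfl (by decide +kernel)).isConj
  rcases c_aux a (((ea.mul b.w).to (by decide +kernel) rfl).uniq h.inj ((b.w.mul b.z).mul ea))
    (((ea.mul b.q).to (by decide +kernel) rfl).uniq h.inj ((b.w.mul b.q).mul ea)) n
    ((e2 W).uniq h.inj (b.w.comp b.w)) ((e2 Q).uniq h.inj (b.q.comp b.q)) ((f n).uniq h.inj e1)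
    ((ea.comp (f a)).uniq h.inj (e2 A)) with rfl | rfl | k | ⟨s, s1, s2, s3, s4, s5, s6⟩
  · exact absurd ((h.ρz.comp ea).isConj.trans zt) h.nz
  · exact absurd (((h.ρz.comp ea).isConj.trans (h.ρa.mul h.ρt).isConj.symm).trans zt) h.nz
  · obtain ⟨k1, l, -, k2, k3⟩ := m16 a (by simpa using k)
    obtain ⟨y, hy⟩ := run_ac (fun n hn => ⟨k1 n hn, (Ac.inn Q n).comp (f _)⟩)
      (fun n hn => ⟨(fρ_mem _ (by decide +kernel) n hn).1, acA h.ρt hg h.ρa h.ρz hn⟩) l
    exact absurd (h.fus y _ _ ((hy T (by decide +kernel)).to rfl k2) (hy Z (by decide +kernel))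
      (by decide +kernel)) k3
  · have c : ∀ {m n}, s * m * s⁻¹ = m → Ac j β m n → Ac j (β * j s) m n := fun e k =>
      ((Ac.inn s _).to rfl e).comp k
    have r : ∀ {m n : P}, m = n → j m = j n := congrArg j
    have bb : β * j s * (β * j s) = j Z := by
      rw [← s5, map_mul, map_mul, ← f s, ← en]; group
    have bt : β * j s * j T = j T * (β * j s) * j Z := by
      rw [mul_assoc (j T), (c (m := Z) ((by decide +kernel : ∀ s : P, s * Z * s⁻¹ = Z) s) b.z).comm,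
        ← mul_assoc (j T), ← map_mul, ← c s1 b.t, inv_mul_cancel_right]
    have R : ∀ o, j A * (β * j s) = β * j s * bp (j T * j D) o * j A →
        Rel2 o (j T) (β * j s) (j D) (j W) (j Q) (j A) (j Z) := fun o ab => by
      refine ⟨?_, bb, ?_, ?_, ?_, ?_, ?_, bt, ?_, ?_, ?_, ?_, (c s2 hd).comm.symm,
        (c s3 b.w).comm.symm, (c s4 b.q).comm.symm, ab, ?_, ?_, ?_, ?_, ?_, ?_, ?_, ?_⟩ <;>
      simp only [← map_mul, ← map_one j] <;> exact r (by decide +kernel)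
    rcases s6 with k | k
    · refine ⟨false, _, R _ ?_⟩
      rw [show bp (j T * j D) false = 1 from rfl, mul_one]
      exact (((Ac.inn s A).comp (f _)).to rfl k).comm.symm
    · refine ⟨true, _, R _ ?_⟩
      have := ((Ac.inn s (T * D * A)).comp (f _)).to rfl k
      rw [show bp (j T * j D) true = j T * j D from rfl, mul_assoc _ (j T * j D), ← map_mul, ← map_mul]
      exact (mul_inv_eq_iff_eq_mul.1 this).symm

end P

section M
open M
variable {o : Bool}

/-- The element of the model of `S` with the same coordinates. -/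
def cast (m : M o) (h : m ∈ (sS : Subgroup (M o))) : P := ⟨⟨m.v, m.h⟩, h⟩

theorem nfM (o : Bool) : ∀ m : M o, m ∈ (sS : Subgroup (M o)) →
    m = E T D W Q A Z m.t m.d m.w m.q m.a m.z := by cases o <;> decide +kernel

theorem cT (o : Bool) : ∀ m : M o, m * T = T * m ↔ m ∈ (sS : Subgroup (M o)) := by
  cases o <;> decide +kernel

theorem nfQ (o : Bool) : ∀ m : M o, m ∈ (sQ : Subgroup (M o)) → m = bp W m.w * bp Q m.q * bp Z m.z := by
  cases o <;> decide +kernel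

theorem q_aux (o : Bool) : ∀ m : M o, m ∈ (sD : Subgroup (M o)) → m * m ≠ 1 → m * m * (m * m) = 1 →
    m ∈ (sQ : Subgroup (M o)) := by cases o <;> decide +kernel

theorem cQ (o : Bool) : ∀ m : M o, m ∈ (sR : Subgroup (M o)) ↔
    ∀ n ∈ (sQ : Subgroup (M o)), n * m = m * n := by cases o <;> decide +kernel

theorem rT (o : Bool) : ∀ m : M o, m * Z = Z * m ∧ (m * T * m⁻¹ = T ∨ m * T * m⁻¹ = T * Z) := by
  cases o <;> decide +kernel

theorem r_aux (o : Bool) : ∀ d : M o, d ∈ (sR : Subgroup (M o)) → d * d = Z → T * d = d * T →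
    ∀ b : M o, b ∈ (sR : Subgroup (M o)) → b * b = Z → b * T = T * b * Z → d * b = b * d →
      (d = D ∨ d = D * Z) ∧ (b = B ∨ b = B * Z ∨ b = B * T * D ∨ b = B * T * D * Z) := by
  cases o <;> decide +kernel

variable {ι : M o →* G} {κ κ' : G} {m n k m' n' : M o}

/-- The action modulo `z`. -/
def Ez (ι : M o →* G) (h : G) (m n : M o) : Prop := Ac ι h m n ∨ Ac ι h m (n * Z)

theorem zz (m : M o) : m * Z * Z = m := by
  rw [mul_assoc, (by cases o <;> decide +kernel : (Z : M o) * Z = 1), mul_one]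

theorem Ez.z (a : Ez ι κ m (n * Z)) : Ez ι κ m n := a.symm.imp_left fun e => e.to rfl (zz n)

theorem Ez.comp (a : Ez ι κ m n) (b : Ez ι κ' n k) (hz : Ac ι κ' Z Z) : Ez ι (κ' * κ) m k := by
  rcases a with a | a <;> rcases b with b | b
  exacts [.inl (a.comp b), .inr (a.comp b), .inr (a.comp (b.mul hz)),
    .inl ((a.comp (b.mul hz)).to rfl (zz k))]

theorem Ez.mul (a : Ez ι κ m n) (b : Ez ι κ m' n') : Ez ι κ (m * m') (n * n') := by
  have e : n * Z * n' = n * n' * Z := by rw [mul_assoc, ← (rT o n').1, mul_assoc]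
  rcases a with a | a <;> rcases b with b | b
  exacts [.inl (a.mul b), .inr ((a.mul b).to rfl (mul_assoc _ _ _).symm), .inr ((a.mul b).to rfl e),
    .inl ((a.mul b).to rfl (by rw [← mul_assoc, e, zz]))]

theorem kappa (inj : Function.Injective ι)
    (syl : IsSylowIn 2 (sS.map ι) (centralizer ({ι T} : Set G)))
    (fus : ∀ h m n, Ac ι h T T → Ac ι h m n → m ∈ (sD : Subgroup (M o)) → n ∈ (sD : Subgroup (M o)))
    (kt : Ac ι κ T T) (kw : Ez ι κ W Q) (kq : Ez ι κ Q (W * Q)) : ∃ κ : G, Ac ι κ T T ∧ Ac ι κ Z Z ∧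
      Ez ι κ B B ∧ Ez ι κ D D ∧ Ez ι κ W Q ∧ Ez ι κ Q (W * Q) := by
  have z2 : ι Z * ι Z = 1 := by
    rw [← map_mul, (by cases o <;> decide +kernel : (Z : M o) * Z = 1), map_one]
  have nq : ∀ {g w q}, Ac ι g W w → Ac ι g Q q → w ∈ (sQ : Subgroup (M o)) →
      q ∈ (sQ : Subgroup (M o)) → g ∈ normalizer (sQ.map ι : Set G) := fun a b w1 q1 =>
    Ac.norm fun m hm => ⟨_, mul_mem (mul_mem (bp_mem w1 _) (bp_mem q1 _)) (bp_mem (mul_mem w1 w1) _),
      (((a.bp _).mul (b.bp _)).mul (((a.mul a).to (by cases o <;> decide +kernel) rfl).bp _)).to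
        (nfQ o m hm).symm rfl⟩
  have cq : ∀ m ∈ (sR : Subgroup (M o)), ι m ∈ centralizer (sQ.map ι : Set G) := fun m hm => by
    rintro _ ⟨n, hn, rfl⟩
    rw [← map_mul, (cQ o m).1 hm n hn, map_mul]
  have s0 := syl_cent (X := sQ.map ι) syl (map_mono (by cases o <;> decide +kernel :
      ∀ m ∈ (sQ : Subgroup (M o)), m ∈ (sS : Subgroup (M o)))) fun g hg le => by
    have gt : Ac ι g T T := .of_comm (mem_centralizer_singleton_iff.1 hg)
    have k : ∀ m ∈ (sQ : Subgroup (M o)), m ∈ (sD : Subgroup (M o)) → m * m ≠ 1 →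
        m * m * (m * m) = 1 → ∃ n ∈ (sQ : Subgroup (M o)), Ac ι g m n := fun m h1 h2 h3 h4 => by
      obtain ⟨n, -, e⟩ := le (conj_mem_cj ⟨m, h1, rfl⟩)
      replace e : Ac ι g m n := e.symm
      exact ⟨n, q_aux o n (fus _ _ _ gt e h2) (fun k => h3 (((e.mul e).to rfl k).uniq' inj .one))
        ((((e.mul e).mul (e.mul e)).to h4 rfl).uniq inj .one), e⟩
    obtain ⟨w, w1, ew⟩ := k W (by cases o <;> decide +kernel) (by cases o <;> decide +kernel)
      (by cases o <;> decide +kernel) (by cases o <;> decide +kernel)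
    obtain ⟨q, q1, eq⟩ := k Q (by cases o <;> decide +kernel) (by cases o <;> decide +kernel)
      (by cases o <;> decide +kernel) (by cases o <;> decide +kernel)
    exact ⟨1, one_mem _, by rw [one_mul]; exact nq ew eq w1 q1⟩
  have bR : B ∈ (sR : Subgroup (M o)) := by cases o <;> decide +kernel
  have bt : Ac ι (ι B) (T * Z) T := (Ac.inn B _).to rfl (by cases o <;> decide +kernel)
  have nz : ∀ {g}, g ∈ NZ (ι T) (ι Z) z2 → Ac ι g Z Z ∧ (Ac ι g T T ∨ Ac ι g T (T * Z)) := fun h =>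
    ⟨.of_comm h.1, h.2.imp_right fun e => e.trans (map_mul ι _ _).symm⟩
  have sy : IsSylowIn 2 (sR.map ι) (NZ (ι T) (ι Z) z2 ⊓ centralizer (sQ.map ι : Set G)) := by
    refine ⟨?_, ?_, fun R hR p le => le_antisymm (fun x hx => ?_) le⟩
    · rintro _ ⟨m, hm, rfl⟩
      refine ⟨⟨by rw [← map_mul, (rT o m).1, map_mul], ?_⟩, cq m hm⟩
      simpa only [← map_mul, ← map_inv, inj.eq_iff] using (rT o m).2
    · exact (IsPGroup.of_card (n := 4) ((card_sub _ _).trans (by cases o <;> decide +kernel))).map ι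
    · have e := s0.max (R ⊓ centralizer {ι T}) (le_inf inf_le_right
        (inf_le_left.trans (hR.trans inf_le_right))) (p.to_le inf_le_left) (by
          rintro _ ⟨⟨m, hm, rfl⟩, c⟩
          exact ⟨le ⟨m, (cQ o m).2 fun n hn => inj (by
            rw [map_mul, map_mul]; exact c _ ⟨n, hn, rfl⟩), rfl⟩, syl.le ⟨m, hm, rfl⟩⟩)
      have k : ∀ y ∈ R, Ac ι y T T → y ∈ sR.map ι := fun y hy a => by
        obtain ⟨⟨m, -, rfl⟩, c⟩ := e.le ⟨hy, mem_centralizer_singleton_iff.2 a.comm⟩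
        exact ⟨m, (cQ o m).2 fun n hn => inj (by
          rw [map_mul, map_mul]; exact c _ ⟨n, hn, rfl⟩), rfl⟩
      rcases (nz (hR hx).1).2 with a | a
      · exact k x hx a
      · exact (mul_mem_cancel_left (mem_map_of_mem ι bR)).1 (k _ (mul_mem (le ⟨B, bR, rfl⟩) hx) (a.comp bt))
  have kz : Ac ι κ Z Z := by
    rcases kw with e | e <;>
      exact (e.mul e).to (by cases o <;> decide +kernel) (by cases o <;> decide +kernel)
  have kN : κ ∈ NZ (ι T) (ι Z) z2 := ⟨kz.comm, .inl kt⟩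
  have kQ : κ ∈ normalizer (sQ.map ι : Set G) := by
    rcases kw with e | e <;> rcases kq with e' | e' <;>
      exact nq e e' (by cases o <;> decide +kernel) (by cases o <;> decide +kernel)
  obtain ⟨c, hc, r, hr, rfl⟩ := sy.frattini (g := κ) (le_norm_inf (H := zpowers κ)
    (le_norm_of_le (zpowers_le.2 kN)) (le_norm_cent (zpowers_le.2 kQ)) (mem_zpowers κ))
  obtain ⟨c1, c2⟩ := mem_inf.1 hc
  have cv : ∀ {x}, x ∈ centralizer (sQ.map ι : Set G) → ∀ n ∈ (sQ : Subgroup (M o)), Ez ι x n n :=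
    fun hx n hn => .inl (Ac.of_comm (hx _ ⟨n, hn, rfl⟩).symm)
  have q1 : Q ∈ (sQ : Subgroup (M o)) := by cases o <;> decide +kernel
  have q2 : W * Q ∈ (sQ : Subgroup (M o)) := by cases o <;> decide +kernel
  have rN := nz ((mul_mem_cancel_left c1).1 kN)
  have rw : Ez ι r W Q := by simpa using kw.comp (cv (inv_mem c2) _ q1) (nz (inv_mem c1)).1
  have rq : Ez ι r Q (W * Q) := by simpa using kq.comp (cv (inv_mem c2) _ q2) (nz (inv_mem c1)).1
  obtain ⟨x, hx, xt, xz, xw, xq⟩ : ∃ x ∈ normalizer (sR.map ι : Set G), Ac ι x T T ∧ Ac ι x Z Z ∧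
      Ez ι x W Q ∧ Ez ι x Q (W * Q) := by
    have bz : Ac ι (ι B) Z Z := (Ac.inn B _).to rfl (by cases o <;> decide +kernel)
    rcases rN.2 with a | a
    · exact ⟨r, hr, a, rN.1, rw, rq⟩
    · exact ⟨ι B * r, mul_mem (le_normalizer ⟨B, bR, rfl⟩) hr, a.comp bt, rN.1.comp bz,
        rw.comp (cv (cq _ bR) _ q1) bz, rq.comp (cv (cq _ bR) _ q2) bz⟩
  obtain ⟨d, d1, ed⟩ := Ac.of_norm hx (show D ∈ (sR : Subgroup (M o)) by cases o <;> decide +kernel)
  obtain ⟨b, b1, eb⟩ := Ac.of_norm hx bR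
  obtain ⟨k1, k2⟩ := r_aux o d d1 (((ed.mul ed).to (by cases o <;> decide +kernel) rfl).uniq inj xz)
    (((xt.mul ed).to (by cases o <;> decide +kernel) rfl).uniq inj (ed.mul xt)) b b1
    (((eb.mul eb).to (by cases o <;> decide +kernel) rfl).uniq inj xz)
    (((eb.mul xt).to (by cases o <;> decide +kernel) rfl).uniq inj ((xt.mul eb).mul xz))
    (((ed.mul eb).to (by cases o <;> decide +kernel) rfl).uniq inj (eb.mul ed))
  have xd : Ez ι x D D := k1.imp (fun e => ed.to rfl e) fun e => ed.to rfl e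
  have xb : Ez ι (x * x) B B := by
    have k : Ez ι x B (B * T * D) → Ez ι (x * x) B B := fun e => by
      have := e.comp ((e.mul (.inl xt)).mul xd) xz
      rw [(by cases o <;> decide +kernel : (B : M o) * T * D * T * D = B * Z)] at this
      exact this.z
    rcases k2 with rfl | rfl | rfl | rfl
    exacts [.inl (eb.comp eb), Ez.comp (.inr eb) (.inr eb) xz, k (.inl eb), k (.inr eb)]
  have xp : Ez ι x (W * Q) W := by
    have := xw.mul xq
    rwa [(by cases o <;> decide +kernel : (Q : M o) * (W * Q) = W)] at this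
  exact ⟨x * x * (x * x), (xt.comp xt).comp (xt.comp xt), (xz.comp xz).comp (xz.comp xz),
    xb.comp xb (xz.comp xz), (xd.comp xd xz).comp (xd.comp xd xz) (xz.comp xz),
    (xw.comp xq xz).comp (xp.comp xw xz) (xz.comp xz),
    (xq.comp xp xz).comp (xw.comp xq xz) (xz.comp xz)⟩

end M

theorem t2 : T2S.{u} := by
  intro G _ _ t h g1
  obtain ⟨j0, s0, a1, a2, a3⟩ := start h g1
  obtain ⟨β0, b0⟩ := s0.beta a1 a2 a3
  obtain ⟨j1, s1, b1, d1⟩ := s0.delta b0
  obtain ⟨j, ρ, s, b, d, g⟩ := s1.rho b1 d1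
  obtain ⟨o, β, R⟩ := s.rel b d g
  obtain ⟨ι, it, ib, id, iw, iq, ia, iz⟩ := M.exists_hom R
  have z1 : ι .Z ≠ 1 := iz ▸ fun e => absurd (s.inj (e.trans (map_one j).symm)) (by decide +kernel)
  have inj := M.inj_of ι z1
  have ca : ∀ m hm, ι m = j (cast m hm) := fun m hm => by
    refine (congrArg ι (nfM o m hm)).trans (Eq.trans ?_ (congrArg j (P.nf (cast m hm))).symm)
    rw [map_E, map_E, it, id, iw, iq, ia, iz]
    rfl
  have syl : IsSylowIn 2 (M.sS.map ι) (centralizer ({ι .T} : Set G)) := by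
    rw [it]
    convert s.syl using 1
    refine le_antisymm ?_ ?_
    · rintro _ ⟨m, hm, rfl⟩
      exact ⟨_, (ca m hm).symm⟩
    · rintro _ ⟨m, rfl⟩
      exact ⟨⟨m.1.v, m.1.h⟩, m.2, ca _ m.2⟩
  have fus : ∀ h m n, Ac ι h .T .T → Ac ι h m n → m ∈ (M.sD : Subgroup (M o)) →
      n ∈ (M.sD : Subgroup (M o)) := fun h m n ht e hm => by
    have m1 : m ∈ (M.sS : Subgroup (M o)) :=
      (by cases o <;> decide +kernel : ∀ m ∈ (M.sD : Subgroup (M o)), m ∈ (M.sS : Subgroup (M o))) m hm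
    have n1 := (cT o n).1 (((e.mul ht).to ((cT o m).2 m1) rfl).uniq inj (ht.mul e))
    rw [Ac, it] at ht
    rw [Ac, ca m m1, ca n n1] at e
    exact s.fus h _ _ ht e hm
  obtain ⟨κ, kt, kz, kb, kd, kw, kq⟩ := kappa (κ := h.κ) inj syl fus (by rw [Ac, it]; exact s.κt)
    (by simpa only [Ez, Ac, map_mul, iw, iq, iz] using s.κw)
    (by simpa only [Ez, Ac, map_mul, iw, iq, iz] using s.κq)
  refine ⟨o, ⟨⟨ι, inj, syl, fun h ht m n hm e => fus h m n (.of_comm ht) e hm,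
    by rw [it, iz]; exact s.nz, ρ, by rw [it]; exact s.ρt.comm, by rw [iz, ia]; exact s.ρz,
    by rw [map_mul, iz, ia, ← map_mul]; exact s.ρa, fun _ => ?_, κ, kt.comm, kz.comm, kb, kd, kw, kq⟩⟩⟩
  rw [M.Gm, map_mul, id, iw, ← map_mul]
  exact g.comm

end Cfsg.Agent.H64.T2
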