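import Cfsg.Agent.H2.BG12D

/-! Bender-Glauberman 12.13 - 12.19 (mathcomp names); proofs in `H2.BG12D`. -/

namespace Cfsg.Agent.H64

export Cfsg.Agent.H2 (nonabelian_Uniqueness cent_der_sigma_uniq sigma_subgroup_embedding sigma_Jsub
  sigma_compl_embedding cent_Malpha_reg_tau1 der_compl_cent_beta')

end Cfsg.Agent.H64
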