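import Cfsg.Agent.H64.BG12C
import Cfsg.Agent.H64.BG12D

/-! Bender-Glauberman section 12: pieces A (12.1-12.6), B (12.7-12.10), C (12.11-12.12), D (12.13-12.19). -/
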