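import Cfsg.Agent.H17.TwA

/-!
# The signalizer engine for balanced families of subgroups of an elementary abelian group
-/

set_option autoImplicit false

namespace Cfsg.Agent.H64.A12Sig

open Subgroup Cfsg.Agent.H89.TG Cfsg.Agent.H89.Rec Cfsg.Agent.H17.Tw

universe u

variable {G : Type u} [Group G]

local notation "C[" A "]" => Subgroup.centralizer (SetLike.coe A)

theorem ea_le {A U : Subgroup G} (hA : EA A) (hU : U ≤ A) : A ≤ C[U] := fun a ha b hb =>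
  commute_of_sq (hA b (hU hb)) (hA a ha) (hA _ (mul_mem (hU hb) ha))

theorem mem_C_sup {U : Subgroup G} {y a : G} (h1 : y ∈ C[U]) (h2 : Commute y a) :
    y ∈ C[U ⊔ zpowers a] := fun _ hh => mem_centralizer_singleton_iff.1
  ((sup_le (fun u hu => mem_centralizer_singleton_iff.2 (h1 u hu))
    (zpowers_le.2 (mem_centralizer_singleton_iff.2 h2.symm.eq)) : _ ≤ centralizer {y}) hh)

theorem lt_sup {U : Subgroup G} {a : G} (h : a ∉ U) : U < U ⊔ zpowers a :=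
  left_lt_sup.2 (mt zpowers_le.1 h)

/-- The functor on subgroups. -/
def θ (𝓓 : Set (Subgroup G)) (U : Subgroup G) : Subgroup G := ⨆ D ∈ 𝓓, oc C[D] ⊓ C[U]

variable {𝓓 : Set (Subgroup G)} {A : Subgroup G}

theorem le_θ {D : Subgroup G} (h : D ∈ 𝓓) (U : Subgroup G) : oc C[D] ⊓ C[U] ≤ θ 𝓓 U :=
  le_iSup₂ (f := fun D (_ : D ∈ 𝓓) => oc C[D] ⊓ C[U]) D h

theorem θ_le (U : Subgroup G) : θ 𝓓 U ≤ C[U] := iSup₂_le fun _ _ => inf_le_right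

theorem θ_anti {U U' : Subgroup G} (h : U ≤ U') : θ 𝓓 U' ≤ θ 𝓓 U :=
  iSup₂_mono fun _ _ => inf_le_inf_left _ (centralizer_le h)

variable [Finite G]

theorem exists_compl {U : Subgroup G} (hA : EA A) (hU : U ≤ A) :
    ∃ B ≤ A, (∀ b ∈ B, b ≠ 1 → b ∉ U) ∧ (∀ x ∈ A, ∃ u ∈ U, ∃ b ∈ B, u * b = x) ∧
      Nat.card A ≤ Nat.card U * Nat.card B := by
  have := Fact.mk Nat.prime_two
  obtain ⟨B, h1, h2, h3⟩ := H71.exists_compl_of_elem (p := 2) (V := A)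
    ⟨⟨⟨fun a b => Subtype.ext (ea_le hA le_rfl b.2 a a.2)⟩⟩, fun a ha => by rw [pow_two, hA a ha]⟩ hU
  have h4 : ∀ x ∈ A, ∃ u ∈ U, ∃ b ∈ B, u * b = x := fun x hx => by
    have : x ∈ ((U ⊔ B : Subgroup G) : Set G) := h3.symm ▸ hx
    rwa [coe_mul_of_left_le_normalizer_right U B
      (hU.trans ((ea_le hA h1).trans (centralizer_le_normalizer _)))] at this
  refine ⟨B, h1, fun b hb e k => e (mem_bot.1 (h2 ▸ ⟨k, hb⟩)), h4, ?_⟩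
  rw [← Nat.card_prod]
  refine Nat.card_le_card_of_surjective
    (fun p : U × B => (⟨p.1 * p.2, mul_mem (hU p.1.2) (h1 p.2.2)⟩ : A)) fun x => ?_
  obtain ⟨u, hu, b, hb, e⟩ := h4 x x.2
  exact ⟨(⟨u, hu⟩, ⟨b, hb⟩), Subtype.ext e⟩

theorem gen4 {B Y L : Subgroup G} (hB : EA B) (h3 : 2 < Nat.card B) (hY : Odd (Nat.card Y))
    (hN : ∀ b ∈ B, ∀ y ∈ Y, b * y * b⁻¹ ∈ Y)
    (h : ∀ b ∈ B, b ≠ 1 → ∀ y ∈ Y, Commute y b → y ∈ L) : Y ≤ L := by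
  have := Fintype.ofFinite B
  rw [Nat.card_eq_fintype_card, Fintype.two_lt_card_iff] at h3
  obtain ⟨x, y, z, h1, h2, h3⟩ := h3
  have ha := (x⁻¹ * y).2
  have hb := (x⁻¹ * z).2
  have a1 : ((x⁻¹ * y : B) : G) ≠ 1 := fun e => h1 (inv_mul_eq_one.1 (Subtype.ext e))
  have b1 : ((x⁻¹ * z : B) : G) ≠ 1 := fun e => h2 (inv_mul_eq_one.1 (Subtype.ext e))
  have ab : ((x⁻¹ * y : B) : G) ≠ (x⁻¹ * z : B) := fun e => h3 (mul_left_cancel (Subtype.ext e))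
  exact four_gen (hB _ ha) (hB _ hb) (ea_le hB le_rfl hb _ ha) a1 b1 ab hY (mem_nrm (hN _ ha))
    (mem_nrm (hN _ hb)) (h _ ha a1) (h _ hb b1) (h _ (mul_mem ha hb) fun e =>
      ab (mul_right_cancel (e.trans (hB _ hb).symm)))

theorem cj_mem {D U : Subgroup G} {g y : G} (h1 : g ∈ C[D]) (h2 : g ∈ C[U])
    (hy : y ∈ oc C[D] ⊓ C[U]) : g * y * g⁻¹ ∈ oc C[D] ⊓ C[U] :=
  ⟨nrm_conj (oc_nrm (le_normalizer h1)) hy.1, C[U].mul_mem (C[U].mul_mem h2 hy.2) (C[U].inv_mem h2)⟩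

theorem θ_inv (hA : EA A) (hD : ∀ D ∈ 𝓓, D ≤ A) {U : Subgroup G} (hU : U ≤ A) {a : G} (ha : a ∈ A) :
    ∀ y ∈ θ 𝓓 U, a * y * a⁻¹ ∈ θ 𝓓 U :=
  iSup₂_le (a := comap (MulAut.conj a).toMonoidHom (θ 𝓓 U)) fun D h _ hy =>
    le_θ h U (cj_mem (ea_le hA (hD D h) ha) (ea_le hA hU ha) hy)

theorem θ_good (hb : ∀ D ∈ 𝓓, ∀ D' ∈ 𝓓, oc C[D] ⊓ C[D'] ≤ oc C[D']) {D U : Subgroup G}
    (h : D ∈ 𝓓) (hU : D ≤ U) : θ 𝓓 U ≤ oc C[D] ⊓ C[U] :=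
  iSup₂_le fun D' h' _ hy => ⟨hb D' h' D h ⟨hy.1, centralizer_le hU hy.2⟩, hy.2⟩

theorem key (hA : EA A) (hD : ∀ D ∈ 𝓓, D ≤ A)
    (hc : ∀ U ≤ A, Nat.card A ≤ 4 * Nat.card U → ∃ D ∈ 𝓓, D ≤ U)
    (hb : ∀ D ∈ 𝓓, ∀ D' ∈ 𝓓, oc C[D] ⊓ C[D'] ≤ oc C[D']) (U : Subgroup G) (hU : U ≤ A) :
    Odd (Nat.card (θ 𝓓 U)) ∧ ∀ U', U ≤ U' → U' ≤ A → θ 𝓓 U ⊓ C[U'] ≤ θ 𝓓 U' := by
  induction U using WellFoundedGT.induction with
  | ind U ih =>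
  by_cases g : ∃ D ∈ 𝓓, D ≤ U
  · obtain ⟨D, h1, h2⟩ := g
    exact ⟨(oc_odd _).of_dvd_nat (card_dvd_of_le ((θ_good hb h1 h2).trans inf_le_left)),
      fun U' _ _ y hy => le_θ h1 U' ⟨(θ_good hb h1 h2 hy.1).1, hy.2⟩⟩
  obtain ⟨B, h1, h2, h3, h4⟩ := exists_compl hA hU
  have hB : EA B := fun b hb => hA b (h1 hb)
  have h8 : 8 ≤ Nat.card B := by
    have := Fact.mk Nat.prime_two
    obtain ⟨n, hn⟩ := IsPGroup.iff_card.1 (show IsPGroup 2 B from fun b =>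
      ⟨1, Subtype.ext (by simpa [pow_two] using hB b b.2)⟩)
    have h5 : ¬ Nat.card B ≤ 4 := fun e =>
      g (hc U hU (h4.trans (by rw [mul_comm]; exact Nat.mul_le_mul_right _ e)))
    rw [hn] at h5 ⊢
    exact Nat.pow_le_pow_right (i := 3) two_pos (not_lt.1 fun e =>
      h5 (Nat.pow_le_pow_right (j := 2) two_pos (by omega)))
  have le : ∀ a ∈ B, U ⊔ zpowers a ≤ A := fun a ha => sup_le hU (zpowers_le.2 (h1 ha))
  have ih' := fun a ha a1 => ih _ (lt_sup (h2 a ha a1)) (le a ha)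
  obtain ⟨W, w1, w2, w3, -⟩ := signal hB h8 (fun a => θ 𝓓 (U ⊔ zpowers a))
    (fun a _ _ y hy => (θ_le _ hy a (mem_sup_right (mem_zpowers a))).symm)
    (fun a ha a1 => (ih' a ha a1).1) (fun a ha _ b hb => θ_inv hA hD (le a ha) (h1 hb))
    fun a ha a1 b hb _ y hy e => θ_anti (sup_le_sup_right le_sup_left _) ((ih' a ha a1).2 _
      le_sup_left (sup_le (le a ha) (zpowers_le.2 (h1 hb))) ⟨hy, mem_C_sup (θ_le _ hy) e⟩)
  have w4 : θ 𝓓 U ≤ W := iSup₂_le fun D h => gen4 hB (by omega)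
    ((oc_odd _).of_dvd_nat (card_dvd_of_le inf_le_left))
    (fun b hb _ => cj_mem (ea_le hA (hD D h) (h1 hb)) (ea_le hA hU (h1 hb)))
    fun b hb b1 y hy e => w2 b hb b1 (le_θ h _ ⟨hy.1, mem_C_sup hy.2 e⟩)
  refine ⟨w1.of_dvd_nat (card_dvd_of_le w4), fun U' k1 k2 y hy => ?_⟩
  by_cases e : U' ≤ U
  · exact le_antisymm k1 e ▸ hy.1
  obtain ⟨x, hx, e⟩ := SetLike.not_le_iff_exists.1 e
  obtain ⟨u, hu, a, ha, rfl⟩ := h3 x (k2 hx)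
  have a1 : a ≠ 1 := by
    rintro rfl
    exact e (by simpa using hu)
  have aU := (mul_mem_cancel_left (k1 hu)).1 hx
  exact (ih' a ha a1).2 U' (sup_le k1 (zpowers_le.2 aU)) k2
    ⟨w3 a ha a1 y (w4 hy.1) (hy.2 a aU).symm, hy.2⟩

theorem sig : SigStmt.{u} := fun G _ _ A 𝓓 hA hD hc hb => by
  have e : (⨆ D ∈ 𝓓, oc C[D]) = θ 𝓓 ⊥ := by
    have : C[(⊥ : Subgroup G)] = ⊤ := eq_top_iff.2 fun x _ y hy => by simp [mem_bot.1 hy]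
    simp only [θ, this, inf_top_eq]
  have k := key hA hD hc hb
  rw [e]
  refine ⟨(k ⊥ bot_le).1, fun B hB h g hg => mem_nrm ?_⟩
  suffices ∀ U ≤ B, θ 𝓓 U ≤ comap (MulAut.conj g).toMonoidHom (θ 𝓓 ⊥) from this ⊥ bot_le
  intro U hU
  induction U using WellFoundedGT.induction with
  | ind U ih =>
  by_cases c : Nat.card B ≤ 2 * Nat.card U
  · obtain ⟨D, h1, h2⟩ := h U hU c
    exact fun y hy => θ_anti bot_le (le_θ h1 U (cj_mem (centralizer_le (h2.trans hU) hg)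
      (centralizer_le hU hg) (θ_good hb h1 h2 hy)))
  obtain ⟨B', h1, h2, -, h4⟩ := exists_compl (fun b hb => hA b (hB hb)) hU
  have le : ∀ a ∈ B', U ⊔ zpowers a ≤ B := fun a ha => sup_le hU (zpowers_le.2 (h1 ha))
  exact gen4 (fun b hb => hA b (hB (h1 hb))) (not_le.1 fun e =>
      c (h4.trans (by rw [mul_comm]; exact Nat.mul_le_mul_right _ e))) (k U (hU.trans hB)).1
    (fun b hb => θ_inv hA hD (hU.trans hB) (hB (h1 hb))) fun b hb b1 y hy e =>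
      ih _ (lt_sup (h2 b hb b1)) (le b hb) ((k U (hU.trans hB)).2 _ le_sup_left ((le b hb).trans hB)
        ⟨hy, mem_C_sup (θ_le _ hy) e⟩)

end Cfsg.Agent.H64.A12Sig
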