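import Cfsg.Agent.H64.BG12a2

/-! Bender-Glauberman 12.1 - 12.6 (proved in `BG12a1`, `BG12a2`). -/
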