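import Cfsg.Agent.H64.BG12c2

/-! Bender-Glauberman 12.11 - 12.12: see `BG12c1`, `BG12c2`. -/
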