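import Cfsg.Agent.H73.CVKit
import Cfsg.Agent.H52.C6A2
import Cfsg.Agent.H2.C6Uq

/-!
# Project CV, pieces A2 and UQ
-/

set_option autoImplicit false

namespace Cfsg.Agent.H64.CvA2

open Matrix Cfsg.Geo Cfsg.Agent.H26
open Cfsg.Agent.H25 Cfsg.Agent.H73.CV
open Cfsg.Agent.H25.CU (qF hf subSU qF_eq hf_eq)
open Cfsg.Agent.H25.C6 hiding Fld Mod Bc Low Ar Tri StdStmt NrmStmt EsStmt GeoStmt TpStmt TvStmt OddStmt ZsStmt H3bStmt
  H3cStmt H3dStmt H3Stmt A1Stmt K0Stmt SwStmt PrimStmt RealStmt BigStmt SmallStmt ClsStmt A2Stmt CopStmt Tv5Stmt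
  LiftStmt KbStmt KoddStmt UqStmt One
open Cfsg.Agent.H2C6 (dihedral aa_comm aa_sq)
open scoped MatrixGroups

universe u

theorem a2 : A2Stmt.{u} := by
  intro F _ _ r n p _ ω G hG hp hc
  obtain rfl := hG.fld.r11
  obtain rfl := hG.fld.n5
  exact H52.C6A2.main G H52.C6A2.ids11 (by norm_num) (hG.fld.two_ne hp) hG.notv hc

theorem W_ns {F : Type u} [Field F] [Fintype F] {r n p : ℕ} [Fact r.Prime] {ω : Fˣ}
    (h : Fld r n p ω) (c : Fˣ) : ¬ Rho (gW r ω) (scal (Fin n) c) := fun e => by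
  have h3 := h.three_le
  have e1 := congrFun (congrFun (h.rho_W e) ⟨0, by omega⟩) ⟨1, by omega⟩
  rw [coe_scal, Matrix.smul_apply, one_apply_ne (by simp), smul_zero] at e1
  exact h.wB_ne_zero _ _ e1.symm

theorem uq : UqStmt.{u} := by
  intro F _ _ r n p _ ω G hG _ hone hk s hs hsT ⟨c, hc⟩
  have h := hG.fld
  have hc : scal (ZMod r) c = s * s := hc
  have zA : scalars (ZMod r) F ≤ Aa r F := le_sup_left
  obtain ⟨A, hA⟩ := h.exists_rho hsT
  by_cases hA0 : A ∈ scalars (Fin n) F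
  · obtain ⟨a, rfl⟩ := hA0
    obtain ⟨_, ⟨j, rfl⟩, hm⟩ := hk s ⟨hs, hsT, a, hA⟩
    rw [pow_succ, pow_mul, sq, ← hc] at hm
    exact (mul_mem_cancel_left (pow_mem (zA (scal_mem c)) j)).1 hm
  exfalso
  have WT := h.commute_W_T
  obtain ⟨t, ht⟩ := h.exists_rho WT
  obtain ⟨_, ⟨g, hg, hgT, hgr⟩, d, hd⟩ := hone A ⟨s, hs, hsT, hA⟩ t ⟨_, hG.w, WT, ht⟩ hA0
    (fun ⟨a, ha⟩ => W_ns h a (by rw [show scal (Fin n) a = t from ha]; exact ht))
    ⟨c, h.rho_unique (H2C6.rho_scal c) (hc ▸ hA.mul hA)⟩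
    (by
      rw [h.rho_unique (ht.mul ht) (h.gW_mul_self ▸ (H2C6.rho_scal _).mul H2C6.rho_T)]
      exact mul_mem (scal_mem _) (scal_mem _))
  have c1 : Commute (g * s * g⁻¹) (gT r F) := (hgT.mul_left hsT).mul_left hgT.inv_left
  have s2 : g * s * g⁻¹ * (g * s * g⁻¹) = scal (ZMod r) c := by
    rw [conj_mul, ← hc, (commute_scal c g).eq, mul_inv_cancel_right]
  obtain ⟨m, hm, hm'⟩ := hk (g * s * g⁻¹ * (gW r ω)⁻¹)
    ⟨mul_mem (mul_mem (mul_mem hg hs) (inv_mem hg)) (inv_mem hG.w), c1.mul_left WT.inv_left,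
      d, by rw [show scal (Fin n) d = _ from hd]; exact ((hgr.mul hA).mul hgr.inv).mul ht.inv⟩
  obtain ⟨u, a, ha, e⟩ := dihedral (C := Subgroup.centralizer {gT r F}) (A := Aa r F)
    (fun a ha g hg => aa_comm ha (Subgroup.mem_centralizer_singleton_iff.1 hg))
    (Subgroup.mem_centralizer_singleton_iff.2 WT.eq)
    (Subgroup.mem_centralizer_singleton_iff.2 c1.eq)
    (by
      rw [h.gW_mul_self]
      exact mul_mem (zA (scal_mem _)) (Subgroup.mem_sup_right (Subgroup.mem_zpowers _)))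
    (s2 ▸ zA (scal_mem c)) hm hm'
  have e2 : gW r ω * a * (gW r ω * a) = scal (ZMod r) c := by
    rw [← e, conj_mul, s2, (commute_scal c u).eq, mul_inv_cancel_right]
  rw [mul_assoc, ← mul_assoc a, ← aa_comm ha WT, ← mul_assoc, ← mul_assoc, h.gW_mul_self,
    mul_assoc _ a] at e2
  have e3 := e2 ▸ scal_mem (ι := ZMod r) c
  exact h.gT_not_mem_scalars
    ((mul_mem_cancel_left (scal_mem _)).1 ((mul_mem_cancel_right (aa_sq ha)).1 e3))

end Cfsg.Agent.H64.CvA2
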