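import Cfsg.Agent.H96.D4Defs

/-! S5261: essential subgroups inside `E` in characteristic two (`E1TStmt`). -/

set_option autoImplicit false

namespace Cfsg.Agent.H64.D4E1T

open Cfsg.Agent.H97 Cfsg.Agent.H96.VB Cfsg.Agent.H96.CP Cfsg.Agent.H96.DF Subgroup
open scoped commutatorElement

universe u

variable {F K : Type u} [Field F] [Field K] [Algebra F K] {C : Tri F K}

theorem comm_EW {g w : U C} (hg : g ∈ E C) (hw : w ∈ W C) : ⁅g, w⁆ = 1 := by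
  obtain ⟨h1, h2, h3, h4⟩ := hw
  have h0 := mem_E.1 hg
  ext
  · simp
  · simp
  · simp [comm_y, *]
  · simp [comm_x, *]
  · simp [comm_a, *]
  · simp [comm_z_E h0 h2, *]

theorem comm_EE {g h : U C} (hg : g ∈ E C) (hh : h ∈ E C) : ⁅g, h⁆ ∈ Y C := by
  simp [mem_Y, comm_y, mem_E.1 hg, mem_E.1 hh]

theorem comm_W_iff {g h : U C} (hg : g ∈ E C) (hh : h ∈ E C) :
    ⁅g, h⁆ ∈ W C ↔ C.cr g.t h.y - C.cr h.t g.y = 0 := by
  simp [mem_W, comm_y, comm_x, mem_E.1 hg, mem_E.1 hh]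

theorem comm_Y {v h : U C} (hv : v ∈ Y C) (hh : h ∈ E C) :
    ⁅v, h⁆ = 1 ↔ C.T (h.t * v.x) = 0 ∧ C.T (h.y * v.x) = 0 := by
  obtain ⟨h1, h2, h3⟩ := mem_Y.1 hv
  have h0 := mem_E.1 hh
  rw [U.ext_iff]
  simp [comm_y, comm_x, comm_a, comm_z_E h2 h0, mul_comm, *]

theorem pure {t y : K} (h : C.cr t y = 0) (h0 : ¬ (t = 0 ∧ y = 0)) :
    ∃ k : K, k ≠ 0 ∧ ∃ e1 e2 : F, ¬ (e1 = 0 ∧ e2 = 0) ∧ t = e1 • k ∧ y = e2 • k := by
  by_cases ht : t = 0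
  · exact ⟨y, fun e => h0 ⟨ht, e⟩, 0, 1, by simp, by simp [ht], by simp⟩
  · obtain ⟨c, e, -⟩ := C.cr_eq_zero ht h
    exact ⟨t, ht, 1, c, by simp, by simp, e⟩

theorem prop {k k' : K} {m n : F} (hk : k ≠ 0) (hn : n ≠ 0) (h : m • k' = n • k) :
    ∃ l : F, k' = l • k := by
  have hm : m ≠ 0 := fun e => smul_ne_zero hn hk (by rw [← h, e, zero_smul])
  exact ⟨m⁻¹ * n, by rw [mul_smul, ← h, inv_smul_smul₀ hm]⟩

theorem e1t [Finite K] {p : ℕ} [Fact p.Prime] [CharP F p] : E1TStmt C p := by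
  rintro rfl P hq hE hQ hc
  have two : (2 : F) = 0 := CharP.cast_eq_zero F 2
  have two' : (2 : K) = 0 := by rw [← map_ofNat (algebraMap F K) 2, two, map_zero]
  obtain ⟨A, B, h⟩ := hq.ex
  have cW : ∀ w ∈ W C, ∀ x ∈ P, w * x = x * w := fun w hw x hx =>
    (commutatorElement_eq_one_iff_mul_comm.1 (comm_EW (hE hx) hw)).symm
  have WP : W C ≤ P := fun w hw => h.cen w (cW w hw)
  have iW : Iv A (W C) := fun α hα w hw hW => by
    refine h.g1 w hW _ (hc _ ⟨ext_mem α hw, fun x hx => ?_⟩ ?_) (Rel.ext hα hw)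
    · have hx' := ext_mem α⁻¹ hx
      rw [← ext_ext_inv α x, ← ext_map_mul α hw hx', cW w hW _ hx', ext_map_mul α hx' hw]
    · rw [← ext_map_mul α hw hw, ← ext_map_one α]
      congr 1
      obtain ⟨h1, h2, h3, h4⟩ := hW
      ext <;> simp [← two_mul, *]
  have YE : Y C ≤ E C := fun g hg => (mem_Y.1 hg).2.1
  have cY : ∀ g ∈ Y C, ∀ x ∈ E C, ⁅g, x⁆ ∈ W C := fun g hg x hx => by
    simp [comm_W_iff (YE hg) hx, (mem_Y.1 hg).1, (mem_Y.1 hg).2.2]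
  have YP : Y C ≤ P := fun g hg => h.chain [W C] (by simpa using ⟨WP, iW⟩) g
    ⟨fun x hx => cY g hg x (hE hx), fun x hx => comm_EW (YE hg) hx⟩
  have sq : ∀ g ∈ E C, g * g ∈ W C ↔ C.cr g.t g.y = 0 := fun g hg => by
    simp [mem_W, mem_E.1 hg, ← two_mul, two']
  let P1 : Subgroup (U C) :=
    { carrier := {g | g ∈ P ∧ (∀ x ∈ P, ⁅g, x⁆ ∈ W C) ∧ g * g ∈ W C}
      one_mem' := ⟨one_mem _, fun x _ => by simp [one_mem], by simp [one_mem]⟩
      mul_mem' := fun {a b} ⟨a1, a2, a3⟩ ⟨b1, b2, b3⟩ => ⟨mul_mem a1 b1, fun x hx => by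
        rw [show ⁅a * b, x⁆ = a * ⁅b, x⁆ * a⁻¹ * ⁅a, x⁆ by simp only [commutatorElement_def]; group]
        exact mul_mem (nW.conj_mem _ (b2 x hx) a) (a2 x hx), by
        rw [show a * b * (a * b) = ⁅a, b⁆ * (b * (a * a) * b⁻¹) * (b * b) by
          simp only [commutatorElement_def]; group]
        exact mul_mem (mul_mem (a2 b b1) (nW.conj_mem _ a3 b)) b3⟩
      inv_mem' := fun {a} ⟨a1, a2, a3⟩ => ⟨inv_mem a1, fun x hx => by
        rw [show ⁅a⁻¹, x⁆ = a⁻¹ * ⁅a, x⁆⁻¹ * a⁻¹⁻¹ by simp only [commutatorElement_def]; group]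
        exact nW.conj_mem _ (inv_mem (a2 x hx)) _, by
        rw [← mul_inv_rev]; exact inv_mem a3⟩ }
  have m1 : ∀ g, g ∈ P1 ↔ g ∈ P ∧ (∀ x ∈ P, ⁅g, x⁆ ∈ W C) ∧ g * g ∈ W C := fun _ => Iff.rfl
  have P1P : P1 ≤ P := fun g hg => hg.1
  have i1 : Iv A P1 := (iW.commP.inter iW.sq).congr fun g hg => ⟨fun e => e.2, fun e => ⟨hg, e⟩⟩
  have Y1 : Y C ≤ P1 := fun g hg => ⟨YP hg, fun x hx => cY g hg x (hE hx),
    (sq g (YE hg)).2 (by simp [(mem_Y.1 hg).1])⟩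
  clear_value P1
  have ch : ∀ c ∈ E C, (∀ g ∈ P1, ⁅c, g⁆ ∈ W C) → c ∈ P := fun c hc e =>
    h.chain [P1, W C] (by simpa using ⟨⟨P1P, i1⟩, WP, iW⟩) c
      ⟨fun x hx => Y1 (comm_EE hc (hE hx)), e, fun x hx => comm_EW hc hx⟩
  by_cases hY : P1 ≤ Y C
  · exact .inl (le_antisymm hE fun c hc => ch c hc fun g hg => by
      rw [← commutatorElement_inv]; exact inv_mem (cY g (hY hg) c hc))
  have par : ∀ r ∈ P1, r ∉ Y C → ∃ k : K, k ≠ 0 ∧ ∃ e1 e2 : F, ¬ (e1 = 0 ∧ e2 = 0) ∧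
      r.t = e1 • k ∧ r.y = e2 • k ∧ ∀ g ∈ P, ∃ c : F, e2 • g.t - e1 • g.y = c • k := fun r hr r0 => by
    obtain ⟨r1, r2, r3⟩ := (m1 r).1 hr
    obtain ⟨k, hk, e1, e2, he, et, ey⟩ := pure ((sq r (hE r1)).1 r3) fun e =>
      r0 (mem_Y.2 ⟨e.1, hE r1, e.2⟩)
    refine ⟨k, hk, e1, e2, he, et, ey, fun g hg => ?_⟩
    have := (comm_W_iff (hE r1) (hE hg)).1 (r2 g hg)
    rw [et, ey] at this
    obtain ⟨c, e, -⟩ := C.cr_eq_zero (b := e2 • g.t - e1 • g.y) hk (by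
      rw [← neg_eq_zero, ← this]; d4n; ring)
    exact ⟨c, e⟩
  obtain ⟨r, hr, r0⟩ := SetLike.not_le_iff_exists.1 hY
  obtain ⟨k, hk, e1, e2, he, -, -, hD⟩ := par r hr r0
  by_cases h0 : ∀ g ∈ P, e2 • g.t - e1 • g.y = 0
  · have n1 : e1 ≠ 0 := fun e => hQ fun g hg => by
      have := h0 g hg
      rw [e, zero_smul, sub_zero] at this
      exact (smul_eq_zero.1 this).resolve_left fun e' => he ⟨e, e'⟩
    have h1 : ∀ g ∈ P, g.y = (e1⁻¹ * e2) • g.t := fun g hg => by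
      rw [mul_smul, sub_eq_zero.1 (h0 g hg), inv_smul_smul₀ n1]
    generalize e1⁻¹ * e2 = β at h1
    refine .inr (hq.of_conj (xu C β) fun g => ?_)
    have : xu C β * g * (xu C β)⁻¹ ∈ J' C ↔ g.u = 0 ∧ g.y = β • g.t := by
      simp [mem_J', xu, add_neg_eq_zero]
    rw [this]
    refine ⟨fun ⟨a, b⟩ => ch g a fun x hx => ?_, fun hg => ⟨hE hg, h1 g hg⟩⟩
    rw [comm_W_iff a (hE (P1P hx)), b, h1 x (P1P hx), C.cr_smul, C.cr_smul, C.cr_comm, sub_self]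
  push Not at h0
  obtain ⟨g0, hg0, n0⟩ := h0
  obtain ⟨c0, ec0⟩ := hD g0 hg0
  have c00 : c0 ≠ 0 := fun e => n0 (by rw [ec0, e, zero_smul])
  have all : ∀ g ∈ P1, ∃ a b : F, g.t = a • k ∧ g.y = b • k := fun g hg => by
    by_cases gY : g ∈ Y C
    · exact ⟨0, 0, by simp [(mem_Y.1 gY).1], by simp [(mem_Y.1 gY).2.2]⟩
    obtain ⟨k', hk', f1, f2, hf, et, ey, hD'⟩ := par g hg gY
    suffices ∃ l : F, k' = l • k by
      obtain ⟨l, rfl⟩ := this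
      exact ⟨f1 * l, f2 * l, by rw [et, mul_smul], by rw [ey, mul_smul]⟩
    obtain ⟨c, ec⟩ := hD g (P1P hg)
    obtain ⟨c', ec'⟩ := hD' g0 hg0
    rw [et, ey, smul_smul, smul_smul, ← sub_smul] at ec
    by_cases hδ : e2 * f1 - e1 * f2 = 0
    · have hδ' := congrArg (algebraMap F K) hδ
      by_cases n1 : f1 = 0
      · refine prop (m := e2 * c') (n := f2 * c0) hk (mul_ne_zero (fun e => hf ⟨n1, e⟩) c00) ?_
        rw [mul_smul, mul_smul, ← ec', ← ec0]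
        simp only [Algebra.smul_def, map_sub, map_mul, map_zero] at hδ' ⊢
        linear_combination (-g0.y) * hδ'
      · refine prop (m := e1 * c') (n := f1 * c0) hk (mul_ne_zero n1 c00) ?_
        rw [mul_smul, mul_smul, ← ec', ← ec0]
        simp only [Algebra.smul_def, map_sub, map_mul, map_zero] at hδ' ⊢
        linear_combination (-g0.t) * hδ'
    · exact ⟨(e2 * f1 - e1 * f2)⁻¹ * c, by rw [mul_smul, ← ec, inv_smul_smul₀ hδ]⟩
  have iZ : Iv A (P1 ⊓ centralizer (P1 : Set (U C)) : Subgroup (U C)) :=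
    (i1.inter (Iv.one.comm i1)).congr fun g _ => and_congr_right fun _ =>
      ⟨fun e x _ hx => commutatorElement_eq_one_iff_mul_comm.2 (e x hx).symm,
        fun e x hx => (commutatorElement_eq_one_iff_mul_comm.1 (e x (P1P hx) hx)).symm⟩
  refine .inl (le_antisymm hE fun c hc => h.chain [P1, P1 ⊓ centralizer (P1 : Set (U C)), W C]
    (by simpa using ⟨⟨P1P, i1⟩, ⟨inf_le_left.trans P1P, iZ⟩, WP, iW⟩) c
      ⟨fun x hx => Y1 (comm_EE hc (hE hx)), fun g hg => ?_, fun g hg => ?_, fun x hx => comm_EW hc hx⟩)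
  · have gE := hE (P1P hg)
    refine ⟨Y1 (comm_EE hc gE), fun x hx => (commutatorElement_eq_one_iff_mul_comm.1
      ((comm_Y (comm_EE hc gE) (hE (P1P hx))).2 ?_)).symm⟩
    obtain ⟨a, b, ea, eb⟩ := all g hg
    obtain ⟨a', b', ea', eb'⟩ := all x hx
    have key : ∀ l : F, C.T (l • k * ⁅c, g⁆.x) = 0 := fun l => by
      rw [comm_x, mem_E.1 hc, mem_E.1 gE, ea, eb]
      apply Tri.inj (K := K)
      d4n
      linear_combination (algebraMap F K l * (algebraMap F K b * (C.σ k * C.σ (C.σ k) * c.t +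
        C.σ (C.σ k) * k * C.σ c.t + k * C.σ k * C.σ (C.σ c.t)) - algebraMap F K a *
        (C.σ k * C.σ (C.σ k) * c.y + C.σ (C.σ k) * k * C.σ c.y + k * C.σ k * C.σ (C.σ c.y)))) * two'
    rw [ea', eb']
    exact ⟨key a', key b'⟩
  · have gE := hE (P1P hg.1)
    have key : ∀ x : K, C.T (g.t * x) = 0 ∧ C.T (g.y * x) = 0 := fun x =>
      (comm_Y (v := xx C x) ⟨rfl, rfl, rfl⟩ gE).1 (commutatorElement_eq_one_iff_mul_comm.2
        (hg.2 _ (Y1 ⟨rfl, rfl, rfl⟩)))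
    rw [← commutatorElement_inv]
    exact inv_mem (cY g (mem_Y.2 ⟨C.T_nd fun x => (key x).1, gE, C.T_nd fun x => (key x).2⟩) c hc)

end Cfsg.Agent.H64.D4E1T
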