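import Mathlib
import Cfsg.Agent.H78.G40B
import Cfsg.Agent.H83.Syl

/-! Project L40G: square roots of the central involution in `L₃(9)`. -/

set_option autoImplicit false

namespace Cfsg.Agent.H64.G40F3b

open Subgroup Matrix Cfsg.Agent.H83 Cfsg.Agent.H46.L40 Cfsg.Agent.H28 Cfsg.Agent.H78.G40

set_option synthInstance.maxSize 4000 in
theorem roots : ∀ p q r : F9, p * p + q * r = -1 → ∀ s : F9, p * q + q * s = 0 → r * p + s * r = 0 →
    r * q + s * s = -1 → ∀ d : F9, p * s * d - q * r * d = 1 →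
    (p = ii ∧ q = 0 ∧ r = 0 ∧ s = ii ∧ d = -1) ∨ (p = -ii ∧ q = 0 ∧ r = 0 ∧ s = -ii ∧ d = -1) ∨
    (d = 1 ∧ ∃ a c : F9, a * ii = p * a + q * c ∧ c * ii = r * a + s * c ∧
      ∃ b e : F9, a * e - b * c = 1 ∧ -(b * ii) = p * b + q * e ∧ -(e * ii) = r * b + s * e) := by
  decide +kernel

theorem ez : (e3 z0).1 = !![-1, 0, 0; 0, -1, 0; 0, 0, 1] := by decide +kernel

theorem neg_eq : ∀ x : F9, (x = -x → x = 0) ∧ (x * ii = -(ii * x) → x = 0) ∧ (x * ii = x → x = 0) ∧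
    (x * ii = -x → x = 0) := by decide +kernel

theorem blk {g : X3} (h : g * e3 z0 = e3 z0 * g) :
    g.1 0 2 = 0 ∧ g.1 1 2 = 0 ∧ g.1 2 0 = 0 ∧ g.1 2 1 = 0 := by
  have h1 : g.1 * (e3 z0).1 = (e3 z0).1 * g.1 := congrArg Subtype.val h
  rw [ez] at h1
  have h02 := congrFun (congrFun h1 0) 2
  have h12 := congrFun (congrFun h1 1) 2
  have h20 := congrFun (congrFun h1 2) 0
  have h21 := congrFun (congrFun h1 2) 1
  simp [Matrix.mul_apply, Fin.sum_univ_three] at h02 h12 h20 h21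
  exact ⟨(neg_eq _).1 h02, (neg_eq _).1 h12, (neg_eq _).1 h20.symm, (neg_eq _).1 h21.symm⟩

theorem ci {g : X3} (h : g * e3 z0 = e3 z0 * g) : g * i3 = i3 * g := by
  obtain ⟨h1, h2, h3, h4⟩ := blk h
  refine Subtype.ext ?_
  change g.1 * !![ii, 0, 0; 0, ii, 0; 0, 0, -1] = !![ii, 0, 0; 0, ii, 0; 0, 0, -1] * g.1
  ext i j : 1
  fin_cases i <;> fin_cases j <;> simp [Matrix.mul_apply, Fin.sum_univ_three, h1, h2, h3, h4, mul_comm]

theorem dia {g : X3} (h : g * j3 = j3 * g) :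
    g.1 0 1 = 0 ∧ g.1 1 0 = 0 ∧ g.1 0 2 = 0 ∧ g.1 1 2 = 0 ∧ g.1 2 0 = 0 ∧ g.1 2 1 = 0 := by
  have hz : j3 * j3 = e3 z0 := by decide +kernel
  obtain ⟨h1, h2, h3, h4⟩ := blk (g := g) (by
    rw [← hz, ← mul_assoc, h, mul_assoc, h, mul_assoc])
  have h0 : g.1 * !![ii, 0, 0; 0, -ii, 0; 0, 0, 1] = !![ii, 0, 0; 0, -ii, 0; 0, 0, 1] * g.1 :=
    congrArg Subtype.val h
  have h01 := congrFun (congrFun h0 0) 1
  have h10 := congrFun (congrFun h0 1) 0
  simp [Matrix.mul_apply, Fin.sum_univ_three] at h01 h10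
  refine ⟨(neg_eq _).2.1 ?_, (neg_eq _).2.1 h10, h1, h2, h3, h4⟩
  rw [← h01, neg_neg]

theorem card_cz : Nat.card (Cz j3) ≤ 81 := by
  have h : Nat.card (F9 × F9) = 81 := by
    rw [Nat.card_prod, Nat.card_eq_fintype_card, card_F9]
  rw [← h]
  refine Nat.card_le_card_of_injective (fun g => (g.1.1 0 0, g.1.1 1 1)) fun g k e => ?_
  obtain ⟨e1, e2⟩ := Prod.ext_iff.1 e
  obtain ⟨g1, g2, g3, g4, g5, g6⟩ := dia (mem_centralizer_singleton_iff.1 g.2)
  obtain ⟨k1, k2, k3, k4, k5, k6⟩ := dia (mem_centralizer_singleton_iff.1 k.2)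
  have dg := g.1.2
  have dk := k.1.2
  rw [Matrix.det_fin_three] at dg dk
  simp only [g1, g2, g3, g4, g5, g6, k1, k2, k3, k4, k5, k6, mul_zero, sub_zero,
    add_zero] at dg dk e1 e2
  have e3 : g.1.1 2 2 = k.1.1 2 2 := by
    rw [e1, e2] at dg
    linear_combination (k.1.1 2 2) * dg - (g.1.1 2 2) * dk
  refine Subtype.ext (Subtype.ext ?_)
  ext i j : 1
  fin_cases i <;> fin_cases j <;> simp [g1, g2, g3, g4, g5, g6, k1, k2, k3, k4, k5, k6, e1, e2, e3]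

theorem rt {y : X3} (h : y * y = e3 z0) : y = i3 ∨ y = i3⁻¹ ∨ IsConj j3 y := by
  obtain ⟨h1, h2, h3, h4⟩ := blk (g := y) (by rw [← h, mul_assoc])
  have h0 : y.1 * y.1 = (e3 z0).1 := congrArg Subtype.val h
  rw [ez] at h0
  have h00 := congrFun (congrFun h0 0) 0
  have h01 := congrFun (congrFun h0 0) 1
  have h10 := congrFun (congrFun h0 1) 0
  have h11 := congrFun (congrFun h0 1) 1
  have hd := y.2
  rw [Matrix.det_fin_three] at hd
  simp [Matrix.mul_apply, Fin.sum_univ_three, h1, h2, h3, h4] at h00 h01 h10 h11 hd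
  have hi : (i3⁻¹).1 = !![-ii, 0, 0; 0, -ii, 0; 0, 0, -1] := by decide +kernel
  rcases roots _ _ _ h00 _ h01 h10 h11 _ hd with ⟨a1, a2, a3, a4, a5⟩ | ⟨a1, a2, a3, a4, a5⟩ |
    ⟨a5, a, c, b1, b2, b, e, b3, b4, b5⟩
  · refine Or.inl (Subtype.ext ?_)
    change y.1 = !![ii, 0, 0; 0, ii, 0; 0, 0, -1]
    ext i j : 1
    fin_cases i <;> fin_cases j <;> simp [h1, h2, h3, h4, a1, a2, a3, a4, a5]
  · refine Or.inr (Or.inl (Subtype.ext ?_))
    rw [hi]
    ext i j : 1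
    fin_cases i <;> fin_cases j <;> simp [h1, h2, h3, h4, a1, a2, a3, a4, a5]
  · refine Or.inr (Or.inr (isConj_iff.2 ⟨⟨!![a, b, 0; c, e, 0; 0, 0, 1], ?_⟩, ?_⟩))
    · rw [Matrix.det_fin_three]
      simpa using b3
    · refine mul_inv_eq_iff_eq_mul.2 (Subtype.ext ?_)
      change !![a, b, 0; c, e, 0; 0, 0, 1] * !![ii, 0, 0; 0, -ii, 0; 0, 0, 1] =
        y.1 * !![a, b, 0; c, e, 0; 0, 0, 1]
      ext i j : 1
      fin_cases i <;> fin_cases j <;>
        simp [Matrix.mul_apply, Fin.sum_univ_three, h1, h2, h3, h4, a5, b1, b2, b4, b5]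

theorem f3b : F3bS := by
  rintro ⟨-, -, hc, -⟩
  refine ⟨by decide +kernel, mem_sup_left ?_, fun g hg => ?_, by decide +kernel, fun S hS h => ?_,
    fun y _ hy => rt hy⟩
  · rw [V0, MonoidHom.map_closure, centralizer_closure, mem_centralizer_iff]
    rintro _ ⟨x, rfl | rfl, rfl⟩ <;> decide +kernel
  · exact mem_centralizer_singleton_iff.2 (ci (mem_centralizer_singleton_iff.1 hg))
  · have : Fact (Nat.Prime 2) := ⟨Nat.prime_two⟩
    obtain ⟨P, hP⟩ := Sylow.exists_subgroup_card_pow_prime (G := X3) 2 (n := 7) (by rw [hc]; norm_num)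
    have h1 := hS.card_le (P := P) le_top (IsPGroup.of_card hP)
    have h2 := card_le_of_le h
    have h3 := card_cz
    omega

end Cfsg.Agent.H64.G40F3b
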