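import Mathlib
import Cfsg.Agent.H78.G40A
import Cfsg.Agent.H83.Syl

/-! Project L40G: a non-conjugacy criterion. -/

set_option autoImplicit false

namespace Cfsg.Agent.H64.G40Ncj

open Subgroup Cfsg.Agent.H83 Cfsg.Agent.H78.G40

universe u

theorem ncj : NcjS.{u} := by
  intro dih G _ _ R F t fn x y T hT hTx hty hS g hg hxy
  have : Fact (Nat.Prime 2) := ⟨Nat.prime_two⟩
  have hti : t⁻¹ = t := inv_eq_of_mul_eq_one_right fn.tt
  have hN : t ∈ normalizer ((F ⊓ Cz y : Subgroup G) : Set G) := by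
    refine mem_normalizer_fintype fun n hn => ⟨fn.as.normal.conj_mem n hn.1 t, ?_⟩
    have h1 : Commute y n := mem_centralizer_iff.1 hn.2 y rfl
    have h2 : Commute (t * y * t) n := by
      rcases hty with h | h <;> rw [h]
      · exact h1
      · exact h1.inv_left
    refine mem_centralizer_singleton_iff.2 ?_
    have h3 : t * (n * (t * y * t)) * t = t * (t * y * t * n) * t := by rw [h2.eq]
    have h4 : ∀ w, t * (t * w) = w := fun w => by rw [← mul_assoc, fn.tt, one_mul]
    rw [hti]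
    simpa only [mul_assoc, h4, fn.tt, mul_one] using h3
  obtain ⟨h1, A, hA, hA'⟩ := dih G R F t fn (F ⊓ Cz y) inf_le_left hN
  have hA2 := h1 A hA hA'
  have hc : cj g T ≤ F ⊓ Cz y := by
    refine le_inf (cj_le_of_mem (hT.le.trans fn.le) hg) ?_
    rintro _ ⟨s, hs, rfl⟩
    have h := mem_centralizer_singleton_iff.1 (hTx hs)
    refine mem_centralizer_singleton_iff.2 ?_
    rw [← hxy]
    change g * s * g⁻¹ * (g * x * g⁻¹) = g * x * g⁻¹ * (g * s * g⁻¹)
    simp only [mul_assoc, inv_mul_cancel_left]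
    rw [← mul_assoc s, h, mul_assoc]
  have h2 := hA2.card_le hc (isPGroup_cj hT.isPGroup g)
  rw [card_cj] at h2
  exact hS A (hT.of_card_ge (hA'.le.trans inf_le_right) hA'.isPGroup h2) (hA2.le.trans inf_le_right)

end Cfsg.Agent.H64.G40Ncj
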