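import Cfsg.Agent.H40.L3K0

/-! Project L33, piece T2: a model of the Sylow subgroup of `C(t)` and general lemmas. -/

set_option autoImplicit false
set_option linter.unusedSectionVars false
set_option linter.unusedSimpArgs false

noncomputable section

namespace Cfsg.Agent.H64.T2

open Subgroup Cfsg.Agent.H83 Cfsg.Agent.H40.L3

variable {G : Type*} [Group G]

/-- the defining relations of `S₀` -/
structure Rel0 (t d w q a z : G) : Prop where
  tt : t * t = 1
  dd : d * d = z
  ww : w * w = z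
  qq : q * q = z
  aa : a * a = 1
  zz : z * z = 1
  dt : d * t = t * d
  wt : w * t = t * w
  qt : q * t = t * q
  at' : a * t = t * a
  wd : w * d = d * w
  qd : q * d = d * q
  ad : a * d = d * z * a
  qw : q * w = w * q * z
  aw : a * w = w * z * a
  aq : a * q = w * q * a
  zt : z * t = t * z
  za : z * a = a * z

def E (t d w q a z : G) (t' d' w' q' a' z' : Bool) : G :=
  bp t t' * bp d d' * bp w w' * bp q q' * bp a a' * bp z z'

theorem ext_r {x y : G} (h : ∀ r, x * r = y * r) : x = y := by simpa using h 1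

set_option maxHeartbeats 1000000 in
theorem E_t {t d w q a z : G} (h : Rel0 t d w q a z) (t' d' w' q' a' z' : Bool) :
    E t d w q a z t' d' w' q' a' z' * t = E t d w q a z (!t') d' w' q' a' z' := by
  refine ext_r fun r => ?_
  cases t' <;> cases d' <;> cases w' <;> cases q' <;> cases a' <;> cases z' <;>
    simp only [E, bp, Bool.cond_true, Bool.cond_false, mul_one, one_mul, mul_assoc, Bool.not_true,
      Bool.not_false, Bool.xor_true, Bool.xor_false, Bool.true_xor, Bool.false_xor, Bool.and_true,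
      Bool.and_false, Bool.true_and, Bool.false_and, tl h.tt, tl h.dd, tl h.ww, tl h.qq, tl h.aa,
      tl h.zz, tl h.dt, tl h.wt, tl h.qt, tl h.at', tl h.wd, tl h.qd, tl h.ad, tl h.qw, tl h.aw,
      tl h.aq, tl h.zt, tl h.za, tl (sq_comm h.dd), tl (sq_comm h.ww), tl (sq_comm h.qq)]

set_option maxHeartbeats 1000000 in
theorem E_d {t d w q a z : G} (h : Rel0 t d w q a z) (t' d' w' q' a' z' : Bool) :
    E t d w q a z t' d' w' q' a' z' * d = E t d w q a z t' (!d') w' q' a' (z' ^^ d' ^^ a') := by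
  refine ext_r fun r => ?_
  cases t' <;> cases d' <;> cases w' <;> cases q' <;> cases a' <;> cases z' <;>
    simp only [E, bp, Bool.cond_true, Bool.cond_false, mul_one, one_mul, mul_assoc, Bool.not_true,
      Bool.not_false, Bool.xor_true, Bool.xor_false, Bool.true_xor, Bool.false_xor, Bool.and_true,
      Bool.and_false, Bool.true_and, Bool.false_and, tl h.tt, tl h.dd, tl h.ww, tl h.qq, tl h.aa,
      tl h.zz, tl h.dt, tl h.wt, tl h.qt, tl h.at', tl h.wd, tl h.qd, tl h.ad, tl h.qw, tl h.aw,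
      tl h.aq, tl h.zt, tl h.za, tl (sq_comm h.dd), tl (sq_comm h.ww), tl (sq_comm h.qq)]

set_option maxHeartbeats 1000000 in
theorem E_w {t d w q a z : G} (h : Rel0 t d w q a z) (t' d' w' q' a' z' : Bool) :
    E t d w q a z t' d' w' q' a' z' * w = E t d w q a z t' d' (!w') q' a' (z' ^^ w' ^^ q' ^^ a') := by
  refine ext_r fun r => ?_
  cases t' <;> cases d' <;> cases w' <;> cases q' <;> cases a' <;> cases z' <;>
    simp only [E, bp, Bool.cond_true, Bool.cond_false, mul_one, one_mul, mul_assoc, Bool.not_true,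
      Bool.not_false, Bool.xor_true, Bool.xor_false, Bool.true_xor, Bool.false_xor, Bool.and_true,
      Bool.and_false, Bool.true_and, Bool.false_and, tl h.tt, tl h.dd, tl h.ww, tl h.qq, tl h.aa,
      tl h.zz, tl h.dt, tl h.wt, tl h.qt, tl h.at', tl h.wd, tl h.qd, tl h.ad, tl h.qw, tl h.aw,
      tl h.aq, tl h.zt, tl h.za, tl (sq_comm h.dd), tl (sq_comm h.ww), tl (sq_comm h.qq)]

set_option maxHeartbeats 1000000 in
theorem E_q {t d w q a z : G} (h : Rel0 t d w q a z) (t' d' w' q' a' z' : Bool) :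
    E t d w q a z t' d' w' q' a' z' * q = E t d w q a z t' d' (w' ^^ a') (!q') a' (z' ^^ q' ^^ (a' && (w' ^^ q'))) := by
  refine ext_r fun r => ?_
  cases t' <;> cases d' <;> cases w' <;> cases q' <;> cases a' <;> cases z' <;>
    simp only [E, bp, Bool.cond_true, Bool.cond_false, mul_one, one_mul, mul_assoc, Bool.not_true,
      Bool.not_false, Bool.xor_true, Bool.xor_false, Bool.true_xor, Bool.false_xor, Bool.and_true,
      Bool.and_false, Bool.true_and, Bool.false_and, tl h.tt, tl h.dd, tl h.ww, tl h.qq, tl h.aa,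
      tl h.zz, tl h.dt, tl h.wt, tl h.qt, tl h.at', tl h.wd, tl h.qd, tl h.ad, tl h.qw, tl h.aw,
      tl h.aq, tl h.zt, tl h.za, tl (sq_comm h.dd), tl (sq_comm h.ww), tl (sq_comm h.qq)]

set_option maxHeartbeats 1000000 in
theorem E_a {t d w q a z : G} (h : Rel0 t d w q a z) (t' d' w' q' a' z' : Bool) :
    E t d w q a z t' d' w' q' a' z' * a = E t d w q a z t' d' w' q' (!a') z' := by
  refine ext_r fun r => ?_
  cases t' <;> cases d' <;> cases w' <;> cases q' <;> cases a' <;> cases z' <;>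
    simp only [E, bp, Bool.cond_true, Bool.cond_false, mul_one, one_mul, mul_assoc, Bool.not_true,
      Bool.not_false, Bool.xor_true, Bool.xor_false, Bool.true_xor, Bool.false_xor, Bool.and_true,
      Bool.and_false, Bool.true_and, Bool.false_and, tl h.tt, tl h.dd, tl h.ww, tl h.qq, tl h.aa,
      tl h.zz, tl h.dt, tl h.wt, tl h.qt, tl h.at', tl h.wd, tl h.qd, tl h.ad, tl h.qw, tl h.aw,
      tl h.aq, tl h.zt, tl h.za, tl (sq_comm h.dd), tl (sq_comm h.ww), tl (sq_comm h.qq)]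

set_option maxHeartbeats 1000000 in
theorem E_z {t d w q a z : G} (h : Rel0 t d w q a z) (t' d' w' q' a' z' : Bool) :
    E t d w q a z t' d' w' q' a' z' * z = E t d w q a z t' d' w' q' a' (!z') := by
  refine ext_r fun r => ?_
  cases t' <;> cases d' <;> cases w' <;> cases q' <;> cases a' <;> cases z' <;>
    simp only [E, bp, Bool.cond_true, Bool.cond_false, mul_one, one_mul, mul_assoc, Bool.not_true,
      Bool.not_false, Bool.xor_true, Bool.xor_false, Bool.true_xor, Bool.false_xor, Bool.and_true,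
      Bool.and_false, Bool.true_and, Bool.false_and, tl h.tt, tl h.dd, tl h.ww, tl h.qq, tl h.aa,
      tl h.zz, tl h.dt, tl h.wt, tl h.qt, tl h.at', tl h.wd, tl h.qd, tl h.ad, tl h.qw, tl h.aw,
      tl h.aq, tl h.zt, tl h.za, tl (sq_comm h.dd), tl (sq_comm h.ww), tl (sq_comm h.qq)]

/-- the model of `S₀` -/
abbrev P : Type := ↥(M.sS : Subgroup (M false))

namespace P

instance (priority := high) decAll (p : P → Prop) [DecidablePred p] : Decidable (∀ m, p m) :=
  decidable_of_iff (∀ m : M false, ∀ h : m ∈ M.sS, p ⟨m, h⟩) Subtype.forall.symm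

instance (priority := high) decEx (p : P → Prop) [DecidablePred p] : Decidable (∃ m, p m) :=
  decidable_of_iff (¬ ∀ m, ¬ p m) (by simp)

def T : P := ⟨.T, by decide +kernel⟩
def D : P := ⟨.D, by decide +kernel⟩
def W : P := ⟨.W, by decide +kernel⟩
def Q : P := ⟨.Q, by decide +kernel⟩
def A : P := ⟨.A, by decide +kernel⟩
def Z : P := ⟨.Z, by decide +kernel⟩

theorem nf : ∀ m : P, m = E T D W Q A Z m.1.t m.1.d m.1.w m.1.q m.1.a m.1.z := by decide +kernel

theorem c_t : ∀ m : P,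
    (m * T).1.t = (!m.1.t) ∧
    (m * T).1.d = m.1.d ∧
    (m * T).1.w = m.1.w ∧
    (m * T).1.q = m.1.q ∧
    (m * T).1.a = m.1.a ∧
    (m * T).1.z = m.1.z := by decide +kernel

theorem c_d : ∀ m : P,
    (m * D).1.t = m.1.t ∧
    (m * D).1.d = (!m.1.d) ∧
    (m * D).1.w = m.1.w ∧
    (m * D).1.q = m.1.q ∧
    (m * D).1.a = m.1.a ∧
    (m * D).1.z = (m.1.z ^^ m.1.d ^^ m.1.a) := by decide +kernel

theorem c_w : ∀ m : P,
    (m * W).1.t = m.1.t ∧
    (m * W).1.d = m.1.d ∧
    (m * W).1.w = (!m.1.w) ∧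
    (m * W).1.q = m.1.q ∧
    (m * W).1.a = m.1.a ∧
    (m * W).1.z = (m.1.z ^^ m.1.w ^^ m.1.q ^^ m.1.a) := by decide +kernel

theorem c_q : ∀ m : P,
    (m * Q).1.t = m.1.t ∧
    (m * Q).1.d = m.1.d ∧
    (m * Q).1.w = (m.1.w ^^ m.1.a) ∧
    (m * Q).1.q = (!m.1.q) ∧
    (m * Q).1.a = m.1.a ∧
    (m * Q).1.z = (m.1.z ^^ m.1.q ^^ (m.1.a && (m.1.w ^^ m.1.q))) := by decide +kernel

theorem c_a : ∀ m : P,
    (m * A).1.t = m.1.t ∧
    (m * A).1.d = m.1.d ∧
    (m * A).1.w = m.1.w ∧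
    (m * A).1.q = m.1.q ∧
    (m * A).1.a = (!m.1.a) ∧
    (m * A).1.z = m.1.z := by decide +kernel

theorem c_z : ∀ m : P,
    (m * Z).1.t = m.1.t ∧
    (m * Z).1.d = m.1.d ∧
    (m * Z).1.w = m.1.w ∧
    (m * Z).1.q = m.1.q ∧
    (m * Z).1.a = m.1.a ∧
    (m * Z).1.z = (!m.1.z) := by decide +kernel

theorem c_one : (1 : P).1.t = false ∧ (1 : P).1.d = false ∧ (1 : P).1.w = false ∧
    (1 : P).1.q = false ∧ (1 : P).1.a = false ∧ (1 : P).1.z = false := by decide +kernel

theorem exists_hom {t d w q a z : G} (h : Rel0 t d w q a z) :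
    ∃ j : P →* G, j T = t ∧ j D = d ∧ j W = w ∧ j Q = q ∧ j A = a ∧ j Z = z := by
  let f : P → G := fun m => E t d w q a z m.1.t m.1.d m.1.w m.1.q m.1.a m.1.z
  have ft : ∀ m, f (m * T) = f m * t := fun m => by
    obtain ⟨e0, e1, e2, e3, e4, e5⟩ := c_t m
    simp only [f, e0, e1, e2, e3, e4, e5, E_t h]
  have fd : ∀ m, f (m * D) = f m * d := fun m => by
    obtain ⟨e0, e1, e2, e3, e4, e5⟩ := c_d m
    simp only [f, e0, e1, e2, e3, e4, e5, E_d h]
  have fw : ∀ m, f (m * W) = f m * w := fun m => by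
    obtain ⟨e0, e1, e2, e3, e4, e5⟩ := c_w m
    simp only [f, e0, e1, e2, e3, e4, e5, E_w h]
  have fq : ∀ m, f (m * Q) = f m * q := fun m => by
    obtain ⟨e0, e1, e2, e3, e4, e5⟩ := c_q m
    simp only [f, e0, e1, e2, e3, e4, e5, E_q h]
  have fa : ∀ m, f (m * A) = f m * a := fun m => by
    obtain ⟨e0, e1, e2, e3, e4, e5⟩ := c_a m
    simp only [f, e0, e1, e2, e3, e4, e5, E_a h]
  have fz : ∀ m, f (m * Z) = f m * z := fun m => by
    obtain ⟨e0, e1, e2, e3, e4, e5⟩ := c_z m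
    simp only [f, e0, e1, e2, e3, e4, e5, E_z h]
  have f1 : f 1 = 1 := by
    obtain ⟨e0, e1, e2, e3, e4, e5⟩ := c_one
    simp only [f, E, bp, e0, e1, e2, e3, e4, e5, Bool.cond_false, mul_one]
  have key : ∀ (v g : P) (x : G) (c : Bool), (∀ m, f (m * g) = f m * x) →
      (∀ m, f (m * v) = f m * f v) → ∀ m, f (m * (v * bp g c)) = f m * f (v * bp g c) := by
    intro v g x c hg hv m
    cases c
    · exact (show ∀ m, f (m * (v * 1)) = f m * f (v * 1) by rwa [mul_one]) m
    · show f (m * (v * g)) = f m * f (v * g)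
      rw [← mul_assoc, hg, hv, hg, mul_assoc]
  have hm : ∀ n m, f (m * n) = f m * f n := fun n => by
    rw [nf n, E, ← one_mul (bp T _)]
    refine key _ _ _ _ fz (key _ _ _ _ fa (key _ _ _ _ fq (key _ _ _ _ fw (key _ _ _ _ fd
      (key _ _ _ _ ft fun m => ?_)))))
    rw [mul_one, f1, mul_one]
  have k : ∀ {g : P} {x : G}, (∀ m, f (m * g) = f m * x) → f g = x := fun {g x} h => by
    rw [← one_mul g, h, f1, one_mul]
  exact ⟨MonoidHom.mk' f fun m n => hm n m, k ft, k fd, k fw, k fq, k fa, k fz⟩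

end P

section act
variable {X : Type*} [Group X] {j : X →* G} {h h' : G} {m n m' n' k : X}

theorem map_bp (j : X →* G) (m : X) (c : Bool) : j (bp m c) = bp (j m) c := by
  cases c
  exacts [map_one j, rfl]

theorem bp_mem {H : Subgroup G} {x : G} (hx : x ∈ H) (c : Bool) : bp x c ∈ H := by
  cases c
  exacts [one_mem H, hx]

/-- `h` maps `j m` to `j n`. -/
def Ac (j : X →* G) (h : G) (m n : X) : Prop := h * j m * h⁻¹ = j n

theorem Ac.one : Ac j h 1 1 := by simp [Ac]

theorem Ac.mul (a : Ac j h m n) (b : Ac j h m' n') : Ac j h (m * m') (n * n') := by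
  rw [Ac, map_mul, map_mul, ← a, ← b]; group

theorem Ac.inv (a : Ac j h m n) : Ac j h m⁻¹ n⁻¹ := by
  rw [Ac, map_inv, map_inv, ← a]; group

theorem Ac.bp (a : Ac j h m n) (c : Bool) : Ac j h (bp m c) (bp n c) := by
  cases c
  exacts [Ac.one, a]

theorem Ac.comp (a : Ac j h m n) (b : Ac j h' n k) : Ac j (h' * h) m k := by
  rw [Ac, ← b, ← a]; group

theorem Ac.symm (a : Ac j h m n) : Ac j h⁻¹ n m := by
  rw [Ac, ← a]; group

theorem Ac.inn (s m : X) : Ac j (j s) m (s * m * s⁻¹) := by simp [Ac]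

theorem Ac.to (a : Ac j h m n) (e : m = m') (e' : n = n') : Ac j h m' n' := e ▸ e' ▸ a

theorem Ac.uniq (i : Function.Injective j) (a : Ac j h m n) (b : Ac j h m n') : n = n' :=
  i ((Eq.symm a).trans b)

theorem Ac.uniq' (i : Function.Injective j) (a : Ac j h m n) (b : Ac j h m' n) : m = m' :=
  a.symm.uniq i b.symm

theorem Ac.comm (a : Ac j h m m) : h * j m = j m * h := mul_inv_eq_iff_eq_mul.1 a

theorem Ac.of_comm (a : h * j m = j m * h) : Ac j h m m := mul_inv_eq_iff_eq_mul.2 a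

theorem Ac.isConj (a : Ac j h m n) : IsConj (j m) (j n) := isConj_iff.2 ⟨h, a⟩

theorem Ac.norm [Finite G] {V : Subgroup X} (a : ∀ m ∈ V, ∃ n ∈ V, Ac j h m n) :
    h ∈ normalizer (V.map j : Set G) := by
  refine mem_normalizer_fintype ?_
  rintro _ ⟨m, hm, rfl⟩
  obtain ⟨n, hn, e⟩ := a m hm
  exact ⟨n, hn, Eq.symm e⟩

theorem Ac.of_norm {V : Subgroup X} (a : h ∈ normalizer (V.map j : Set G)) (hm : m ∈ V) :
    ∃ n ∈ V, Ac j h m n := by
  obtain ⟨n, hn, e⟩ := (mem_normalizer_iff.1 a (j m)).1 ⟨m, hm, rfl⟩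
  exact ⟨n, hn, e.symm⟩

end act

variable [Finite G]

theorem syl_cent {S H X : Subgroup G} (hS : IsSylowIn 2 S H) (hX : X ≤ S)
    (h : ∀ g ∈ H, cj g X ≤ S → ∃ s ∈ S, s * g ∈ normalizer (X : Set G)) :
    IsSylowIn 2 (S ⊓ centralizer (X : Set G)) (H ⊓ centralizer (X : Set G)) := by
  refine ⟨inf_le_inf_right _ hS.le, hS.isPGroup.to_le inf_le_left, fun R hR p le => ?_⟩
  obtain ⟨g, hg, e⟩ := hS.exists_conj_le (sup_le (hR.trans inf_le_left) (hX.trans hS.le))
    (isPGroup_sup p (hS.isPGroup.to_le hX) (le_norm_of_le_cent (hR.trans inf_le_right)))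
  obtain ⟨s, hs, n⟩ := h g hg ((cj_mono g le_sup_right).trans e)
  have : cj (s * g) R ≤ S ⊓ centralizer (X : Set G) := le_inf
    (by rw [cj_mul]; exact cj_le_of_mem ((cj_mono g le_sup_left).trans e) hs)
    (cj_le_of_norm (hR.trans inf_le_right) (normalizer_le_normalizer_centralizer _ n))
  exact (eq_of_le_of_card_ge le (card_cj (s * g) R ▸ card_le_of_le this)).symm

theorem comm_of_sq {R N : Subgroup G} (hR : IsSylowIn 2 R N) {x u : G} (hx : x ∈ N)
    (hn : x ∈ normalizer (R : Set G)) (hu : ∀ y ∈ R, y * u = u * y)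
    (h2 : x * x * u = u * (x * x)) : x * u = u * x := by
  obtain ⟨m, k, hm, hk⟩ := exists_coprime_pow_pelt (p := 2) x
  have := hu _ (hR.mem_of_norm (pow_mem hx m) hk (pow_mem hn m))
  obtain ⟨i, rfl⟩ := Nat.coprime_two_right.1 hm
  have c : Commute ((x * x) ^ i) u := Commute.pow_left h2 i
  rw [pow_succ, pow_mul, pow_two, mul_assoc, ← mul_assoc u, ← c.eq, mul_assoc] at this
  exact mul_left_cancel this

end Cfsg.Agent.H64.T2
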