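import Cfsg.Agent.H64.L33T2a

/-! Project L33, piece T2: the element `β` and the normalization of `δ` and `ρ`. -/

set_option autoImplicit false
set_option linter.unusedSectionVars false
set_option linter.unusedSimpArgs false

noncomputable section

namespace Cfsg.Agent.H64.T2

open Subgroup Cfsg.Agent.H83 Cfsg.Agent.H40.L3 P

variable {G : Type*} [Group G] [Finite G]

theorem map_E {X : Type*} [Group X] (j : X →* G) (t d w q a z : X) (t' d' w' q' a' z' : Bool) :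
    j (E t d w q a z t' d' w' q' a' z') = E (j t) (j d) (j w) (j q) (j a) (j z) t' d' w' q' a' z' := by
  simp only [E, map_mul, map_bp]

/-- The model of `S` with the elements `ρ`, `κ`. -/
structure Sit (j : P →* G) (ρ κ : G) : Prop where
  inj : Function.Injective j
  syl : IsSylowIn 2 j.range (centralizer ({j T} : Set G))
  fus : ∀ h m n, Ac j h T T → Ac j h m n → m.1 ∈ M.sD → n.1 ∈ M.sD
  nz : ¬ IsConj (j Z) (j T)
  ρt : Ac j ρ T T
  ρz : Ac j ρ Z A
  ρa : Ac j ρ A (A * Z)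
  κt : Ac j κ T T
  κw : Ac j κ W Q ∨ Ac j κ W (Q * Z)
  κq : Ac j κ Q (W * Q) ∨ Ac j κ Q (W * Q * Z)

structure Bt (j : P →* G) (β : G) : Prop where
  t : Ac j β T (T * Z)
  w : Ac j β W W
  q : Ac j β Q Q
  nm : ∀ m, ∃ n, Ac j β m n
  sq : ∃ n, β * β = j n

theorem ker_aux : ∀ m : P, m = 1 ∨ m = Z ∨ m = T ∨ m = T * Z ∨ ∃ g ∈ [D, W, Q, A],
    m * g * m⁻¹ * g⁻¹ = Z ∨ ∃ k ∈ [D, W, Q, A],
      (m * g * m⁻¹ * g⁻¹) * k * (m * g * m⁻¹ * g⁻¹)⁻¹ * k⁻¹ = Z := by decide +kernel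

theorem sD_nf : ∀ m : P, m.1 ∈ M.sD → m = bp W m.1.w * bp Q m.1.q * bp A m.1.a * bp Z m.1.z := by
  decide +kernel

theorem start {t : G} (h : H1 G t) (g1 : h.g ≠ 1) : ∃ j : P →* G, Sit j h.ρ h.κ ∧
    h.α ∈ normalizer (j.range : Set G) ∧ Ac j h.α T (T * Z) ∧ h.α * h.α ∈ j.range := by
  obtain ⟨⟨y, a, r, g, ρ, κ, S, L, K, t1, t2, syl, y8, a2, ay, Ln, Kn, SL, SK, tr, ry, ra, dis, ρt, ρ1,
    ρ2, κt, κ1, κ2, gS, cov, out⟩, rt, nz, g2, α, αS, αt, α2⟩ := h
  replace rt : r = t := rt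
  dsimp only at nz g2 αS αt α2 g1 ⊢
  subst rt
  obtain ⟨-, gy, ga, -⟩ := out.resolve_left g1
  have y1 : y ^ 8 = 1 := y8 ▸ pow_orderOf_eq_one y
  have r1 : ∀ x, a * (y * x) = y * (y * (y * (a * x))) := fun x => by
    calc a * (y * x) = a * y * (a * a) * x := by rw [a2]; group
      _ = a * y * a * (a * x) := by group
      _ = _ := by rw [ay]; simp only [pow_succ, pow_zero, one_mul, mul_assoc]
  have r2 : ∀ x, g * (y * x) = y * (y * (y * (y * (y * (g * x))))) := fun x => by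
    calc g * (y * x) = g * y * g⁻¹ * (g * x) := by group
      _ = _ := by rw [gy]; simp only [pow_succ, pow_zero, one_mul, mul_assoc]
  have r3 : ∀ x, y * (y * (y * (y * (y * (y * (y * (y * x))))))) = x := fun x => by
    conv_rhs => rw [← one_mul x, ← y1]
    simp only [pow_succ, pow_zero, one_mul, mul_assoc]
  have gr : g * r = r * g := mem_centralizer_singleton_iff.1 (syl.le gS)
  have R : Rel0 r (y ^ 6 * g) (y ^ 2) (y * a) a (y ^ 4) := by
    constructor <;> refine ext_r fun x => ?_ <;>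
      simp only [pow_succ, pow_zero, one_mul, mul_assoc, r1, r2, r3, tl t2, tl a2, tl g2, tl ga,
        tl ry.symm, tl ra.symm, tl gr]
  obtain ⟨j, jt, jd, jw, jq, ja, jz⟩ := exists_hom R
  have z1 : y ^ 4 ≠ 1 := fun e => by
    have := orderOf_dvd_of_pow_eq_one e
    rw [y8] at this
    omega
  have inj : Function.Injective j := by
    rw [injective_iff_map_eq_one]
    intro m hm
    rcases ker_aux m with e | e | e | e | ⟨g, -, e | ⟨k, -, e⟩⟩
    · exact e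
    · exact absurd (by rw [← jz, ← e, hm]) z1
    · exact absurd (by rw [← jt, ← e, hm]) t1
    · rw [e, map_mul, jt, jz] at hm
      exact absurd (by rw [eq_inv_of_mul_eq_one_right hm, inv_eq_of_mul_eq_one_right t2]) nz
    · exact absurd (by rw [← jz, ← e]; simp [hm]) z1
    · exact absurd (by rw [← jz, ← e]; simp [hm]) z1
  have yD : y ∈ S ⊓ L := SL ▸ subset_closure (by simp)
  have aD : a ∈ S ⊓ L := SL ▸ subset_closure (by simp)
  have jy : j (Q * A) = y := by rw [map_mul, jq, ja, mul_assoc, a2, mul_one]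
  have cl : ∀ x ∈ closure {y, a}, ∃ m : P, m.1 ∈ M.sD ∧ j m = x := fun x hx => by
    refine (closure_le ((M.sD.comap (M.sS.subtype)).map j)).2 ?_ hx
    rintro _ (rfl | rfl)
    · exact ⟨Q * A, show (Q * A).1 ∈ M.sD by decide +kernel, jy⟩
    · exact ⟨A, show A.1 ∈ M.sD by decide +kernel, ja⟩
  have rg : j.range = S := by
    refine le_antisymm ?_ fun x hx => ?_
    · rintro _ ⟨m, rfl⟩
      rw [nf m, map_E, jt, jd, jw, jq, ja, jz]
      exact mul_mem (mul_mem (mul_mem (mul_mem (mul_mem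
        (bp_mem (SK.ge (mem_zpowers r)).1 _) (bp_mem (mul_mem (pow_mem yD.1 _) gS) _))
        (bp_mem (pow_mem yD.1 _) _)) (bp_mem (mul_mem yD.1 aD.1) _)) (bp_mem aD.1 _))
        (bp_mem (pow_mem yD.1 _) _)
    · have k : zpowers r ⊔ closure {y, a} ≤ j.range := sup_le (zpowers_le.2 ⟨T, jt⟩) fun x hx => by
        obtain ⟨m, -, e⟩ := cl x hx
        exact ⟨m, e⟩
      rcases cov x hx with e | e
      · exact k e
      · refine (mul_mem_cancel_right (inv_mem (show g ∈ j.range from ⟨D * W, ?_⟩))).1 (k e)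
        rw [map_mul, jd, jw]
        refine ext_r fun x => ?_
        simp only [pow_succ, pow_zero, one_mul, mul_assoc, r2, r3]
  refine ⟨j, ⟨inj, by rwa [rg, jt], fun h m n ht hm hD => ?_, by rwa [jz, jt], .of_comm (by rwa [jt]),
    by rwa [Ac, jz, ja], by rwa [Ac, map_mul, jz, ja], .of_comm (by rwa [jt]), ?_, ?_⟩,
    by rwa [rg], by rwa [Ac, map_mul, jt, jz], by rwa [rg]⟩
  · have : j m ∈ L := by
      rw [sD_nf m hD, map_mul, map_mul, map_mul, map_bp, map_bp, map_bp, map_bp, jw, jq, ja, jz]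
      exact mul_mem (mul_mem (mul_mem (bp_mem (pow_mem yD.2 _) _) (bp_mem (mul_mem yD.2 aD.2) _))
        (bp_mem aD.2 _)) (bp_mem (pow_mem yD.2 _) _)
    have := Ln h (jt ▸ ht.comm) _ this
    rw [hm] at this
    obtain ⟨n', h1, e⟩ := cl (j n) (SL ▸ ⟨rg ▸ ⟨n, rfl⟩, this⟩)
    exact inj e ▸ h1
  · simpa only [Ac, map_mul, jw, jq, jz] using κ1
  · simpa only [Ac, map_mul, jw, jq, jz] using κ2

theorem com_aux : ∀ m n : P, m * n * m⁻¹ * n⁻¹ * (m * n * m⁻¹ * n⁻¹) = 1 ∨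
    m * n * m⁻¹ * n⁻¹ = W ∨ m * n * m⁻¹ * n⁻¹ = W * Z := by decide +kernel

theorem adj_aux : ∀ w ∈ [W, W * Z], ∀ q : P, (q.1 ∈ M.sD ∨ (q * Z).1 ∈ M.sD) → q * q = Z →
    q * w = w * q * Z → ∃ s : P, s * w * s⁻¹ = W ∧ s * q * s⁻¹ = Q ∧ s * (T * Z) * s⁻¹ = T * Z := by
  decide +kernel

variable {j : P →* G} {ρ κ β : G}

theorem Sit.κz (h : Sit j ρ κ) : Ac j κ Z Z := by
  rcases h.κw with e | e <;> exact (e.mul e).to (by decide +kernel) (by decide +kernel)

theorem Sit.beta (h : Sit j ρ κ) {α : G} (hn : α ∈ normalizer (j.range : Set G))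
    (ht : Ac j α T (T * Z)) (h2 : α * α ∈ j.range) : ∃ β, Bt j β := by
  have nm : ∀ m, ∃ n, Ac j α m n := fun m => by
    obtain ⟨n, e⟩ := (mem_normalizer_iff.1 hn (j m)).1 ⟨m, rfl⟩
    exact ⟨n, e.symm⟩
  obtain ⟨a', ea⟩ := nm A
  obtain ⟨y', ey⟩ := nm (Q * A)
  obtain ⟨q', eq⟩ := nm Q
  have ew := (((ea.mul ey).mul ea.inv).mul ey.inv).to (m' := W) (by decide +kernel) rfl
  have hw := (com_aux a' y').resolve_left fun e =>
    absurd (((ew.mul ew).to rfl e).uniq' h.inj .one) (by decide +kernel)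
  generalize a' * y' * a'⁻¹ * y'⁻¹ = w' at ew hw
  have ez : Ac j α Z Z := (ew.mul ew).to (by decide +kernel)
    (by rcases hw with rfl | rfl <;> decide +kernel)
  have et : Ac j (α * (κ * α⁻¹)) T T := (((ht.mul ez).to rfl (n' := T) (by decide +kernel)).symm.comp
    (h.κt.mul h.κz)).comp ((ht.mul ez).to rfl (by decide +kernel))
  have wD : w'.1 ∈ M.sD := by rcases hw with rfl | rfl <;> decide +kernel
  obtain ⟨s, s1, s2, s3⟩ := adj_aux w' (by simpa using hw) q'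
    (h.κw.imp (fun e => h.fus _ _ _ et ((ew.symm.comp e).comp eq) wD)
      fun e => h.fus _ _ _ et ((ew.symm.comp e).comp (eq.mul ez)) wD)
    (((eq.mul eq).to (by decide +kernel) rfl).uniq h.inj ez)
    (((eq.mul ew).to (by decide +kernel) rfl).uniq h.inj ((ew.mul eq).mul ez))
  refine ⟨j s * α, (ht.comp (.inn s _)).to rfl s3, (ew.comp (.inn s _)).to rfl s1,
    (eq.comp (.inn s _)).to rfl s2, fun m => ?_, ?_⟩
  · obtain ⟨n, e⟩ := nm m
    exact ⟨_, e.comp (.inn s _)⟩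
  · obtain ⟨n, e⟩ := nm s
    obtain ⟨k, e'⟩ := h2
    exact ⟨s * n * k, by rw [map_mul, map_mul, ← e, e']; group⟩

theorem Bt.z (b : Bt j β) : Ac j β Z Z :=
  (b.w.mul b.w).to (by decide +kernel) (by decide +kernel)

/-- A change of the generator `δ`. -/
structure Th (θ : P →* P) : Prop where
  inv : ∀ m, θ (θ m) = m
  sd : ∀ m, (θ m).1 ∈ M.sD ↔ m.1 ∈ M.sD
  t : θ T = T
  w : θ W = W
  q : θ Q = Q
  a : θ A = A
  z : θ Z = Z

def θT : P →* P := MonoidHom.mk' (fun m => m * bp T m.1.d) (by decide +kernel)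
def θZ : P →* P := MonoidHom.mk' (fun m => m * bp Z m.1.d) (by decide +kernel)

theorem thT : Th θT := by constructor <;> decide +kernel
theorem thZ : Th θZ := by constructor <;> decide +kernel

theorem Sit.comp (h : Sit j ρ κ) {θ : P →* P} (k : Th θ) : Sit (j.comp θ) ρ κ := by
  have rg : (j.comp θ).range = j.range := le_antisymm (fun _ ⟨m, e⟩ => ⟨θ m, e⟩)
    fun _ ⟨m, e⟩ => ⟨θ m, by rw [MonoidHom.comp_apply, k.inv, e]⟩
  have ac : ∀ {g m n}, Ac (j.comp θ) g m n ↔ Ac j g (θ m) (θ n) := Iff.rfl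
  refine ⟨h.inj.comp (Function.LeftInverse.injective k.inv), ?_, fun g m n a b c => ?_, ?_, ?_, ?_, ?_,
    ?_, ?_, ?_⟩
  · rw [rg, MonoidHom.comp_apply, k.t]; exact h.syl
  · rw [ac, k.t] at a
    exact (k.sd _).1 (h.fus g _ _ a b ((k.sd _).2 c))
  all_goals simp only [ac, MonoidHom.comp_apply, map_mul θ, k.t, k.w, k.q, k.a, k.z]
  exacts [h.nz, h.ρt, h.ρz, h.ρa, h.κt, h.κw, h.κq]

theorem Bt.comp (b : Bt j β) {θ : P →* P} (k : Th θ) : Bt (j.comp θ) β := by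
  have ac : ∀ {g m n}, Ac (j.comp θ) g m n ↔ Ac j g (θ m) (θ n) := Iff.rfl
  refine ⟨?_, ?_, ?_, fun m => ?_, ?_⟩
  · rw [ac, map_mul, k.t, k.z]; exact b.t
  · rw [ac, k.w]; exact b.w
  · rw [ac, k.q]; exact b.q
  · obtain ⟨n, e⟩ := b.nm (θ m)
    exact ⟨θ n, by rwa [ac, k.inv]⟩
  · obtain ⟨n, e⟩ := b.sq
    exact ⟨θ n, by rwa [MonoidHom.comp_apply, k.inv]⟩

theorem Bt.sq' (b : Bt j β) : ∃ n, β * β = j n ∧ Ac j β n n ∧ ∀ m, Ac j (β * β) m (n * m * n⁻¹) := by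
  obtain ⟨n, e⟩ := b.sq
  exact ⟨n, e, .of_comm (by rw [← e, mul_assoc]), fun m => e ▸ .inn n m⟩

theorem d_aux : ∀ d : P, d * W = W * d → d * Q = Q * d → d * d = Z → d = D ∨ d = D * Z ∨
    d = T * D ∨ d = T * D * Z := by decide +kernel

theorem d_aux' : ∀ n : P, n * W * n⁻¹ = W → n * Q * n⁻¹ = Q → n * D * n⁻¹ = D := by decide +kernel

theorem Sit.delta (h : Sit j ρ κ) (b : Bt j β) :
    ∃ j' : P →* G, Sit j' ρ κ ∧ Bt j' β ∧ Ac j' β D D := by
  obtain ⟨d, e⟩ := b.nm D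
  obtain ⟨n, -, -, en⟩ := b.sq'
  have e2 : Ac j (β * β) D D := (en D).to rfl (d_aux' n ((en W).uniq h.inj (b.w.comp b.w))
    ((en Q).uniq h.inj (b.q.comp b.q)))
  rcases d_aux d (((e.mul b.w).to (by decide +kernel) rfl).uniq h.inj (b.w.mul e))
    (((e.mul b.q).to (by decide +kernel) rfl).uniq h.inj (b.q.mul e))
    (((e.mul e).to (by decide +kernel) rfl).uniq h.inj b.z) with rfl | rfl | rfl | rfl
  · exact ⟨j, h, b, e⟩
  · exact ⟨_, h.comp thT, b.comp thT,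
      (e.mul b.t).to (m' := θT D) (n' := θT D) (by decide +kernel) (by decide +kernel)⟩
  · exact absurd ((e.comp (b.t.mul e)).uniq h.inj e2) (by decide +kernel)
  · exact absurd ((e.comp ((b.t.mul e).mul b.z)).uniq h.inj e2) (by decide +kernel)

end Cfsg.Agent.H64.T2
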