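import Cfsg.Agent.H64.G3D
import Cfsg.Agent.H67.T3J

/-!
# An extraspecial group of order `3⁵` with `SL₂(3)` on top: the commutator form
-/

set_option autoImplicit false

namespace Cfsg.Agent.H64.L4

open Subgroup K3
open Cfsg.Agent.H67.T3 (E3 E)
open scoped MatrixGroups

variable {G : Type*} [Group G]

/-- the group of order 24 -/
abbrev S2 : Type := SL(2, ZMod 3)
/-- a transvection -/
def U0 : S2 := ⟨!![1, 1; 0, 1], by decide⟩
/-- an element of order four -/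
def I0 : S2 := ⟨!![0, 2; 1, 0], by decide⟩

theorem s_gen : ∀ s : S2, ∃ a c : Fin 3, ∃ b : Fin 4, s = U0 ^ a.1 * I0 ^ b.1 * U0 ^ c.1 := by
  decide +kernel
theorem s_core : ∀ s : S2, (∀ g, (g * s * g⁻¹ * s) ^ 3 = 1) → s ^ 3 = 1 → s = 1 := by
  decide +kernel
theorem s_nrm : ∀ s : S2, s = 1 ∨ s = -1 ∨ ∃ g, (g * s * g⁻¹ * s⁻¹) ^ 2 = -1 := by decide +kernel
theorem s_two : ∀ a b : S2, a ^ 3 = 1 → b ^ 3 = 1 → (a * b) ^ 3 = 1 → (a * b⁻¹) ^ 3 = 1 →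
    a * b * a⁻¹ * b⁻¹ = 1 ∧ (a = 1 ∨ b = 1 ∨ a * b = 1 ∨ a * b⁻¹ = 1) := by decide +kernel
theorem s_three : ∀ s : S2, s ^ 3 = 1 → s = 1 ∨ ∃ g, g * s * g⁻¹ = U0 ∨ g * s⁻¹ * g⁻¹ = U0 := by
  decide +kernel
theorem s_out : ∀ s : S2, s * s ≠ 1 → U0 * s * U0⁻¹ = s * (U0⁻¹ * s * U0) → ∃ k : Fin 3,
    (U0 ^ k.1)⁻¹ * s * U0 ^ k.1 = -1 * (U0 ^ k.1 * I0 * (U0 ^ k.1)⁻¹) := by decide +kernel
theorem s_val : ∀ a c : Fin 3, ∀ b : Fin 4,
    (U0 ^ a.1 * I0 ^ b.1 * U0 ^ c.1) 1 0 = ![0, 1, 0, -1] b := by decide +kernel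
theorem card_9 : Nat.card (Multiplicative (ZMod 3) × Multiplicative (ZMod 3)) = 9 := by simp

open Classical in
/-- the commutator form -/
noncomputable def fm (z a b : G) : ZMod 3 :=
  if a * b * a⁻¹ * b⁻¹ = z then 1 else if a * b * a⁻¹ * b⁻¹ = z⁻¹ then -1 else 0

theorem fm_cj {z g : G} (h : Commute g z) (a b : G) :
    fm z (g * a * g⁻¹) (g * b * g⁻¹) = fm z a b := by
  have e : ∀ w, Commute g w → (g * (a * b * a⁻¹ * b⁻¹) * g⁻¹ = w ↔ a * b * a⁻¹ * b⁻¹ = w) :=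
    fun w k => by rw [mul_inv_eq_iff_eq_mul, ← k.eq, mul_right_inj]
  rw [fm, ← cjcm, e _ h, e _ h.inv_right, fm]

/-- the centraliser of `z` -/
structure Hz (z : G) (Q : Subgroup G) (σ : G → S2) : Prop where
  z3 : z ^ 3 = 1
  z1 : z ≠ 1
  zQ : z ∈ Q
  q3 : ∀ {q}, q ∈ Q → q ^ 3 = 1
  card : Nat.card Q = 243
  cm : ∀ {a b}, a ∈ Q → b ∈ Q → a * b * a⁻¹ * b⁻¹ ∈ zpowers z
  cen : ∀ {g}, (∀ q ∈ Q, Commute g q) → g ∈ zpowers z
  mul : ∀ {a b}, Commute a z → Commute b z → σ (a * b) = σ a * σ b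
  sur : ∀ s, ∃ c, Commute c z ∧ σ c = s
  ker : ∀ {c}, c ∈ Q ↔ Commute c z ∧ σ c = 1
  inv : ∀ {c q}, Commute c z → σ c = -1 → q ∈ Q → c * q * c⁻¹ * q ∈ zpowers z

/-- elements fixing `a` modulo `z` -/
def St (z a : G) : Subgroup G where
  carrier := {c | Commute c z ∧ c * a * c⁻¹ * a⁻¹ ∈ zpowers z}
  one_mem' := by simp
  mul_mem' := fun {c d} h k => ⟨h.1.mul_left k.1, by
    convert mul_mem k.2 h.2 using 1
    rw [← cjc.2 (K3.cz k.2 h.1)]; group⟩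
  inv_mem' := fun {c} h => ⟨h.1.inv_left, by
    convert inv_mem h.2 using 1
    rw [← cjc.2 (K3.cz h.2 h.1.inv_left)]; group⟩

namespace Hz

variable {z : G} {Q : Subgroup G} {σ : G → S2} (h : Hz z Q σ) {a b c d e g q : G}
include h

theorem zc (k : q ∈ Q) : Commute q z := (h.ker.1 k).1
theorem sQ (k : q ∈ Q) : σ q = 1 := (h.ker.1 k).2
theorem ZQ (k : e ∈ zpowers z) : e ∈ Q := zpowers_le.2 h.zQ k

/-- the map as a homomorphism -/
def hom : centralizer {z} →* S2 := MonoidHom.mk' (fun c => σ c) fun c d =>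
  h.mul (mem_centralizer_singleton_iff.1 c.2) (mem_centralizer_singleton_iff.1 d.2)

theorem si (k : Commute c z) : σ c⁻¹ = (σ c)⁻¹ :=
  map_inv h.hom ⟨c, mem_centralizer_singleton_iff.2 k⟩
theorem sp (k : Commute c z) (n : ℕ) : σ (c ^ n) = σ c ^ n :=
  map_pow h.hom ⟨c, mem_centralizer_singleton_iff.2 k⟩ n
theorem sc (k : Commute c z) (l : Commute d z) : σ (c * d * c⁻¹) = σ c * σ d * (σ c)⁻¹ := by
  rw [h.mul (k.mul_left l) k.inv_left, h.mul k l, h.si k]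
theorem s3 (k : Commute c z) (l : c ^ 3 = 1) : σ c ^ 3 = 1 := by
  rw [← h.sp k, l, h.sQ (one_mem _)]
theorem nQ (k : Commute c z) (l : q ∈ Q) : c * q * c⁻¹ ∈ Q :=
  h.ker.2 ⟨(k.mul_left (h.zc l)).mul_left k.inv_left, by simp [h.sc k (h.zc l), h.sQ l]⟩
theorem dv (k : Commute c z) (l : Commute d z) (e : σ c = σ d) : d⁻¹ * c ∈ Q :=
  h.ker.2 ⟨l.inv_left.mul_left k, by simp [h.mul l.inv_left k, h.si l, e]⟩

theorem gen {K : Subgroup G} {u i : G} (hQ : Q ≤ K) (hu : u ∈ K) (hi : i ∈ K) (cu : Commute u z)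
    (ci : Commute i z) (su : σ u = U0) (si : σ i = I0) (k : Commute c z) : c ∈ K := by
  obtain ⟨a, b, n, e⟩ := s_gen (σ c)
  have l := (cu.pow_left a).mul_left (ci.pow_left n)
  simpa only [mul_inv_cancel_left] using mul_mem (mul_mem (mul_mem (pow_mem hu a) (pow_mem hi n)) (pow_mem hu b))
    (hQ (h.dv k (l.mul_left (cu.pow_left b)) (by
      rw [h.mul l (cu.pow_left b), h.mul (cu.pow_left a) (ci.pow_left n), h.sp cu, h.sp cu, h.sp ci,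
        su, si, e])))

theorem conj (g : S2) : Hz z Q fun c => g * σ c * g⁻¹ :=
  ⟨h.z3, h.z1, h.zQ, h.q3, h.card, h.cm, h.cen, fun k l => by rw [h.mul k l, conj_mul],
    fun s => (h.sur (g⁻¹ * s * g)).imp fun c k => ⟨k.1, by rw [k.2]; group⟩,
    h.ker.trans (by rw [conj_eq_one_iff]), fun k e => h.inv k (by
      rw [mul_inv_eq_iff_eq_mul] at e; simpa using congrArg (g⁻¹ * ·) e)⟩

theorem core {N : Subgroup G} (n3 : ∀ q ∈ N, q ^ 3 = 1)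
    (n : ∀ c, Commute c z → ∀ q ∈ N, c * q * c⁻¹ ∈ N) (k : q ∈ N) (l : Commute q z) : q ∈ Q :=
  h.ker.2 ⟨l, s_core _ (fun g => by
    obtain ⟨c, hc, rfl⟩ := h.sur g
    have m := (hc.mul_left l).mul_left hc.inv_left
    rw [← h.sc hc l, ← h.mul m l]
    exact h.s3 (m.mul_left l) (n3 _ (mul_mem (n c hc q k) k))) (h.s3 l (n3 q k))⟩

theorem nQ' (k : g * z * g⁻¹ = z⁻¹) (l : q ∈ Q) : g * q * g⁻¹ ∈ Q := by
  have k' : g⁻¹ * z * g = z⁻¹ := by nth_rw 1 [← inv_inv z, ← k]; group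
  refine h.core (N := Q.comap (MulAut.conj g⁻¹).toMonoidHom)
    (fun q m => conj_eq_one_iff.1 (conj_pow.symm.trans (h.q3 m))) (fun c hc q m => ?_) (by simpa [mul_assoc])
    (cmj (k' ▸ (h.zc l).inv_right))
  have : Commute (g⁻¹ * c * g⁻¹⁻¹) z := cmj (by simpa [k])
  simpa [mul_assoc] using h.nQ this m

theorem zinj {i j : ZMod 3} (e : z ^ i.val = z ^ j.val) : i = j := by
  rw [pow_eq_pow_iff_modEq, orderOf_eq_prime h.z3 h.z1] at e
  exact ZMod.val_injective 3 (Nat.ModEq.eq_of_lt_of_lt e i.val_lt j.val_lt)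

theorem zex (k : e ∈ zpowers z) : ∃ i : ZMod 3, e = z ^ i.val := by
  rcases zp3 h.z3 k with rfl | rfl | rfl
  exacts [⟨0, by simp⟩, ⟨1, (pow_one _).symm⟩, ⟨2, (sq _).symm⟩]

theorem fe (k : a ∈ Q) (l : b ∈ Q) : a * b * a⁻¹ * b⁻¹ = z ^ (fm z a b).val := by
  have z2 : z⁻¹ ≠ z := fun e => h.z1 (inv3 h.z3 e)
  rcases zp3' h.z3 (h.cm k l) with e | e | e <;> rw [fm, e]
  · rw [if_neg h.z1.symm, if_neg (inv_ne_one.2 h.z1).symm]; simp
  · rw [if_pos rfl]; exact (pow_one _).symm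
  · rw [if_neg z2, if_pos rfl, inv_eq_iff_mul_eq_one, ← pow_succ']; exact h.z3

theorem fe' (k : a ∈ Q) (l : b ∈ Q) : a * b * a⁻¹ = z ^ (fm z a b).val * b :=
  mul_inv_eq_iff_eq_mul.1 (h.fe k l)

theorem ml (k : a ∈ Q) (l : b ∈ Q) (m : c ∈ Q) : fm z (a * b) c = fm z a c + fm z b c := by
  refine h.zinj ?_
  rw [add_comm, pow_val_add h.z3, ← h.fe (mul_mem k l) m, ← h.fe k m,
    ← cjc.2 ((h.zc k).pow_right _), ← h.fe l m]
  group

theorem sw (k : a ∈ Q) (l : b ∈ Q) : fm z a b = -fm z b a := by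
  refine eq_neg_of_add_eq_zero_left (h.zinj ?_)
  rw [pow_val_add h.z3, ← h.fe k l, ← h.fe l k]; simp [mul_assoc]

theorem mr (k : a ∈ Q) (l : b ∈ Q) (m : c ∈ Q) : fm z c (a * b) = fm z c a + fm z c b := by
  rw [h.sw m (mul_mem k l), h.ml k l m, h.sw m k, h.sw m l, neg_add]

theorem f0 (k : a ∈ Q) (l : b ∈ Q) : fm z a b = 0 ↔ Commute a b := by
  rw [← cm1, h.fe k l]; exact ⟨fun e => by simp [e], fun e => h.zinj (by simpa)⟩

theorem fa (k : a ∈ Q) : fm z a a = 0 := (h.f0 k k).2 (Commute.refl a)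

/-- the form as a homomorphism in the second variable -/
noncomputable def fh (k : a ∈ Q) : Q →* Multiplicative (ZMod 3) :=
  MonoidHom.mk' (fun q => Multiplicative.ofAdd (fm z a q)) fun p q => h.mr p.2 q.2 k

theorem ir (k : a ∈ Q) (l : b ∈ Q) : fm z a b⁻¹ = -fm z a b := map_inv (h.fh k) ⟨b, l⟩
theorem il (k : a ∈ Q) (l : b ∈ Q) : fm z a⁻¹ b = -fm z a b := by
  rw [h.sw (inv_mem k) l, h.ir l k, h.sw k l]
theorem pr (k : a ∈ Q) (l : b ∈ Q) (i : ZMod 3) : fm z a (b ^ i.val) = i * fm z a b :=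
  (map_pow (h.fh k) ⟨b, l⟩ i.val).trans (by
    change i.val • fm z a b = _; rw [nsmul_eq_mul, ZMod.natCast_zmod_val])
theorem pl (k : a ∈ Q) (l : b ∈ Q) (i : ZMod 3) : fm z (a ^ i.val) b = i * fm z a b := by
  rw [h.sw (pow_mem k _) l, h.pr l k, h.sw k l, mul_neg]
theorem zl (k : e ∈ zpowers z) (l : b ∈ Q) : fm z e b = 0 :=
  (h.f0 (h.ZQ k) l).2 (K3.cz k (h.zc l)).symm
theorem nd (k : a ∈ Q) (l : ∀ b ∈ Q, fm z a b = 0) : a ∈ zpowers z :=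
  h.cen fun q m => (h.f0 k m).1 (l q m)
theorem ex (k : a ∈ Q) (l : a ∉ zpowers z) (i : ZMod 3) : ∃ b ∈ Q, fm z a b = i := by
  obtain ⟨b, m, e⟩ : ∃ b ∈ Q, fm z a b ≠ 0 := by simpa using mt (h.nd k) l
  exact ⟨_, pow_mem m (i / fm z a b).val, by rw [h.pr k m, div_mul_cancel₀ _ e]⟩

theorem cji (k : g * z * g⁻¹ = z⁻¹) (l : a ∈ Q) (m : b ∈ Q) :
    fm z (g * a * g⁻¹) (g * b * g⁻¹) = -fm z a b := by
  refine eq_neg_of_add_eq_zero_left (h.zinj ?_)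
  rw [pow_val_add h.z3, ← h.fe (h.nQ' k l) (h.nQ' k m), ← cjcm, h.fe l m, ← conj_pow, k]; simp

omit h in
theorem cjl (k : Commute c z) : fm z (c * a * c⁻¹) b = fm z a (c⁻¹ * b * c) := by
  rw [← fm_cj k a]; congr 1; group

theorem md (k : a * b⁻¹ ∈ zpowers z) (l : b ∈ Q) (m : c ∈ Q) : fm z a c = fm z b c := by
  rw [← inv_mul_cancel_right a b, h.ml (h.ZQ k) l m, h.zl k m, zero_add]

theorem QS (k : a ∈ Q) : Q ≤ St z a := fun _ m => ⟨h.zc m, h.cm m k⟩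

theorem st (k : d ∈ St z a) (l : a ∈ Q) (m : Commute c z) (n : b ∈ Q) :
    fm z (c * d * a * (c * d)⁻¹) b = fm z (c * a * c⁻¹) b := by
  refine h.md ?_ (h.nQ m l) n
  convert k.2 using 1
  rw [← cjc.2 (K3.cz k.2 m)]; group

theorem sg (k : Commute c z) (k' : Commute d z) (e : σ c = σ d) (l : a ∈ Q) (n : b ∈ Q) :
    fm z (c * a * c⁻¹) b = fm z (d * a * d⁻¹) b := by
  simpa using h.st (h.QS l (h.dv k k' e)) l k' n

theorem ng (k : Commute c z) (k' : Commute d z) (e : σ c = -1 * σ d) (l : a ∈ Q) (n : b ∈ Q) :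
    fm z (c * a * c⁻¹) b = -fm z (d * a * d⁻¹) b := by
  have m := h.nQ k' l
  rw [← h.il m n]
  refine h.md ?_ (inv_mem m) n
  simpa [mul_assoc] using h.inv (k.mul_left k'.inv_left)
    (by rw [h.mul k k'.inv_left, h.si k', e, mul_inv_cancel_right]) m

theorem ng1 (k : Commute c z) (e : σ c = -1) (l : a ∈ Q) (n : b ∈ Q) :
    fm z (c * a * c⁻¹) b = -fm z a b := by
  simpa using h.ng k (Commute.one_left z) (by rw [e, h.sQ (one_mem _), mul_one]) l n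

theorem exinv (k : a ∈ Q) (l : a ∉ zpowers z) :
    ∃ t, Commute t z ∧ σ t = -1 ∧ t * a * t⁻¹ = a⁻¹ ∧ t * t = 1 := by
  obtain ⟨c, hc, e⟩ := h.sur (-1)
  obtain ⟨i, hi⟩ := h.zex (h.inv hc e k)
  obtain ⟨q, m, e'⟩ := h.ex k l i
  have c1 := hc.mul_left (h.zc m)
  have s1 : σ (c * q) = -1 := by rw [h.mul hc (h.zc m), h.sQ m, e, mul_one]
  have i1 : c * q * a * (c * q)⁻¹ = a⁻¹ := by
    calc _ = c * (q * a * q⁻¹) * c⁻¹ * a * a⁻¹ := by group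
      _ = _ := by
        rw [h.fe' m k, ← conj_mul, cjc.2 (hc.pow_right _), mul_assoc (z ^ _), hi, ← pow_val_add h.z3,
          h.sw m k, e']; simp
  refine ⟨(c * q) ^ 3, c1.pow_left 3, by rw [h.sp c1, s1]; decide, ?_, ?_⟩
  · calc _ = c * q * (c * q * (c * q * a * (c * q)⁻¹) * (c * q)⁻¹) * (c * q)⁻¹ := by
          rw [pow_three]; group
      _ = _ := by rw [i1, ← conj_inv, i1, inv_inv, i1]
  · rw [← (Commute.refl _).mul_pow]
    exact h.q3 (h.ker.2 ⟨c1.mul_left c1, by rw [h.mul c1 c1, s1]; decide⟩)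

theorem fE (k : b ∈ Q) (l : c ∈ Q) (m : q ∈ Q) (p : H67.T3.V3) :
    fm z (E3 z b c p) q = p.2.1 * fm z b q + p.2.2 * fm z c q := by
  rw [E3, E, h.ml (pow_mem h.zQ _) (mul_mem (pow_mem k _) (pow_mem l _)) m,
    h.ml (pow_mem k _) (pow_mem l _) m, h.pl k m, h.pl l m, h.zl (pow_mem (mem_zpowers z) _) m,
    zero_add]

omit h in
/-- linear independence modulo `z` -/
def Ind (z : G) (Q : Subgroup G) (b c : G) : Prop :=
  ∀ j k : ZMod 3, (∀ q ∈ Q, j * fm z b q + k * fm z c q = 0) → j = 0 ∧ k = 0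

theorem two (k : b ∈ Q) (l : c ∈ Q) (i : Ind z Q b c) (s t : ZMod 3) :
    ∃ q ∈ Q, fm z b q = s ∧ fm z c q = t := by
  obtain ⟨q, m, e⟩ : ∃ q ∈ Q, fm z b q ≠ 0 := by simpa using mt (i 1 0) (by decide)
  obtain ⟨q', m', e'⟩ : ∃ q' ∈ Q, ¬ fm z c q * fm z b q' + -fm z b q * fm z c q' = 0 := by
    simpa only [not_forall, exists_prop] using mt (i _ _) fun o => e (neg_eq_zero.1 o.2)
  obtain ⟨x, y, o⟩ := (by decide : ∀ a b c d s t : ZMod 3, ¬ c * b + -a * d = 0 →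
    ∃ x y, x * a + y * b = s ∧ x * c + y * d = t) _ _ _ _ s t e'
  exact ⟨_, mul_mem (pow_mem m x.val) (pow_mem m' y.val), by
    rwa [h.mr (pow_mem m _) (pow_mem m' _) k, h.mr (pow_mem m _) (pow_mem m' _) l, h.pr k m,
      h.pr k m', h.pr l m, h.pr l m']⟩

theorem bas (k : b ∈ Q) (l : c ∈ Q) (i : Ind z Q b c) (e : fm z b c = 0) :
    H67.T3.Bas3 (Q ⊓ centralizer {b} ⊓ centralizer {c}) z b c := by
  have cm := (h.f0 k l).1 e
  obtain ⟨A, hA⟩ := H67.T3.exists_bas3 h.z3 (h.q3 k) (h.q3 l) (h.zc k).symm (h.zc l).symm cm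
    fun p o => by
      obtain ⟨h1, h2⟩ := i p.2.1 p.2.2 fun q m => by rw [← h.fE k l m, o, h.zl (one_mem _) m]
      simp only [E3, E, h1, h2, ZMod.val_zero, pow_zero, mul_one] at o
      exact Prod.ext (h.zinj (by simpa)) (Prod.ext h1 h2)
  convert hA
  have f := ((h.fh k).prod (h.fh l)).ker.card_mul_index
  rw [index_ker, MonoidHom.range_eq_top.2 fun s => by
    obtain ⟨q, m, e⟩ := h.two k l i s.1 s.2
    exact ⟨⟨q, m⟩, Prod.ext e.1 e.2⟩, card_top, h.card] at f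
  haveI : Finite Q := Nat.finite_of_card_ne_zero (by rw [h.card]; decide)
  have o : ((h.fh k).prod (h.fh l)).ker.map Q.subtype = Q ⊓ centralizer {b} ⊓ centralizer {c} := by
    ext g
    simp only [mem_inf, mem_centralizer_singleton_iff]
    refine ⟨?_, fun ⟨⟨m, n⟩, o⟩ => ⟨⟨g, m⟩, Prod.ext ((h.f0 k m).2 n.symm) ((h.f0 l m).2 o.symm), rfl⟩⟩
    rintro ⟨g, o, rfl⟩
    exact ⟨⟨g.2, ((h.f0 k g.2).1 (congrArg Prod.fst o)).symm⟩,
      ((h.f0 l g.2).1 (congrArg Prod.snd o)).symm⟩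
  haveI : Finite ↥(Q ⊓ centralizer {b} ⊓ centralizer {c}) :=
    Finite.of_injective _ (inclusion_injective (inf_le_left.trans inf_le_left))
  refine (eq_of_le_of_card_ge (fun g m => ?_) ?_).symm
  · obtain ⟨p, rfl⟩ := (hA.mem g).1 m
    have := fun q => hA.commute m (hA.memE q)
    exact ⟨⟨mul_mem (pow_mem h.zQ _) (mul_mem (pow_mem k _) (pow_mem l _)),
      mem_centralizer_singleton_iff.2 (by simpa [E3, E, ZMod.val_one] using this (0, 1, 0))⟩,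
      mem_centralizer_singleton_iff.2 (by simpa [E3, E, ZMod.val_one] using this (0, 0, 1))⟩
  · rw [← o, card_map_of_injective Q.subtype_injective, hA.card]
    rw [card_9] at f; omega

theorem span (k : b ∈ Q) (l : c ∈ Q) (i : Ind z Q b c) (e : fm z b c = 0) (m : d ∈ Q)
    (e1 : fm z b d = 0) (e2 : fm z c d = 0) : ∃ p, E3 z b c p = d :=
  ((h.bas k l i e).mem d).1 ⟨⟨m, mem_centralizer_singleton_iff.2 ((h.f0 k m).1 e1).symm⟩,
    mem_centralizer_singleton_iff.2 ((h.f0 l m).1 e2).symm⟩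

theorem indI {i : G} (k : a ∈ Q) (l : a ∉ zpowers z) (ci : Commute i z) (e : σ i * σ i = -1) :
    Ind z Q a (i * a * i⁻¹) := fun x y o => by
  by_contra n
  refine l (h.nd k fun q m => (by decide : ∀ x y A B : ZMod 3, ¬ (x = 0 ∧ y = 0) →
    x * A + y * B = 0 → x * -B + y * A = 0 → A = 0) x y _ _ n (o q m) ?_)
  have := o _ (h.nQ ci m)
  rwa [fm_cj ci, ← neg_neg (fm z a _), ← h.ng1 (ci.mul_left ci) ((h.mul ci ci).trans e) k
    (h.nQ ci m), show i * i * a * (i * i)⁻¹ = i * (i * a * i⁻¹) * i⁻¹ by group, fm_cj ci] at this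

theorem dep (k : a ∈ Q) (l : a ∉ zpowers z) (m : b ∈ Q)
    (o : ∀ q ∈ Q, fm z a q = 0 → fm z b q = 0) : ∃ i : ZMod 3, b * a ^ i.val ∈ zpowers z := by
  obtain ⟨r, n, e⟩ := h.ex k l 1
  refine ⟨-fm z b r, h.nd (mul_mem m (pow_mem k _)) fun q j => ?_⟩
  have i := pow_mem n (-fm z a q).val
  have := o _ (mul_mem j i) (by rw [h.mr j i k, h.pr k n, e]; ring)
  rw [h.mr j i m, h.pr m n] at this
  rw [h.ml m (pow_mem k _) j, h.pl k j]; linear_combination this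

theorem nab (k : a ∈ Q) (l : a ∉ zpowers z) :
    ∃ b ∈ Q, ∃ c ∈ Q, Commute b a ∧ Commute c a ∧ fm z b c ≠ 0 := by
  by_contra! n
  obtain ⟨r, m, e⟩ := h.ex k l 1
  have f := ((h.fh k).prod (h.fh m)).ker.card_mul_index
  have i := card_le_card_group ((h.fh k).prod (h.fh m)).range
  haveI : Finite (zpowers z) := finite_zpowers.2 (isOfFinOrder_iff_pow_eq_one.2 ⟨3, by decide, h.z3⟩)
  have o : ((h.fh k).prod (h.fh m)).ker.map Q.subtype ≤ zpowers z := by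
    rintro _ ⟨g, o, rfl⟩
    obtain ⟨i, hi⟩ := h.dep k l g.2 fun q j e => n _ g.2 q j
      ((h.f0 k g.2).1 (congrArg Prod.fst o)).symm ((h.f0 k j).1 e).symm
    have := h.zl hi m
    rw [h.ml g.2 (pow_mem k _) m, h.pl k m, e, h.sw g.2 m, show fm z r g = 0 from
      congrArg Prod.snd o] at this
    simpa [show i = 0 by simpa using this] using hi
  have := card_le_of_le o
  rw [card_map_of_injective Q.subtype_injective, Nat.card_zpowers, orderOf_eq_prime h.z3 h.z1] at this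
  rw [index_ker, h.card] at f
  rw [card_9] at i; nlinarith

theorem phi {u i : G} (k : a ∈ Q) (hu : u ∈ St z a) (su : σ u = U0) (ci : Commute i z)
    (si : σ i = I0) (hc : Commute c z) (hd : Commute d z) :
    fm z (c * a * c⁻¹) (d * a * d⁻¹) = fm z a (i * a * i⁻¹) * ((σ c)⁻¹ * σ d) 1 0 := by
  have cd := hc.inv_left.mul_left hd
  obtain ⟨x, y, n, e⟩ := s_gen ((σ c)⁻¹ * σ d)
  have l := (hu.1.pow_left x).mul_left (ci.pow_left n)
  have m := h.nQ (ci.pow_left n) k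
  have o : fm z (c * a * c⁻¹) (d * a * d⁻¹) = -fm z (i ^ n.1 * a * (i ^ n.1)⁻¹) a := by
    rw [cjl hc, show c⁻¹ * (d * a * d⁻¹) * c = c⁻¹ * d * a * (c⁻¹ * d)⁻¹ by group, h.sw k (h.nQ cd k),
      h.sg cd (l.mul_left (hu.1.pow_left y)) (by
        rw [h.mul l (hu.1.pow_left y), h.mul (hu.1.pow_left x) (ci.pow_left n), h.sp hu.1, h.sp hu.1,
          h.sp ci, su, si, ← e, h.mul hc.inv_left hd, h.si hc]) k k, h.st (pow_mem hu y) k l k,
      show u ^ x.1 * i ^ n.1 * a * (u ^ x.1 * i ^ n.1)⁻¹ =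
        u ^ x.1 * (i ^ n.1 * a * (i ^ n.1)⁻¹) * (u ^ x.1)⁻¹ by group, cjl (hu.1.pow_left x),
      h.sw m (by simpa using h.nQ (hu.1.pow_left x).inv_left k), h.sw m k,
      h.md (by simpa using (inv_mem (pow_mem hu x)).2) k m]
  rw [o, e, s_val]
  fin_cases n
  · simp [h.fa k]
  · simp [h.sw k (h.nQ ci k)]
  · rw [h.ng1 (ci.pow_left _) (by rw [h.sp ci, si]; decide) k k, h.fa k]; simp
  · rw [h.ng (ci.pow_left _) ci (by rw [h.sp ci, si]; decide) k k, h.sw k (h.nQ ci k)]; simp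

omit h in
theorem EK {K : Subgroup G} (k : z ∈ K) (l : b ∈ K) (m : c ∈ K) (p : H67.T3.V3) : E3 z b c p ∈ K :=
  mul_mem (pow_mem k _) (mul_mem (pow_mem l _) (pow_mem m _))

variable {y : G} {Q' : Subgroup G} {σ' : G → S2} (h' : Hz y Q' σ') (y1 : y ∉ zpowers z)
include h' y1

omit h in
theorem dis (k : e ∈ zpowers z) (l : e ∈ zpowers y) : e = 1 := by
  by_contra n
  rcases zp3'' h'.z3 l n (mem_zpowers y) with o | o | o <;> refine y1 (o ▸ ?_)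
  exacts [one_mem _, k, inv_mem k]

theorem ab (k : a ∈ Q ⊓ Q') (l : b ∈ Q ⊓ Q') : Commute a b :=
  cm1.1 (h'.dis y1 (h.cm k.1 l.1) (h'.cm k.2 l.2))

end Hz

/-- a conjugate `y` of `z` in `Q` -/
structure Pz (z y u i : G) (Q Q' : Subgroup G) (σ σ' : G → S2) : Prop where
  h : Hz z Q σ
  h' : Hz y Q' σ'
  yQ : y ∈ Q
  y1 : y ∉ zpowers z
  zQ : z ∈ Q'
  uQ : u ∈ Q'
  uz : Commute u z
  su : σ u = U0
  iz : Commute i z
  si : σ i = I0
  aQ : i * y * i⁻¹ ∈ Q'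

theorem p1 {z y : G} {Q Q' : Subgroup G} {σ σ' : G → S2} (h : Hz z Q σ) (h' : Hz y Q' σ')
    (yQ : y ∈ Q) (y1 : y ∉ zpowers z) : ∃ σ u i, Pz z y u i Q Q' σ σ' := by
  obtain ⟨b, hb, c, hc, cb, cc, ne⟩ := h.nab yQ y1
  have cbc := cb.mul_left cc.inv_left
  obtain ⟨e1, e2⟩ := s_two (σ' b) (σ' c) (h'.s3 cb (h.q3 hb)) (h'.s3 cc (h.q3 hc))
    (h'.mul cb cc ▸ h'.s3 (cb.mul_left cc) (h.q3 (mul_mem hb hc)))
    (h'.si cc ▸ h'.mul cb cc.inv_left ▸ h'.s3 cbc (h.q3 (mul_mem hb (inv_mem hc))))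
  have zQ : z ∈ Q' := by
    have k := (cb.mul_left cc).mul_left cb.inv_left
    have := pow_mem (h'.ker.2 ⟨k.mul_left cc.inv_left, by
      rw [h'.mul k cc.inv_left, h'.sc cb cc, h'.si cc, e1]⟩) (fm z b c)⁻¹.val
    rwa [h.fe hb hc, ← pow_val_mul h.z3, mul_inv_cancel₀ ne, ZMod.val_one, pow_one] at this
  obtain ⟨x, xV, e, he, ey, xe⟩ : ∃ x ∈ Q ⊓ Q', ∃ e ∈ Q, Commute e y ∧ fm z x e ≠ 0 := by
    rcases e2 with o | o | o | o
    · exact ⟨b, ⟨hb, h'.ker.2 ⟨cb, o⟩⟩, c, hc, cc, ne⟩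
    · exact ⟨c, ⟨hc, h'.ker.2 ⟨cc, o⟩⟩, b, hb, cb, by rwa [h.sw hc hb, neg_ne_zero]⟩
    · exact ⟨_, ⟨mul_mem hb hc, h'.ker.2 ⟨cb.mul_left cc, (h'.mul cb cc).trans o⟩⟩, c, hc, cc, by
        rwa [h.ml hb hc hc, h.fa hc, add_zero]⟩
    · exact ⟨_, ⟨Q.mul_mem hb (inv_mem hc), h'.ker.2 ⟨cbc, by rw [h'.mul cb cc.inv_left, h'.si cc, o]⟩⟩,
        c, hc, cc, by rwa [h.ml hb (inv_mem hc) hc, h.il hc hc, h.fa hc, neg_zero, add_zero]⟩
  have z1 : z ∉ zpowers y := fun k => h.z1 (h'.dis y1 (mem_zpowers z) k)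
  have yZ : zpowers y ≤ Q := zpowers_le.2 yQ
  obtain ⟨σ, u, h, uQ, uz, ux, su⟩ : ∃ σ u, Hz z Q σ ∧ u ∈ Q' ∧ Commute u z ∧ ¬ Commute u x ∧
      σ u = U0 := by
    obtain ⟨u, uQ, k, l⟩ : ∃ u ∈ Q', fm y z u = 0 ∧ fm y x u ≠ 0 := by
      by_contra! n
      obtain ⟨j, k⟩ := h'.dep zQ z1 xV.2 n
      have := (h.f0 (yZ k) he).2 (K3.cz k ey).symm
      rw [h.ml xV.1 (pow_mem h.zQ _) he, h.zl (pow_mem (mem_zpowers z) _) he, add_zero] at this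
      exact xe this
    have uz := ((h'.f0 zQ uQ).1 k).symm
    have ux : ¬ Commute u x := fun o => l ((h'.f0 xV.2 uQ).2 o.symm)
    obtain ⟨g, o | o⟩ := (s_three _ (h.s3 uz (h'.q3 uQ))).resolve_left fun o =>
      ux (h.ab h' y1 ⟨h.ker.2 ⟨uz, o⟩, uQ⟩ xV)
    · exact ⟨_, u, h.conj g, uQ, uz, ux, o⟩
    · exact ⟨_, u⁻¹, h.conj g, inv_mem uQ, uz.inv_left, by simpa, by simpa only [h.si uz]⟩
  obtain ⟨i, iz, si⟩ := h.sur I0
  have uy := h'.zc uQ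
  have uS : u ∈ St z y := ⟨uz, by simp [uy.eq]⟩
  have aQ := h.nQ iz yQ
  have xy := (h.f0 xV.1 yQ).2 (h'.zc xV.2)
  have ii : σ i * σ i = -1 := by rw [si]; decide
  have al : fm z y (i * y * i⁻¹) = 0 := by
    have ui := uz.mul_left iz
    have m := mul_mem (h.nQ ui yQ) (inv_mem aQ)
    have wQ := mul_mem m (inv_mem yQ)
    have key : ∀ d, Commute d z → Commute (u * i * y * (u * i)⁻¹ * (i * y * i⁻¹)⁻¹ * y⁻¹)
        (d * y * d⁻¹) := fun d hd => by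
      have l := h.nQ hd yQ
      have := h.phi yQ uS su iz si (Commute.one_left z) hd
      rw [one_mul, inv_one, mul_one, h.sQ (one_mem _)] at this
      rw [← h.f0 wQ l, h.ml m (inv_mem yQ) l, h.ml (h.nQ ui yQ) (inv_mem aQ) l, h.il aQ l, h.il yQ l,
        this, h.phi yQ uS su iz si ui hd, h.phi yQ uS su iz si iz hd, h.mul uz iz, su, si]
      linear_combination fm z y (i * y * i⁻¹) * (by decide +kernel : ∀ s : S2,
        ((U0 * I0)⁻¹ * s) 1 0 - (I0⁻¹ * s) 1 0 - (1⁻¹ * s) 1 0 = 0) (σ d)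
    generalize hw : u * i * y * (u * i)⁻¹ * (i * y * i⁻¹)⁻¹ * y⁻¹ = w at wQ key
    by_cases wZ : w ∈ zpowers z
    · have k := fm_cj uz x (i * y * i⁻¹)
      have l := mul_mem (mul_mem wQ yQ) aQ
      rw [h'.fe' uQ xV.2, show u * (i * y * i⁻¹) * u⁻¹ = w * y * (i * y * i⁻¹) by rw [← hw]; group,
        h.ml (pow_mem yQ _) xV.1 l, h.pl yQ l, h.mr (mul_mem wQ yQ) aQ yQ, h.mr (mul_mem wQ yQ) aQ xV.1,
        h.mr wQ yQ yQ, h.mr wQ yQ xV.1, h.sw yQ wQ, h.sw xV.1 wQ, h.zl wZ yQ, h.zl wZ xV.1, h.fa yQ,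
        xy] at k
      simpa [h'.f0 uQ xV.2, ux] using k
    have k1 : Commute w y := by simpa using key 1 (Commute.one_left z)
    have B := h.bas wQ (h.nQ iz wQ) (h.indI wQ wZ iz ii) ((h.f0 wQ (h.nQ iz wQ)).2 (by
      rw [show i * w * i⁻¹ = i * (u * i) * y * (i * (u * i))⁻¹ * (i * i * y * (i * i)⁻¹)⁻¹ *
        (i * y * i⁻¹)⁻¹ by rw [← hw]; group]
      exact ((key _ (iz.mul_left ui)).mul_right (key _ (iz.mul_left iz)).inv_right).mul_right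
        (key i iz).inv_right))
    refine (h.f0 yQ aQ).2 (B.commute ⟨⟨yQ, mem_centralizer_singleton_iff.2 k1.symm⟩,
      mem_centralizer_singleton_iff.2 (cmj ?_).symm⟩ ⟨⟨aQ, mem_centralizer_singleton_iff.2
        (key i iz).symm⟩, mem_centralizer_singleton_iff.2 (cmj ?_).symm⟩)
    · simpa using key _ iz.inv_left
    · simpa [mul_assoc] using k1
  obtain ⟨r, ry, sr, rz, rr⟩ := h'.exinv zQ z1
  have ri : r⁻¹ = r := inv_eq_of_mul_eq_one_right rr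
  have cr : ∀ {c}, Commute c z → Commute (r * c * r⁻¹) z := fun k =>
    cmj (by rw [ri]; nth_rw 2 [← ri]; rw [rz]; exact k.inv_right)
  have mr : ∀ {c d}, Commute c z → Commute d z →
      σ (r * (c * d) * r⁻¹) = σ (r * c * r⁻¹) * σ (r * d * r⁻¹) := fun k l => by
    rw [← conj_mul, h.mul (cr k) (cr l)]
  have ru : σ (r * u * r⁻¹) = U0⁻¹ := eq_inv_of_mul_eq_one_left (by
    rw [← su, ← h.mul (cr uz) uz]; exact h.sQ (yZ (h'.inv ry sr uQ)))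
  have ru' : ∀ k : ℕ, σ (r * (u ^ k)⁻¹ * r⁻¹) = U0 ^ k ∧ σ (r * u ^ k * r⁻¹) = (U0 ^ k)⁻¹ := fun k => by
    rw [← conj_inv, h.si (cr (uz.pow_left k)), ← conj_pow, h.sp (cr uz), ru, inv_pow, inv_inv]
    exact ⟨rfl, rfl⟩
  have j := (uz.mul_left iz).mul_left uz.inv_left
  have j' := (uz.inv_left.mul_left iz).mul_left uz
  obtain ⟨k, o⟩ := s_out (σ (r * i * r⁻¹)) (fun o => by
    have := h.sQ (h.nQ' rz (h.ker.2 ⟨cr (iz.mul_left iz), (mr iz iz).trans o⟩))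
    rw [show r * (r * (i * i) * r⁻¹) * r⁻¹ = r * r * (i * i) * (r * r)⁻¹ by group, rr, one_mul, inv_one,
      mul_one, h.mul iz iz, ii] at this
    exact absurd this (by decide)) (by
    have := h.sQ (h.nQ' rz (h.dv j' (iz.mul_left j) (by
      rw [h.mul iz j, h.sc uz iz, h.mul (uz.inv_left.mul_left iz) uz, h.mul uz.inv_left iz, h.si uz,
        su, si]; decide)))
    have u1 := (ru' 1).1
    rw [pow_one, pow_one] at u1
    rwa [mr (iz.mul_left j).inv_left j', ← conj_inv, h.si (cr (iz.mul_left j)), inv_mul_eq_one, mr iz j,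
      mr (uz.mul_left iz) uz.inv_left, mr uz iz, mr (uz.inv_left.mul_left iz) uz, mr uz.inv_left iz,
      ru, u1, eq_comm] at this)
  have uk := uz.pow_left k
  have i1 := (uk.mul_left iz).mul_left uk.inv_left
  have a1 := h.nQ i1 yQ
  have ay := h.phi yQ uS su iz si i1 (Commute.one_left z)
  rw [al, zero_mul, one_mul, inv_one, mul_one] at ay
  have ax := h.cji rz a1 xV.1
  have xr := h'.inv ry sr xV.2
  rw [show ∀ j, r * (j * y * j⁻¹) * r⁻¹ = r * j * r⁻¹ * y * (r * j * r⁻¹)⁻¹ from fun j => by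
      nth_rw 2 [← cjc.2 ry]; group, h.ng (cr i1) i1 (by
    rw [mr (uk.mul_left iz) uk.inv_left, mr uk iz, (ru' k).1, (ru' k).2, o, h.sc uk iz, h.sp uz, su, si])
    yQ (h.nQ' rz xV.1), ← mul_inv_cancel_right (r * x * r⁻¹) x, h.mr (yZ xr) (inv_mem xV.1) a1,
    (h.f0 a1 (yZ xr)).2 (K3.cz xr ((h.f0 a1 yQ).1 ay)), h.ir a1 xV.1] at ax
  obtain ⟨p, hp⟩ := h.span yQ xV.1 (fun j k o => by
    have := o e he
    obtain rfl : k = 0 := by simpa [(h.f0 yQ he).2 ey.symm, xe] using this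
    obtain ⟨q, m, l⟩ := h.ex yQ y1 1
    simpa [l] using o q m) (by rw [h.sw yQ xV.1, xy, neg_zero]) a1 (by rw [h.sw yQ a1, ay, neg_zero])
    (by rw [h.sw xV.1 a1]; exact (by decide : ∀ a : ZMod 3, -(0 + -a) = -a → -a = 0) _ ax)
  refine ⟨σ, u, i, h, h', yQ, y1, zQ, uQ, uz, su, iz, si, ?_⟩
  convert h'.nQ (uy.pow_left k).inv_left (hp ▸ Hz.EK zQ h'.zQ xV.2 p) using 1
  nth_rw 1 [← cjc.2 (uy.pow_left k).inv_left]; group

namespace Pz

variable {z y u i : G} {Q Q' : Subgroup G} {σ σ' : G → S2} (P : Pz z y u i Q Q' σ σ')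
include P

theorem ii : σ i * σ i = -1 := by rw [P.si]; decide
theorem aQ0 : i * y * i⁻¹ ∈ Q := P.h.nQ P.iz P.yQ
theorem ind : Hz.Ind z Q y (i * y * i⁻¹) := P.h.indI P.yQ P.y1 P.iz P.ii
theorem al : fm z y (i * y * i⁻¹) = 0 := (P.h.f0 P.yQ P.aQ0).2 (P.h'.zc P.aQ).symm
theorem uS : u ∈ St z y := ⟨P.uz, by simp [(P.h'.zc P.uQ).eq]⟩

theorem eqV : Q ⊓ centralizer {y} ⊓ centralizer {i * y * i⁻¹} = Q ⊓ Q' :=
  le_antisymm (fun v k => by
    obtain ⟨p, rfl⟩ := ((P.h.bas P.yQ P.aQ0 P.ind P.al).mem v).1 k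
    exact ⟨k.1.1, Hz.EK P.zQ P.h'.zQ P.aQ p⟩) fun v k => ⟨⟨k.1, mem_centralizer_singleton_iff.2
      (P.h'.zc k.2)⟩, mem_centralizer_singleton_iff.2 (P.h.ab P.h' P.y1 k ⟨P.aQ0, P.aQ⟩)⟩

theorem bas : H67.T3.Bas3 (Q ⊓ Q') z y (i * y * i⁻¹) := P.eqV ▸ P.h.bas P.yQ P.aQ0 P.ind P.al

theorem nV {c v : G} (k : Commute c z) (l : v ∈ Q ⊓ Q') : c * v * c⁻¹ ∈ Q ⊓ Q' := by
  have o : ∀ {d}, Commute d z → d * y * d⁻¹ ∈ Q ⊓ Q' := fun {d} m => by
    have e := fun c n => (P.h.f0 (P.h.nQ m P.yQ) (P.h.nQ n P.yQ)).1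
      ((P.h.phi (d := c) P.yQ P.uS P.su P.iz P.si m n).trans (by rw [P.al, zero_mul]))
    exact P.eqV ▸ ⟨⟨P.h.nQ m P.yQ, mem_centralizer_singleton_iff.2 (by
      simpa using (e 1 (Commute.one_left z)).eq)⟩, mem_centralizer_singleton_iff.2 (e i P.iz)⟩
  obtain ⟨p, rfl⟩ := (P.bas.mem v).1 l
  rw [H67.T3.E3_conj, cjc.2 k]
  exact Hz.EK (mem_inf.2 ⟨P.h.zQ, P.zQ⟩) (o k) (by simpa [mul_assoc] using o (k.mul_left P.iz)) p

end Pz

end Cfsg.Agent.H64.L4
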