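import Cfsg.Agent.H64.L4P
import Cfsg.Prelude.Def_Transfer

/-!
# The chief factors of the extraspecial group
-/

set_option autoImplicit false

namespace Cfsg.Agent.H64.L4

open Subgroup K3 H67.T3
open scoped MatrixGroups

variable {G : Type*} [Group G]

theorem m_inv : ∀ m l : M2, m * (m * m) = 1 → l * (l * l) = 1 →
    m * l * (m * l) * (m * l * (m * l)) = 1 →
    m * l * (m * l) = -1 ∨ ∃ p, p ≠ 0 ∧ m.ap p = p ∧ l.ap p = p := by decide +kernel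

theorem fac3 [Finite G] {B : Subgroup G} [hB : B.Normal] (h : Nat.card B = 3) {g : G}
    (k : g ^ 3 ∈ centralizer (B : Set G)) : g ∈ centralizer (B : Set G) := fun b hb => by
  by_cases b1 : b = 1
  · simp [b1]
  have b3 : b ^ 3 = 1 := orderOf_dvd_iff_pow_eq_one.1 (h ▸ B.orderOf_dvd_natCard hb)
  have e := eq_of_le_of_card_ge (zpowers_le.2 hb) (by
    rw [Nat.card_zpowers, orderOf_eq_prime b3 b1, h])
  rcases zp3' b3 (e.ge (hB.conj_mem b hb g)) with o | o | o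
  · exact absurd (conj_eq_one_iff.1 o) b1
  · exact (cjc.1 o).symm
  · refine absurd (inv3 b3 ?_) b1
    calc _ = g * (g * (g * b * g⁻¹) * g⁻¹) * g⁻¹ := by rw [o, ← conj_inv, o, inv_inv, o]
      _ = g ^ 3 * b * (g ^ 3)⁻¹ := by rw [pow_three]; group
      _ = _ := by rw [← k b hb, mul_inv_cancel_right]

theorem fac9 [Finite G] {B : Subgroup G} [hB : B.Normal] (h : Nat.card B = 9)
    (h3 : ∀ b ∈ B, b ^ 3 = 1) {u j : G} (hu : u ^ 3 ∈ centralizer (B : Set G))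
    (hj : j ^ 3 ∈ centralizer (B : Set G)) (hi : (u * j) ^ 4 ∈ centralizer (B : Set G))
    (irr : ∀ b ∈ B, Commute b u → Commute b j → b = 1) {b : G} (hb : b ∈ B) :
    u * j * (u * j) * b * (u * j * (u * j))⁻¹ = b⁻¹ := by
  obtain ⟨v, hv, v1⟩ := H67.exists_ne_one_of_ne_bot (H := B) (by rintro rfl; simp at h)
  obtain ⟨w, hw, w1⟩ := SetLike.not_le_iff_exists.1 fun e : B ≤ zpowers v => by
    have := card_le_of_le e
    rw [Nat.card_zpowers, orderOf_eq_prime (h3 v hv) v1] at this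
    omega
  have := IsPGroup.isMulCommutative_of_card_eq_prime_sq (p := 3) h
  have k := bas_of h.le hv hw (h3 v hv) (h3 w hw) (mul_comm_of_mem_isMulCommutative B hv hw) v1 w1
  obtain ⟨m, hm⟩ := k.ex_act (g := u) (le_normalizer_of_normal (mem_top _))
  obtain ⟨l, hl⟩ := k.ex_act (g := j) (le_normalizer_of_normal (mem_top _))
  have i2 := (hm.mul hl).mul (hm.mul hl)
  rcases m_inv m l (k.act_eq (hm.mul (hm.mul hm)) (pow_three u ▸ k.act_of_cent hu))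
    (k.act_eq (hl.mul (hl.mul hl)) (pow_three j ▸ k.act_of_cent hj))
    (k.act_eq (i2.mul i2) (by convert k.act_of_cent hi using 1; simp [pow_succ, mul_assoc])) with
    e | ⟨p, p0, e1, e2⟩
  · exact k.inv_of_act (e ▸ i2) hb
  · exact absurd (k.inj p (irr _ (k.memE p) (cjc.1 (by rw [hm p, e1])).symm
      (cjc.1 (by rw [hl p, e2])).symm)) p0

theorem gen3 {X : Type*} [Group X] (π : X →* S2) {u j : X} (hu : π u = U0) (hj : π j = U0⁻¹ * I0)
    {M : Subgroup X} (k : π.ker ≤ M) (mu : u ∈ M) (mj : j ∈ M) (c : X) : c ∈ M := by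
  obtain ⟨a, b, n, e⟩ := s_gen (π c)
  simpa only [mul_inv_cancel_left] using mul_mem (mul_mem (mul_mem (pow_mem mu a)
    (pow_mem (mul_mem mu mj) n)) (pow_mem mu b)) (k (show (u ^ a.1 * (u * j) ^ n.1 * u ^ b.1)⁻¹ * c ∈ _
      by simp only [MonoidHom.mem_ker, map_mul, map_inv, map_pow, hu, hj, mul_inv_cancel_left, ← e,
        inv_mul_cancel]))

theorem fac [Finite G] (π : G →* S2) (hs : Function.Surjective π) {A B : Subgroup G} [A.Normal]
    [hB : B.Normal] (AB : A < B) (cm : ∀ q ∈ π.ker, ∀ b ∈ B, q * b * q⁻¹ * b⁻¹ ∈ A)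
    (b3 : ∀ b ∈ B, b ^ 3 = 1) (mx : ∀ D, A < D → D < B → ∃ k, ∃ d ∈ D, k * d * k⁻¹ ∉ D)
    (nc : ∃ k, ∃ a ∈ B, k * a * k⁻¹ * a⁻¹ ∉ A) : A.relIndex B ≠ 3 ∧
      (A.relIndex B = 9 → ∀ c, π c = -1 → ∀ b ∈ B, c * b * c⁻¹ * b ∈ A) := by
  let f := QuotientGroup.mk' A
  have f1 : ∀ a, f a = 1 ↔ a ∈ A := fun a => QuotientGroup.eq_one_iff a
  haveI := hB.map f (QuotientGroup.mk'_surjective A)
  have c1 : ∀ g b, f b * f g = f g * f b ↔ g * b * g⁻¹ * b⁻¹ ∈ A := fun g b => by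
    rw [← f1, map_mul, map_mul, map_mul, map_inv, map_inv, cm1, eq_comm]; rfl
  have ck : ∀ q, π q = 1 → f q ∈ centralizer (B.map f : Set (G ⧸ A)) := by
    rintro q hq _ ⟨b, hb, rfl⟩; exact (c1 q b).2 (cm q hq b hb)
  obtain ⟨u, hu⟩ := hs U0
  obtain ⟨j, hj⟩ := hs (U0⁻¹ * I0)
  have u3 := ck (u ^ 3) (by rw [map_pow, hu]; decide)
  have j3 := ck (j ^ 3) (by rw [map_pow, hj]; decide)
  rw [map_pow] at u3 j3
  obtain ⟨k, a, ha, na⟩ := nc
  rw [← H3.card_map_mk']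
  refine ⟨fun h => na ((c1 k a).1 (gen3 π hu hj (M := (centralizer (B.map f : Set (G ⧸ A))).comap f)
    ck (fac3 h u3) (fac3 h j3) k _ ⟨a, ha, rfl⟩)), fun h c hc b hb => ?_⟩
  have := fac9 h (by rintro _ ⟨b, hb, rfl⟩; rw [← map_pow, b3 b hb, map_one]) u3 j3
    (by rw [← map_mul, ← map_pow]; exact ck _ (by rw [map_pow, map_mul, hu, hj]; decide)) (by
      rintro _ ⟨d, hd, rfl⟩ h1 h2
      by_contra d1
      have o : ∀ g, f d * f g = f g * f d := fun g => mem_centralizer_singleton_iff.1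
        (gen3 π hu hj (M := (centralizer {f d}).comap f) (fun q hq => mem_centralizer_singleton_iff.2
          (ck q hq _ ⟨d, hd, rfl⟩).symm) (mem_centralizer_singleton_iff.2 h1.symm)
          (mem_centralizer_singleton_iff.2 h2.symm) g) |>.symm
      have le : (zpowers (f d)).comap f ≤ B := fun g ⟨i, e⟩ => by
        simpa using mul_mem (zpow_mem hd i) (AB.le ((f1 ((d ^ i)⁻¹ * g)).1 (by simp [← e])))
      obtain ⟨g, e, he, n⟩ := mx ((zpowers (f d)).comap f) (lt_of_le_of_ne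
        (fun a h => mem_comap.2 ((f1 a).2 h ▸ one_mem _)) fun e => d1 ((f1 d).2 (e.ge (mem_zpowers _))))
        (lt_of_le_of_ne le fun e => by
          have := card_le_of_le (map_le_iff_le_comap.2 e.ge)
          rw [h, Nat.card_zpowers, orderOf_eq_prime (by rw [← map_pow, b3 d hd, map_one]) d1] at this
          omega)
      exact n (mem_comap.2 (by rw [map_mul, map_mul, map_inv, cjc.2 (cz he (o g).symm)]; exact he)))
    (b := f b) ⟨b, hb, rfl⟩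
  have e := ck ((u * j * (u * j))⁻¹ * c) (by
    simp only [map_mul, map_inv, hu, hj, hc]; decide) _ ⟨b, hb, rfl⟩
  simp only [map_mul, map_inv] at e
  rw [← f1, map_mul, map_mul, map_mul, map_inv, mul_eq_one_iff_eq_inv, ← this,
    ← mul_inv_cancel_left (f u * f j * (f u * f j)) (f c), mul_assoc _ _ (f b), ← e]
  group

theorem Hz.cjg {z : G} {Q : Subgroup G} {σ : G → S2} (h : Hz z Q σ) (g : G) :
    Hz (g * z * g⁻¹) (Q.comap (MulAut.conj g⁻¹).toMonoidHom) fun c => σ (g⁻¹ * c * g⁻¹⁻¹) := by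
  have c : ∀ {a}, Commute a (g * z * g⁻¹) ↔ Commute (g⁻¹ * a * g⁻¹⁻¹) z := fun {a} =>
    ⟨fun k => cmj (by simpa), fun k => by
      simpa [mul_assoc, Commute, SemiconjBy] using (k.map (MulAut.conj g)).eq⟩
  have m : ∀ {a}, g⁻¹ * a * g⁻¹⁻¹ ∈ zpowers z → a ∈ zpowers (g * z * g⁻¹) := fun ⟨i, e⟩ =>
    ⟨i, by simp only at e ⊢; rw [conj_zpow, e]; group⟩
  refine ⟨by rw [conj_pow, h.z3]; simp, mt conj_eq_one_iff.1 h.z1, by simpa [mul_assoc] using h.zQ,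
    fun k => conj_eq_one_iff.1 (conj_pow.symm.trans (h.q3 k)), h.card ▸ Nat.card_congr
      ((MulAut.conj g⁻¹).toEquiv.subtypeEquiv fun _ => Iff.rfl), fun k l => m (by rw [cjcm]; exact h.cm k l),
    fun k => m (h.cen fun q l => cmj (k _ (by simpa [mul_assoc]))), fun k l => by
      rw [← h.mul (c.1 k) (c.1 l), conj_mul], fun s => ?_, h.ker.trans (by rw [c]; rfl),
    fun k e l => m (by simpa [mul_assoc] using h.inv (c.1 k) e l)⟩
  obtain ⟨a, k, e⟩ := h.sur s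
  exact ⟨g * a * g⁻¹, c.2 (by simpa [mul_assoc]), by simpa [mul_assoc]⟩

theorem ar81 {a b c d e : ℕ} (h : 3 ^ 5 = 3 * (a * b * c * d * e)) (b1 : b ≠ 1) (b3 : b ≠ 3)
    (d1 : d ≠ 1) (d3 : d ≠ 3) : a = 1 ∧ b = 9 ∧ c = 1 ∧ d = 9 ∧ e = 1 := by
  have k : ∀ n, n ∣ 3 ^ 4 → n ≠ 1 → n ≠ 3 → 9 ∣ n := fun n hn h1 h3 => by
    obtain ⟨k, hk, rfl⟩ := (Nat.dvd_prime_pow Nat.prime_three).1 hn
    interval_cases k <;> simp_all
  obtain ⟨b, rfl⟩ := k b ⟨a * c * d * e, by linarith⟩ b1 b3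
  obtain ⟨d, rfl⟩ := k d ⟨a * c * (9 * b) * e, by linarith⟩ d1 d3
  have : a * (b * (c * (d * e))) = 1 := by linarith
  simp_all

theorem base [Finite G] (S : Sylow 3 G) (Z : Subgroup G)
    (hZ : Z = (S : Subgroup G) ⊓ centralizer ((S : Subgroup G) : Set G))
    (C : Subgroup G) (hCZ : C = centralizer (Z : Set G))
    (Q : Subgroup G) (hQ : Q = (pCore 3 C).map C.subtype)
    (hQex : IsExtraspecial 3 Q) (hQcard : Nat.card Q = 3 ^ 5) (hQexp : ∀ a ∈ Q, a ^ 3 = 1)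
    (hCQ : centralizer (Q : Set G) ≤ Q)
    (hZQ : ∃ x : G, Z.map (MulAut.conj x).toMonoidHom ≤ Q ∧ Z.map (MulAut.conj x).toMonoidHom ≠ Z)
    (K : Subgroup G) (hK : K = ((pResidual 2 (C ⧸ pCore 3 C)).comap
      (QuotientGroup.mk' (pCore 3 C))).map C.subtype)
    (r : ℕ) (A : Fin (r + 1) → Subgroup G) (hA0 : A 0 = Z) (hAr : A (Fin.last r) = Q)
    (hmono : ∀ i : Fin r, A i.castSucc < A i.succ)
    (hinv : ∀ i : Fin (r + 1), ∀ k ∈ K, ∀ a ∈ A i, k * a * k⁻¹ ∈ A i)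
    (hmax : ∀ i : Fin r, ∀ B : Subgroup G, A i.castSucc < B → B < A i.succ →
      ∃ k ∈ K, ∃ b ∈ B, k * b * k⁻¹ ∉ B)
    (e : C ⧸ pCore 3 C ≃* SL(2, ZMod 3)) (i j : Fin r) (ij : i < j)
    (hi : ∃ k ∈ K, ∃ a ∈ A i.succ, k * a * k⁻¹ * a⁻¹ ∉ A i.castSucc)
    (hj : ∃ k ∈ K, ∃ a ∈ A j.succ, k * a * k⁻¹ * a⁻¹ ∉ A j.castSucc) :
    ∃ z y : G, ∃ σ, Hz z Q σ ∧ y ∈ Q ∧ y ∉ zpowers z ∧ IsConj z y := by
  classical
  obtain ⟨x, x1, x2⟩ := hZQ
  obtain ⟨z, hz, z1⟩ := H67.exists_ne_one_of_ne_bot (H := Z) (by rintro rfl; simp at x2)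
  have QC : Q ≤ C := hQ ▸ map_subtype_le _
  have SC : (S : Subgroup G) ≤ C := hCZ.ge.trans' fun s hs a ha => ((hZ.le ha).2 s hs).symm
  have QS : Q ≤ S := (H8.isSylowIn_of_le S SC).le_of_le_normalizer hQex.1.1 QC
    (SC.trans (le_normalizer.trans (hQ ▸ H3.normalizer_le_normalizer_map_pCore C)))
  have cZ : ∀ g, (∀ q ∈ Q, Commute g q) → g ∈ (center Q).map Q.subtype := fun g k =>
    ⟨⟨g, hCQ fun q m => (k q m).symm⟩, mem_center_iff.2 fun q => Subtype.ext (k q q.2).symm, rfl⟩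
  have ZZ : Z ≤ (center Q).map Q.subtype := fun a ha => cZ a fun q m => ((hZ.le ha).2 q (QS m)).symm
  have zQ : z ∈ Q := map_subtype_le _ (ZZ hz)
  have c3 : Nat.card (zpowers z) = 3 := by rw [Nat.card_zpowers, orderOf_eq_prime (hQexp z zQ) z1]
  have e1 := eq_of_le_of_card_ge ((zpowers_le.2 hz).trans ZZ) (by
    rw [H3.card_map_subtype, hQex.2, c3])
  obtain rfl : zpowers z = Z := le_antisymm (zpowers_le.2 hz) (e1 ▸ ZZ)
  have mC : ∀ {c}, c ∈ C ↔ Commute c z := hCZ ▸ ⟨fun k => (k z hz).symm, fun k a m => (cz m k).symm⟩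
  let π : C →* S2 := e.toMonoidHom.comp (QuotientGroup.mk' _)
  have πs : Function.Surjective π := e.surjective.comp (QuotientGroup.mk'_surjective _)
  have πk : ∀ c : C, π c = 1 ↔ c.1 ∈ Q := fun c =>
    hQ ▸ (e.map_eq_one_iff.trans (QuotientGroup.eq_one_iff c)).trans
      (mem_map_iff_mem C.subtype_injective).symm
  have cm : ∀ {a b}, a ∈ Q → b ∈ Q → a * b * a⁻¹ * b⁻¹ ∈ zpowers z := fun {a b} k l =>
    e1.ge ⟨_, hQex.1.2.2.le (commutator_mem_commutator (mem_top (⟨a, k⟩ : Q)) (mem_top ⟨b, l⟩)), rfl⟩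
  have KC : ∀ c : C, c.1 ∈ K := fun c => by
    obtain ⟨u, hu⟩ := πs U0
    obtain ⟨j, hj⟩ := πs (U0⁻¹ * I0)
    have o : ∀ c : C, π c ^ 3 = 1 → c ∈ (pResidual 2 (C ⧸ pCore 3 C)).comap
        (QuotientGroup.mk' (pCore 3 C)) := fun c k => subset_closure (Nat.Coprime.coprime_dvd_left
      (orderOf_dvd_of_pow_eq_one (e.injective (by rwa [map_pow, map_one]))) (by decide))
    exact hK.ge ⟨c, gen3 π hu hj (fun q k => o q (by rw [show π q = 1 from k, one_pow]))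
      (o u (by rw [hu]; decide)) (o j (by rw [hj]; decide)) c, rfl⟩
  have mono := (Fin.strictMono_iff_lt_succ.2 hmono).monotone
  have l0 : ∀ l, zpowers z ≤ A l := fun l => hA0 ▸ mono (Fin.zero_le l)
  have l1 : ∀ l, A l ≤ Q := fun l => hAr ▸ mono (Fin.le_last l)
  have fc : ∀ l : Fin r, (∃ k ∈ K, ∃ a ∈ A l.succ, k * a * k⁻¹ * a⁻¹ ∉ A l.castSucc) →
      (A l.castSucc).relIndex (A l.succ) ≠ 1 ∧ (A l.castSucc).relIndex (A l.succ) ≠ 3 ∧
      ((A l.castSucc).relIndex (A l.succ) = 9 →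
        ∀ c, π c = -1 → ∀ b ∈ A l.succ, c * b * (c : G)⁻¹ * b ∈ A l.castSucc) := by
    rintro l ⟨k, hk, a, ha, n⟩
    have nm : ∀ l, ((A l).subgroupOf C).Normal := fun l => ⟨fun a m c => hinv l c (KC c) a m⟩
    have lc := fun l => (l1 l).trans QC
    have := nm l.castSucc
    have := nm l.succ
    have := fac π πs (A := (A l.castSucc).subgroupOf C) (B := (A l.succ).subgroupOf C)
      (lt_of_le_of_ne (comap_mono (hmono l).le) fun e => (hmono l).not_ge fun a m =>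
        (e.ge (show (⟨a, lc _ m⟩ : C) ∈ _ from m) :))
      (fun q k b m => l0 _ (cm ((πk q).1 k) (l1 _ m))) (fun b m => Subtype.ext (hQexp _ (l1 _ m)))
      (fun D h1 h2 => by
        obtain ⟨k, hk, _, ⟨d, hd, rfl⟩, n⟩ := hmax l (D.map C.subtype)
          (by rwa [← map_subgroupOf_eq_of_le (lc _), map_lt_map_iff_of_injective C.subtype_injective])
          (by rwa [← map_subgroupOf_eq_of_le (lc _), map_lt_map_iff_of_injective C.subtype_injective])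
        exact ⟨⟨k, map_subtype_le _ (hK.le hk)⟩, d, hd, fun o => n ⟨_, o, rfl⟩⟩)
      ⟨⟨k, map_subtype_le _ (hK.le hk)⟩, ⟨a, lc _ ha⟩, ha, n⟩
    rw [relIndex_subgroupOf (lc _)] at this
    exact ⟨fun o => (hmono l).not_ge (relIndex_eq_one.1 o), this.1,
      fun o c k b m => this.2 o c k ⟨b, lc _ m⟩ m⟩
  obtain ⟨i1, i3, i9⟩ := fc i hi
  obtain ⟨j1, j3, j9⟩ := fc j hj
  have lij : A i.succ ≤ A j.castSucc := mono ij
  have t := H8.card_eq_card_mul_relIndex (zpowers_le.2 zQ)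
  rw [hQcard, c3, ← relIndex_mul_relIndex _ _ _ (l0 j.succ) (l1 _),
    ← relIndex_mul_relIndex _ _ _ (l0 j.castSucc) (hmono j).le,
    ← relIndex_mul_relIndex _ _ _ (l0 i.succ) lij,
    ← relIndex_mul_relIndex _ _ _ (l0 i.castSucc) (hmono i).le] at t
  obtain ⟨a1, a2, a3, a4, a5⟩ := ar81 t i1 i3 j1 j3
  refine ⟨z, _, fun c => if k : c ∈ C then π ⟨c, k⟩ else 1, ⟨hQexp z zQ, z1, zQ, hQexp _, hQcard, cm,
    fun k => e1.ge (cZ _ k), fun k l => ?_, fun s => ?_, fun {c} => ⟨fun k => ⟨mC.1 (QC k), ?_⟩,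
      fun ⟨k, l⟩ => ?_⟩, fun {c q} k l m => ?_⟩, x1 ⟨z, hz, rfl⟩, fun k => x2 ?_, isConj_iff.2 ⟨x, rfl⟩⟩
  · rw [dif_pos (mC.2 k), dif_pos (mC.2 l), dif_pos (mC.2 (k.mul_left l)), ← map_mul]; rfl
  · obtain ⟨c, rfl⟩ := πs s
    exact ⟨c, mC.1 c.2, dif_pos c.2⟩
  · rw [dif_pos (QC k)]; exact (πk _).2 k
  · rw [dif_pos (mC.2 k)] at l; exact (πk _).1 l
  · rw [dif_pos (mC.2 k)] at l
    have h1 := j9 a4 _ l q (relIndex_eq_one.1 a5 m)
    have h2 := relIndex_eq_one.1 a1 (i9 a2 _ l _ (relIndex_eq_one.1 a3 h1))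
    have h3 := mul_mem (inv_mem (mul_mem (cm ((πk (⟨c, mC.2 k⟩ * ⟨c, mC.2 k⟩)).1 (by
      rw [map_mul, l]; decide)) m) (cm m ((mul_mem_cancel_right m).1 (l1 _ h1))))) h2
    refine sqmem (by rw [show 81 = 3 * 27 from rfl, pow_mul, hQexp _ (l1 _ h1), one_pow]) ?_
    convert h3 using 1; simp [mul_assoc]
  · refine eq_of_le_of_card_ge (by rwa [MonoidHom.map_zpowers, zpowers_le]) ?_
    rw [card_map_of_injective (MulAut.conj x).injective]

end Cfsg.Agent.H64.L4
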