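import Cfsg.Agent.H89.OlDefs

/-!
# Blocks with abelian defect group: fusion, inertial transfer and nilpotent subsections
-/

set_option autoImplicit false

namespace Cfsg.Agent.H64.OlTrn

open Subgroup Cfsg.Agent.H18 Cfsg.Agent.H17 Cfsg.Agent.H26.K64 MonoidAlgebra Cfsg.Agent.H89.Ol
open Cfsg.Agent.H19 (kk val)
open scoped ComplexConjugate Classical

universe u

theorem fu : FUStmt.{u} := by
  intro G _ _ M B P e u v s ab hu
  have := s.charP
  constructor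
  · rintro ⟨-, g, h1, h2⟩
    obtain ⟨t, ht, h3⟩ := s.max.exists_NP_of_le_Cz s.prim (s.sub hu) trivial h2
      (ab.trans (Cz_anti (s.sub hu).le)) (ab.trans (Cz_anti h2.le))
    refine ⟨t, ht, ?_⟩
    rw [h1, ← mul_inv_cancel_left t g, mul_assoc t, ← mem_Cz_zpowers.1 h3.2]
    group
  · rintro ⟨t, ht, h⟩
    exact ⟨hu, t, h, (s.sub hu).cj_of_stab trivial ht.1.2 ht.2⟩

theorem mem_NP_iff {F G : Type*} [Field F] [Group G] {H P : Subgroup G} {e : F[G]} (hP : P ≤ H)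
    (he : incl H (trunc H e) = e) (g : H) :
    g ∈ NP ⊤ (P.subgroupOf H) (trunc H e) ↔ (g : G) ∈ NP ⊤ P e := by
  have h1 := map_subgroupOf_eq_of_le hP
  refine and_congr (and_congr Iff.rfl ?_) ?_
  · change g ∈ Nz (P.subgroupOf H) ↔ (g : G) ∈ Nz P
    rw [mem_Nz_iff_cs, mem_Nz_iff_cs, ← (map_injective H.subtype_injective).eq_iff, cs_map_subtype, h1]
  · change cj g (H17.trunc H e) = H17.trunc H e ↔ cj (g : G) e = e
    rw [← (incl_injective H).eq_iff, ← H18.cj_incl, he]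

theorem mem_Cz_iff {G : Type*} [Group G] {H P : Subgroup G} (hP : P ≤ H) (g : H) :
    g ∈ Cz (P.subgroupOf H) ↔ (g : G) ∈ Cz P := by
  rw [← coe_mem_Cz_map, map_subgroupOf_eq_of_le hP]

theorem tr : TRStmt.{u} := by
  intro G _ _ M B P e u t r s hu h
  have := Fintype.ofFinite (IrrCharacter G)
  have hP : P ≤ Cz (zpowers u) := h.ab.trans (Cz_anti (zpowers_le.2 hu))
  have he := s.loc_incl_trunc (s.loc_of_le (s.sub hu) le_rfl (s.Cz_le_NP hu) hP)
  exact ⟨fun g hg => (mem_Cz_iff hP g).2 (h.ab hg), (mem_NP_iff hP he _).2 h.mem, trivial,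
    (mem_Cz_iff hP _).2 h.pow, fun h1 => h.nc ((mem_Cz_iff hP _).1 h1), fun g hg _ =>
      (h.gen g ((mem_NP_iff hP he g).1 hg) g.2).imp fun i hi => (mem_Cz_iff hP _).2 hi⟩

theorem nil : NILStmt.{u} := by
  intro G _ _ _ M B P e u s ab hu h
  have := s.charP
  have hP : P ≤ Cz (zpowers u) := ab.trans (Cz_anti (zpowers_le.2 hu))
  have l := s.loc_of_le (s.sub hu) le_rfl (s.Cz_le_NP hu) hP
  have hn : IsNil 2 (Cz (zpowers u)) (esub 2 P e u) :=
    ((s.loc_max l).isNil_iff_of_abelian (s.loc_prim l) ab).2 fun t ht =>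
      h t ⟨⟨trivial, ht.1.2⟩, ht.2⟩ (mem_Cz_zpowers.1 ht.1.1).symm
  have := Fintype.ofFinite (Cz (zpowers u))
  refine ⟨IsNil.blockRank_eq_one s.hM (s.isPBlock_lb hu)
    (isNil_incl_iff.1 (by rwa [map_top_subtype, s.loc_bid l])), fun h2 => ?_⟩
  obtain ⟨η, _, h3, h0, h4⟩ := s.exists_eta l hn
  have h5 := (h4 u hu le_rfl).2
  rw [inf_eq_left.2 hP] at h5
  choose a ha using fun χ => exists_int_gen (h3 χ) (v := ⟨u, hu⟩) (Subtype.ext h2)
  have ha' : ∀ χ, η χ u = a χ := ha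
  refine ⟨a, ⟨hu, Nat.card_pos.ne', fun χ ψ => by rw [h5, ha', ha'], fun χ hχ h6 => ?_⟩, fun ψ hψ h6 => ?_⟩
  · rw [← ha']
    exact val_gen_eq_one s.hM l.defect.isP (h3 χ) (h0 χ hχ h6) ⟨u, hu⟩
  · obtain ⟨χ₀, hχ₀, h7⟩ := s.exists_zero
    have h8 := s.val_mc_major hu hP hχ₀ h7 hψ
    rw [mul_comm, h5, ha', h6] at h8
    exact pow_ne_zero _ (H19.val_p_ne_zero s.hM) (h8.symm.trans (by simp))

end Cfsg.Agent.H64.OlTrn
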