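import Cfsg.Agent.H80.S95HeLc

/-!
# The automorphisms of the involution centraliser `2^(1+6).L₃(2)` of the Held group
-/

set_option autoImplicit false
set_option maxRecDepth 200000
set_option linter.style.longLine false
open Subgroup
open scoped commutatorElement

namespace Cfsg.Agent.H64.HeHF
open Cfsg Cfsg.Agent.H44 Cfsg.Agent.H44.Ki Cfsg.Agent.H44.KiHe Cfsg.Agent.H59 Cfsg.Agent.H46.S95
open Cfsg.Agent.H43 hiding allL allL_iff anyL anyL_iff

section general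
variable {L : Type} [Group L] {μ : ℕ → L}

/-- The subsequences of a list. -/
def subs : List ℕ → List (List ℕ)
  | [] => [[]]
  | a :: S => subs S ++ (subs S).map (a :: ·)

/-- The list `j + m, …, j + 1`. -/
def dn (j : ℕ) : ℕ → List ℕ
  | 0 => []
  | m + 1 => (j + m + 1) :: dn j m

theorem cov_gen {k : ℕ} (h : Pc μ k) (j m : ℕ) (hm : j + m ≤ k) :
    ∀ y ∈ gen μ (j + m), ∃ w ∈ subs (dn j m), (ev μ w)⁻¹ * y ∈ gen μ j := by
  induction m with
  | zero => exact fun y hy => ⟨[], by simp [dn, subs], by simpa [ev_nil] using hy⟩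
  | succ m ih =>
    intro y hy
    rcases h.two (j + m) hm y hy with e | e
    · obtain ⟨w, hw, e⟩ := ih (by omega) y e
      exact ⟨w, List.mem_append_left _ hw, e⟩
    · obtain ⟨w, hw, e⟩ := ih (by omega) _ e
      exact ⟨(j + m + 1) :: w, List.mem_append_right _ (List.mem_map_of_mem hw),
        by rwa [ev_cons, mul_inv_rev, mul_assoc]⟩

theorem cov_zero {k : ℕ} (h : Pc μ k) (m : ℕ) (hm : m ≤ k) :
    ∀ y ∈ gen μ m, ∃ w ∈ subs (dn 0 m), y = ev μ w := fun y hy => by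
  obtain ⟨w, hw, e⟩ := cov_gen h 0 m (by omega) y (by rwa [zero_add])
  rw [gen_zero, mem_bot, inv_mul_eq_one] at e
  exact ⟨w, hw, e.symm⟩

theorem cov_ab [Finite L] (hs : ∀ x, μ x * μ x = 1) {S : List ℕ}
    (hc : ∀ a ∈ S, ∀ b ∈ S, μ a * μ b = μ b * μ a) :
    ∀ y ∈ wgen μ (sing S), ∃ w ∈ subs S, y = ev μ w := by
  have k : ∀ s ∈ S, ∀ w ∈ subs S, ∃ w' ∈ subs S, μ s * ev μ w = ev μ w' := by
    induction S with
    | nil => simp
    | cons a S ih =>
      intro s hs' w hw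
      have ih := ih fun x hx y hy => hc x (List.mem_cons_of_mem _ hx) y (List.mem_cons_of_mem _ hy)
      rcases List.mem_append.1 hw with k | k
      · rcases List.mem_cons.1 hs' with rfl | h
        · exact ⟨s :: w, List.mem_append_right _ (List.mem_map_of_mem k), (ev_cons ..).symm⟩
        · obtain ⟨w', h1, h2⟩ := ih s h w k
          exact ⟨w', List.mem_append_left _ h1, h2⟩
      · obtain ⟨w, k', rfl⟩ := List.mem_map.1 k
        rcases List.mem_cons.1 hs' with rfl | h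
        · exact ⟨w, List.mem_append_left _ k', by rw [ev_cons, ← mul_assoc, hs, one_mul]⟩
        · obtain ⟨w', h1, h2⟩ := ih s h w k'
          exact ⟨a :: w', List.mem_append_right _ (List.mem_map_of_mem h1), by
            rw [ev_cons, ev_cons, ← h2, ← mul_assoc, hc s hs' a List.mem_cons_self, mul_assoc]⟩
  have n : ∀ S, [] ∈ subs S := fun S => by
    induction S with
    | nil => simp [subs]
    | cons a S ih => exact List.mem_append_left _ ih
  refine cl_induct ⟨[], n S, rfl⟩ ?_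
  rintro _ ⟨_, h, rfl⟩ _ ⟨w, hw, rfl⟩
  obtain ⟨s, h', rfl⟩ := List.mem_map.1 h
  rw [ev_single]
  exact k s h' w hw

/-- The elements centralising `X` modulo `Z`. -/
def cz {Z : Subgroup L} (h : Z.Normal) (X : Set L) : Subgroup L where
  carrier := {m | ∀ x ∈ X, m * x * m⁻¹ * x⁻¹ ∈ Z}
  one_mem' := fun x _ => by simp
  mul_mem' := fun {a b} ha hb x hx => by
    convert mul_mem (h.conj_mem _ (hb x hx) a) (ha x hx) using 1
    group
  inv_mem' := fun {a} ha x hx => by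
    convert h.conj_mem _ (inv_mem (ha x hx)) a⁻¹ using 1
    group

theorem cz_normal {Z Q : Subgroup L} (h : Z.Normal) (hQ : Q.Normal) : (cz h Q).Normal :=
  ⟨fun m hm g x hx => by
    convert h.conj_mem _ (hm _ (hQ.conj_mem' x hx g)) g using 1
    group⟩

theorem le_cz {Z : Subgroup L} (h : Z.Normal) {S : Set L}
    (e : ∀ s ∈ S, ∀ t ∈ S, s * t * s⁻¹ * t⁻¹ ∈ Z) : closure S ≤ cz h (closure S) := by
  intro m hm x hx
  have h1 : closure S ≤ cz h S := (closure_le _).2 e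
  have h2 : closure S ≤ cz h {m} := (closure_le _).2 fun s hs y hy => by
    rw [hy]
    simpa [mul_assoc] using inv_mem (h1 hm s hs)
  simpa [mul_assoc] using inv_mem (h2 hx m rfl)

/-- The fixed points. -/
def Fix (θ : MulAut L) : Subgroup L := MonoidHom.eqLocus θ.toMonoidHom (MonoidHom.id L)

theorem fix_cent {θ : MulAut L} {V : Subgroup L} (hV : V.Normal) (h : V ≤ Fix θ) (l : L) :
    l⁻¹ * θ l ∈ centralizer (V : Set L) := fun u hu => by
  have e : θ (l * u * l⁻¹) = l * u * l⁻¹ := h (hV.conj_mem u hu l)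
  have e' : θ u = u := h hu
  rw [map_mul, map_mul, map_inv, e'] at e
  calc u * (l⁻¹ * θ l) = l⁻¹ * (l * u * l⁻¹) * θ l := by group
    _ = _ := by rw [← e]; group

theorem isConj_of {θ : MulAut L} {a b : L} (h : IsConj (θ a) (θ b)) : IsConj a b := by
  simpa using θ.symm.toMonoidHom.map_isConj h

theorem mem_of_isConj {V : Subgroup L} (hV : V.Normal) {a b : L} (ha : a ∈ V) (h : IsConj a b) :
    b ∈ V := by
  obtain ⟨c, rfl⟩ := isConj_iff.1 h
  exact hV.conj_mem a ha c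

/-- The letters of the centraliser. -/
def TL : List (List ℕ) :=
  [[], [1], [2], [3], [4], [5], [6], [7], [8], [9], [10], [11, 15, 9], [3, 5]]

/-- The word of a letter. -/
noncomputable def τ (x : ℕ) : List ℕ := nth [] TL x

/-- Equality of words. -/
noncomputable def q (l r : List ℕ) : Bool := D.eqW (l.flatMap τ) (r.flatMap τ)

/-- Inequality of words. -/
noncomputable def n (l r : List ℕ) : Bool := D.neW (l.flatMap τ) (r.flatMap τ)

/-- A model of the centraliser. -/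
structure Mo (μ : ℕ → L) : Prop where
  eq : Orc μ q
  ne : ∀ l r, n l r = true → ev μ l ≠ ev μ r
  sq : ∀ x, μ x * μ x = 1
  zc : ∀ g : L, g * μ 1 = μ 1 * g
  pc : Pc μ 10
  card : Nat.card L = 21504
  top : gen μ 11 = ⊤

/-- A normal subgroup that is one class outside the centre. -/
structure Ln (μ : ℕ → L) (V : Subgroup L) (y : ℕ) : Prop where
  nrm : V.Normal
  zV : gen μ 1 ≤ V
  yV : μ y ∈ V
  yZ : μ y ∉ gen μ 1
  cl : ∀ v ∈ V, v ∈ gen μ 1 ∨ IsConj (μ y) v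

/-- The two classes are preserved. -/
def Pv (μ : ℕ → L) (θ : MulAut L) : Prop := IsConj (μ 2) (θ (μ 2)) ∧ IsConj (μ 6) (θ (μ 6))

/-- An automorphism fixing the letters of `S` is inner. -/
def Cl (μ : ℕ → L) (S : List ℕ) : Prop :=
  ∀ θ : MulAut L, Pv μ θ → (∀ i ∈ S, θ (μ i) = μ i) → H46.S95.Inn θ

/-- The word lies in the centre. -/
noncomputable def zB (w : List ℕ) : Bool := q w [] || q w [1]

/-- The word acts on `Q/Z`. -/
noncomputable def nzB (w : List ℕ) (j : ℕ) : Bool :=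
  lettersIn 7 [j] && n (w ++ [j]) (j :: w) && n (w ++ [j]) (1 :: j :: w)

namespace Mo
variable [Finite L] (M : Mo μ)
include M

omit [Finite L] in
theorem memZ {x : L} : x ∈ gen μ 1 ↔ x = 1 ∨ x = μ 1 := by
  refine ⟨fun h => ?_, ?_⟩
  · have := M.pc.two 0 (by decide) x h
    rwa [gen_zero, mem_bot, mem_bot, inv_mul_eq_one, eq_comm (b := x)] at this
  · rintro (rfl | rfl)
    exacts [one_mem _, mem_gen μ le_rfl le_rfl]

omit [Finite L] in
theorem cenZ {x : L} (h : x ∈ gen μ 1) (g : L) : g * x = x * g := by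
  rcases M.memZ.1 h with rfl | rfl
  exacts [by simp, M.zc g]

omit [Finite L] in
theorem nZ : (gen μ 1).Normal := ⟨fun x h g => by rwa [M.cenZ h, mul_inv_cancel_right]⟩

omit [Finite L] in
theorem zb {w : List ℕ} (h : zB w = true) : ev μ w ∈ gen μ 1 :=
  M.memZ.2 ((Bool.or_eq_true_iff.1 h).imp (M.eq _ _) fun e => (M.eq _ _ e).trans (ev_single ..))

omit [Finite L] in
theorem nz {w : List ℕ} {j : ℕ} (h : nzB w j = true) : ev μ w ∉ cz M.nZ (gen μ 7) := fun e => by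
  simp only [nzB, Bool.and_eq_true] at h
  have h1 := M.ne _ _ h.1.2
  have h2 := M.ne _ _ h.2
  simp only [ev_append, ev_cons, ev_nil, mul_one] at h1 h2
  rcases M.memZ.1 (e _ (ev_gen μ h.1.1)) with k | k
  · rw [ev_single, mul_inv_eq_one, mul_inv_eq_iff_eq_mul] at k
    exact h1 k
  · rw [ev_single, mul_inv_eq_iff_eq_mul, mul_inv_eq_iff_eq_mul, mul_assoc] at k
    exact h2 k

theorem nrm {S : List ℕ} {W : List (List (List ℕ))}
    (h : allP (nrmB q S) (sing (List.range' 1 11)) W = true) : (wgen μ (sing S)).Normal :=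
  normalizer_eq_top_iff.1 (top_le_iff.1 (by
    rw [← M.top, gen_eq_wgen]
    exact le_norm M.eq h))

theorem nQ : (gen μ 7).Normal := by
  rw [gen_eq_wgen]
  exact M.nrm (W := [[[1], [2], [3], [4], [5], [6], [7]], [[1], [2], [3], [4], [5], [6], [7, 1]], [[1], [2], [3], [4], [5], [6, 1], [7, 1]], [[1], [2], [3], [4], [5, 1], [6, 1], [7]], [[1], [2], [3], [4, 1], [5], [6, 1], [7, 1]], [[1], [2], [3, 1], [4, 1], [5, 1], [6], [7]], [[1], [2, 1], [3, 1], [4], [5, 1], [6], [7]], [[1], [2], [3], [4, 2, 1], [5], [6], [5, 7, 3]], [[1], [2], [3], [4, 3, 2], [5], [6, 5, 3], [7]], [[1], [2], [3, 2], [4, 2], [5, 2, 1], [6], [7, 6]], [[1], [4, 3, 2], [3], [4], [7, 6, 3], [6], [6, 5, 3]]]) (by decide +kernel)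

theorem perf : ⁅(⊤ : Subgroup L), (⊤ : Subgroup L)⁆ = ⊤ := by
  refine top_le_iff.1 (M.top ▸ gen_le.2 fun x h1 h2 => ?_)
  obtain ⟨p, e⟩ := allP_spec (p := fun i (p : List ℕ × List ℕ) => q (p.1 ++ p.2) (i :: p.2 ++ p.1))
    (l := List.range' 1 11) (l' := [([2], [7]), ([3], [10]), ([9, 10], [4]), ([10, 11, 9], [4, 3]), ([4, 6], [9, 8]), ([7], [10]), ([10, 11, 9], [6]), ([10, 6, 4], [9, 3]), ([10, 11, 10, 9, 10, 11, 10], [8, 2]), ([11, 10, 2, 11], [8, 5]), ([5, 10, 11, 10], [8, 11, 9, 11, 8, 3])]) (by decide +kernel) x (List.mem_range'_1.2 ⟨h1, by omega⟩)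
  have := M.eq _ _ e
  rw [ev_append, ev_append, ev_cons] at this
  rw [M.top]
  convert commutator_mem_commutator (mem_top (ev μ p.1)) (mem_top (ev μ p.2)) using 1
  rw [commutatorElement_def, this]
  group

theorem lemA : cz M.nZ (gen μ 7) ≤ gen μ 7 := fun m hm => by
  have := Fact.mk Nat.prime_two
  have hA := cz_normal M.nZ M.nQ
  have h2 : IsPGroup 2 (cz M.nZ (gen μ 7)) := by
    refine IsPGroup.of_card (Nat.eq_prime_pow_of_unique_prime_dvd Nat.card_pos.ne' fun {p} hp h1 => ?_)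
    have : p ∈ (21504 : ℕ).primeFactorsList := (Nat.mem_primeFactorsList (by decide)).2
      ⟨hp, M.card ▸ h1.trans (card_subgroup_dvd_card _)⟩
    simp only [Nat.primeFactorsList_ofNat, List.mem_cons, List.not_mem_nil, or_false, or_self_left] at this
    rcases this with rfl | rfl | rfl
    · rfl
    · exact (M.nz (w := [11, 8, 1]) (j := 2) (by decide +kernel) (mem_normal_of_pow_dvd _ hp (k := 1)
        h1 (by rw [M.card]; norm_num) ((ev_replicate ..).symm.trans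
        (M.eq _ [] (by decide +kernel))))).elim
    · exact (M.nz (w := [11, 10, 9, 1]) (j := 2) (by decide +kernel) (mem_normal_of_pow_dvd _ hp
        (k := 1) h1 (by rw [M.card]; norm_num) ((ev_replicate ..).symm.trans
        (M.eq _ [] (by decide +kernel))))).elim
  obtain ⟨k, hk⟩ := h2 ⟨m, hm⟩
  obtain ⟨g, hg⟩ := H46.exists_conj_mem_of_index (p := 2) (gen μ 10) (fun e => by
    have := (gen μ 10).index_mul_card
    rw [M.card, M.pc.card 10 le_rfl] at this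
    omega) (x := m) (k := k) (congrArg Subtype.val hk)
  obtain ⟨w, hw, e⟩ := cov_gen M.pc 7 3 le_rfl _ hg
  have hQ : gen μ 7 ≤ cz M.nZ (gen μ 7) := le_cz M.nZ (by
    rintro _ ⟨i, i1, i2, rfl⟩ _ ⟨j, j1, j2, rfl⟩
    have := M.zb (allL_iff.1 (allL_iff.1 (show allL (fun i => allL (fun j => zB [i, j, i, j])
      (List.range' 1 7)) (List.range' 1 7) = true by decide +kernel) i
      (List.mem_range'_1.2 ⟨i1, by omega⟩)) j (List.mem_range'_1.2 ⟨j1, by omega⟩))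
    rwa [inv_eq_of_mul_eq_one_right (M.sq i), inv_eq_of_mul_eq_one_right (M.sq j), mul_assoc,
      mul_assoc, ← ev_single μ j, ← ev_cons, ev_single, ← ev_cons, ← ev_cons])
  obtain ⟨j, hj⟩ := allP_spec (p := fun w j => lettersIn 7 w || nzB w j) (l := subs (dn 7 3))
    (l' := [0, 4, 4, 4, 3, 3, 3, 3]) (by decide +kernel) w hw
  rcases Bool.or_eq_true_iff.1 hj with hj | hj
  · simpa [mul_assoc] using M.nQ.conj_mem' _ (mul_mem (ev_gen μ hj) e) g
  · exact (M.nz hj (inv_mem_iff.1 ((mul_mem_cancel_right (hA.conj_mem m hm g)).1 (hQ e)))).elim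

theorem lemN {K : Subgroup L} (hK : K.Normal) : K ≤ gen μ 1 ∨ μ 2 ∈ K ∨ μ 6 ∈ K := by
  refine or_iff_not_imp_left.2 fun h => ?_
  obtain ⟨m, hm, h1⟩ := SetLike.not_le_iff_exists.1 h
  obtain ⟨m, hm, h2, h1⟩ : ∃ m ∈ K, m ∈ gen μ 7 ∧ m ∉ gen μ 1 := by
    by_cases e : m ∈ cz M.nZ (gen μ 7)
    · exact ⟨m, hm, M.lemA e, h1⟩
    · obtain ⟨x, hx, e⟩ : ∃ x ∈ gen μ 7, m * x * m⁻¹ * x⁻¹ ∉ gen μ 1 := by
        by_contra k
        exact e fun x hx => by_contra fun k' => k ⟨x, hx, k'⟩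
      exact ⟨_, by simpa [mul_assoc] using mul_mem hm (hK.conj_mem _ (inv_mem hm) x),
        mul_mem (M.nQ.conj_mem x hx m) (inv_mem hx), e⟩
  obtain ⟨w, hw, rfl⟩ := cov_zero M.pc 7 (by decide) m h2
  obtain ⟨p, e⟩ := allP_spec (p := fun w (p : List ℕ × List ℕ) => zB w ||
    (q (p.1 ++ p.2 ++ w) (2 :: p.1 ++ w ++ p.2) || q (p.1 ++ p.2 ++ w) (6 :: p.1 ++ w ++ p.2)))
    (l := subs (dn 0 7)) (l' := [([], []), ([], []), ([11, 8, 5], [11]), ([11, 8, 5], [11]), ([], [10]), ([], [10]), ([], [10]), ([], [10]), ([], [10]), ([], [10]), ([], [10]), ([], [10]), ([7], [8]), ([7], [8]), ([7], [8]), ([7], [8]), ([7], [10]), ([7], [10]), ([7], [10]), ([7], [10]), ([], [11, 10, 11]), ([], [11, 10, 11]), ([], [11, 10, 11]), ([], [11, 10, 11]), ([7], [8]), ([7], [8]), ([7], [8]), ([7], [8]), ([7], [8]), ([7], [8]), ([7], [8]), ([7], [8]), ([9, 11, 10, 11], [9]), ([9, 11, 10, 11], [9]), ([11, 8, 5], [11]), ([11, 8, 5], [11]),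 ([], [10]), ([], [10]), ([], [10]), ([], [10]), ([], [10]), ([], [10]), ([], [10]), ([], [10]), ([7], [8]), ([7], [8]), ([7], [8]), ([7], [8]), ([7], [10]), ([7], [10]), ([7], [10]), ([7], [10]), ([], [11, 10, 11]), ([], [11, 10, 11]), ([], [11, 10, 11]), ([], [11, 10, 11]), ([7], [8]), ([7], [8]), ([7], [8]), ([7], [8]), ([7], [8]), ([7], [8]), ([7], [8]), ([7], [8]), ([], [10]), ([], [10]), ([], [10]), ([], [10]), ([9, 11, 10, 9], [11]), ([9, 11, 10, 9], [11]), ([11, 5], [8, 11, 8]), ([11, 5], [8, 11, 8]), ([9], [8, 10]), ([9], [8, 10]), ([9], [8, 10]), ([9], [8, 10]), ([], [10]), ([], [10]), ([], [10]), ([], [10]), ([9, 11, 10, 11, 4], [8]), ([9, 11, 10, 11, 4], [8]), ([11, 8, 5], [11]), ([11, 8, 5], [11]), ([3], [10]), ([3], [10]), ([3], [10]), ([3], [10]), ([3], [10]), ([3], [10]), ([3], [10]), ([3], [10]), ([9], [10, 8]), ([9], [10, 8]), ([9], [10, 8]), ([9], [10, 8]), ([], [10]), ([], [10]), ([], [10]),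 ([], [10]), ([9, 11, 10, 11], [9]), ([9, 11, 10, 11], [9]), ([11], [8, 11, 9]), ([11], [8, 11, 9]), ([9], [8, 10]), ([9], [8, 10]), ([9], [8, 10]), ([9], [8, 10]), ([], [10]), ([], [10]), ([], [10]), ([], [10]), ([9, 11, 10, 11], [9]), ([9, 11, 10, 11], [9]), ([11, 8, 5], [11]), ([11, 8, 5], [11]), ([3], [10]), ([3], [10]), ([3], [10]), ([3], [10]), ([3], [10]), ([3], [10]), ([3], [10]), ([3], [10]), ([9], [10, 8]), ([9], [10, 8]), ([9], [10, 8]), ([9], [10, 8])]) (by decide +kernel) w hw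
  have k : ∀ y, q (p.1 ++ p.2 ++ w) (y :: p.1 ++ w ++ p.2) = true → μ y ∈ K := fun y e => by
    have := M.eq _ _ e
    simp only [ev_append, ev_cons] at this
    convert hK.conj_mem _ (mul_mem (hK.conj_mem _ hm (ev μ p.2)) (inv_mem hm)) (ev μ p.1) using 1
    calc μ y = μ y * ev μ p.1 * ev μ w * ev μ p.2 * (ev μ p.1 * ev μ w * ev μ p.2)⁻¹ := by group
      _ = _ := by rw [← this]; group
  exact (Bool.or_eq_true_iff.1 ((Bool.or_eq_true_iff.1 e).resolve_left fun e => h1 (M.zb e))).imp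
    (k 2) (k 6)

theorem cQ : centralizer (gen μ 7 : Set L) ≤ gen μ 1 := by
  have := M.nQ
  rcases M.lemN (K := centralizer (gen μ 7 : Set L)) inferInstance with h | h | h
  · exact h
  · exact (M.ne [7, 2] [2, 7] (by decide +kernel)
      (by simpa [ev] using h _ (mem_gen μ (x := 7) (by decide) (by decide)))).elim
  · exact (M.ne [3, 6] [6, 3] (by decide +kernel)
      (by simpa [ev] using h _ (mem_gen μ (x := 3) (by decide) (by decide)))).elim

theorem fixz (θ : MulAut L) : θ (μ 1) = μ 1 := by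
  refine (M.memZ.1 (M.cQ fun g _ => ?_)).resolve_left fun e => ?_
  · simpa using congrArg θ (M.zc (θ.symm g))
  · exact M.pc.not_mem (j := 0) (by decide) (by simpa using (one_mem _ : (1 : L) ∈ gen μ 0) |>
      fun h => (θ.map_eq_one_iff.1 e).symm ▸ h)

theorem mapZ (θ : MulAut L) {x : L} (h : x ∈ gen μ 1) : θ x ∈ gen μ 1 := by
  rcases M.memZ.1 h with rfl | rfl
  exacts [by simp, (M.fixz θ).symm ▸ h]

omit [Finite L] in
theorem cls {y : ℕ} {Wl C : List (List ℕ)}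
    (h : allP (fun w c => zB w || q (c ++ w) (y :: c)) Wl C = true) {w : List ℕ} (hw : w ∈ Wl) :
    ev μ w ∈ gen μ 1 ∨ IsConj (μ y) (ev μ w) := by
  obtain ⟨c, e⟩ := allP_spec h w hw
  refine (Bool.or_eq_true_iff.1 e).imp M.zb fun e => ?_
  have := M.eq _ _ e
  rw [ev_append, ev_cons] at this
  exact (isConj_iff.2 ⟨ev μ c, by rw [this, mul_inv_cancel_right]⟩).symm

theorem ln1 : Ln μ (gen μ 4) 2 where
  nrm := by
    rw [gen_eq_wgen]
    exact M.nrm (W := [[[1], [2], [3], [4]], [[1], [2], [3], [4]], [[1], [2], [3], [4]], [[1], [2], [3], [4]], [[1], [2], [3], [4, 1]], [[1], [2], [3, 1], [4, 1]], [[1], [2, 1], [3, 1], [4]], [[1], [2], [3], [4, 2, 1]], [[1], [2], [3], [4, 3, 2]], [[1], [2], [3, 2], [4, 2]], [[1], [4, 3, 2], [3], [4]]]) (by decide +kernel)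
  zV := gen_mono μ (by decide)
  yV := mem_gen μ (by decide) (by decide)
  yZ := M.pc.not_mem (j := 1) (by decide)
  cl := fun v hv => by
    obtain ⟨w, hw, rfl⟩ := cov_zero M.pc 4 (by decide) v hv
    exact M.cls (C := [[], [], [], [7], [11, 9, 10, 11, 10], [11, 9, 8, 11, 10], [11, 9, 10, 11], [11, 9, 8, 11], [11, 9], [11, 9, 5], [11, 9, 10], [11, 9, 8], [11, 8, 5], [11, 8], [11], [11, 5]]) (by decide +kernel) hw

theorem cov2 : ∀ y ∈ wgen μ (sing [1, 6, 7, 12]), ∃ w ∈ subs [1, 6, 7, 12], y = ev μ w :=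
  cov_ab M.sq fun a ha b hb => by
    simpa [ev] using M.eq _ _ (allL_iff.1 (allL_iff.1 (show allL (fun i => allL
      (fun j => q [i, j] [j, i]) [1, 6, 7, 12]) [1, 6, 7, 12] = true by decide +kernel) a ha) b hb)

omit [Finite L] M in
theorem mem2 {x : ℕ} (h : [x].all [1, 6, 7, 12].contains = true) :
    μ x ∈ wgen μ (sing [1, 6, 7, 12]) := ev_single μ x ▸ ev_sing μ h

theorem ln2 : Ln μ (wgen μ (sing [1, 6, 7, 12])) 6 where
  nrm := M.nrm (W := [[[1], [6], [7], [12]], [[1], [6], [7, 1], [12]], [[1], [6, 1], [7, 1], [12]], [[1], [6, 1], [7], [12, 1]], [[1], [6, 1], [7, 1], [12]], [[1], [6], [7], [12]], [[1], [6], [7], [12]], [[1], [6], [12, 7, 1], [12]], [[1], [12, 6], [7], [12]], [[1], [6], [7, 6], [12, 1]], [[1], [6], [12, 6], [7, 6]]]) (by decide +kernel)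
  zV := gen_le.2 fun x h1 h2 => le_antisymm h1 h2 ▸ mem2 rfl
  yV := mem2 rfl
  yZ := fun h => M.pc.not_mem (j := 5) (by decide) (gen_mono μ (by decide) h)
  cl := fun v hv => by
    obtain ⟨w, hw, rfl⟩ := M.cov2 v hv
    exact M.cls (C := [[], [9, 11, 10, 11], [9, 11], [9, 11, 8, 2], [], [9], [9, 11, 10], [9, 11, 10, 9], [], [9, 11, 10, 11, 4], [9, 11, 2], [9, 11, 8], [3], [9, 3], [9, 11, 10, 2], [9, 11, 10, 8]]) (by decide +kernel) hw

theorem cj {V : Subgroup L} {y : ℕ} (h : Ln μ V y) (θ : MulAut L) :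
    IsConj (μ 2) (θ (μ y)) ∨ IsConj (μ 6) (θ (μ y)) := by
  have k : ∀ i, μ i ∉ gen μ 1 → θ.symm (μ i) ∈ V → IsConj (μ i) (θ (μ y)) := fun i h1 h2 => by
    rcases h.cl _ h2 with e | e
    · exact (h1 (by simpa using M.mapZ θ e)).elim
    · simpa using (θ.toMonoidHom.map_isConj e).symm
  rcases M.lemN (h.nrm.comap θ.symm.toMonoidHom) with e | e | e
  · exact (h.yZ (by simpa using M.mapZ θ.symm (e (x := θ (μ y)) (by simpa using h.yV)))).elim
  · exact Or.inl (k 2 M.ln1.yZ e)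
  · exact Or.inr (k 6 M.ln2.yZ e)

theorem n26 : ¬ IsConj (μ 2) (μ 6) := fun h =>
  M.pc.not_mem (j := 5) (by decide) (gen_mono μ (by decide) (mem_of_isConj M.ln1.nrm M.ln1.yV h))

theorem mapV {V : Subgroup L} {y : ℕ} (h : Ln μ V y) {θ : MulAut L}
    (e : IsConj (μ y) (θ (μ y))) {v : L} (hv : v ∈ V) : θ v ∈ V :=
  (h.cl v hv).elim (fun k => h.zV (M.mapZ θ k)) fun k =>
    mem_of_isConj h.nrm h.yV (e.trans (θ.toMonoidHom.map_isConj k))

omit [Finite L] in
theorem step {S : List ℕ} {v : ℕ} (Wl C : List (List ℕ)) (B : List ℕ → Bool)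
    (h : allP (fun w c => B w || (q (c ++ w) (v :: c) && allL (fun i => q (c ++ [i]) (i :: c)) S))
      Wl C = true)
    (hw : ∀ θ : MulAut L, Pv μ θ → (∀ i ∈ S, θ (μ i) = μ i) →
      ∃ w ∈ Wl, θ (μ v) = ev μ w ∧ ¬ B w = true) (H : Cl μ (v :: S)) : Cl μ S := fun θ p f => by
  obtain ⟨w, h1, h2, h3⟩ := hw θ p f
  obtain ⟨c, e⟩ := allP_spec h w h1
  obtain ⟨e1, e2⟩ := Bool.and_eq_true_iff.1 ((Bool.or_eq_true_iff.1 e).resolve_left h3)
  refine (Inn.conj (ev μ c)).of_mul_left (H _ ⟨p.1.trans (isConj_iff.2 ⟨ev μ c, rfl⟩),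
    p.2.trans (isConj_iff.2 ⟨ev μ c, rfl⟩)⟩ (List.forall_mem_cons.2 ⟨?_, fun i hi => ?_⟩))
  · have := M.eq _ _ e1
    rw [ev_append, ev_cons] at this
    rw [MulAut.mul_apply, MulAut.conj_apply, h2, this, mul_inv_cancel_right]
  · have := M.eq _ _ (allL_iff.1 e2 i hi)
    rw [ev_append, ev_single, ev_cons] at this
    rw [MulAut.mul_apply, MulAut.conj_apply, f i hi, this, mul_inv_cancel_right]

omit [Finite L] M in
theorem fixg {θ : MulAut L} {S : List ℕ} (f : ∀ i ∈ S, θ (μ i) = μ i) {j : ℕ}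
    (h : (List.range' 1 j).all S.contains = true) : gen μ j ≤ Fix θ :=
  gen_le.2 fun x h1 h2 => f x (List.contains_iff_mem.1
    (List.all_eq_true.1 h x (List.mem_range'_1.2 ⟨h1, by omega⟩)))

theorem base : Cl μ [12, 7, 6, 4, 3, 2, 1] := fun θ _ f => by
  have h5 : μ 5 = μ 3 * μ 12 := by simpa [ev] using M.eq [5] [3, 12] (by decide +kernel)
  have hQ : gen μ 7 ≤ Fix θ := fixg (S := [5, 12, 7, 6, 4, 3, 2, 1]) (List.forall_mem_cons.2
    ⟨by rw [h5, map_mul, f 3 (by simp), f 12 (by simp)], f⟩) rfl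
  have k : ∀ l, ∃ s ∈ gen μ 1, θ l = l * s := fun l =>
    ⟨_, M.cQ (fix_cent M.nQ hQ l), by group⟩
  have : ⁅(⊤ : Subgroup L), (⊤ : Subgroup L)⁆ ≤ Fix θ := commutator_le.2 fun a _ b _ => by
    obtain ⟨s, hs, e⟩ := k a
    obtain ⟨t, ht, e'⟩ := k b
    change θ ⁅a, b⁆ = ⁅a, b⁆
    rw [map_commutatorElement, e, e', commutatorElement_def, commutatorElement_def]
    calc a * s * (b * t) * (a * s)⁻¹ * (b * t)⁻¹ = a * (s * (b * t)) * s⁻¹ * (a⁻¹ * t⁻¹) * b⁻¹ := by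
          group
      _ = _ := by rw [← M.cenZ hs, M.cenZ (inv_mem ht)]; group
  rw [M.perf] at this
  exact ⟨1, MulEquiv.ext fun x => (this (mem_top x)).trans (by simp)⟩

theorem stepA {S : List ℕ} {v : ℕ} (a : List ℕ) (hv : [v].all [1, 6, 7, 12].contains = true)
    (hS : (List.range' 1 4).all S.contains = true)
    (h : allP (fun w c => false || (q (c ++ w) (v :: c) && allL (fun i => q (c ++ [i]) (i :: c)) S))
      [[v], [v, 1]] [[], a] = true) : Cl μ (v :: S) → Cl μ S :=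
  M.step _ _ (fun _ => false) h fun θ p f => by
    have h1 := fix_cent M.ln1.nrm (fixg f hS) (μ v)
    obtain ⟨w, hw, e⟩ := M.cov2 _ (mul_mem (inv_mem (mem2 hv)) (M.mapV M.ln2 p.2 (mem2 hv)))
    have h2 : (μ v)⁻¹ * θ (μ v) ∈ gen μ 1 := by
      rw [e] at h1 ⊢
      have := allL_iff.1 (show allL (fun w => zB w || [2, 3, 4].any fun j => n (j :: w) (w ++ [j]))
        (subs [1, 6, 7, 12]) = true by decide +kernel) w hw
      refine M.zb ((Bool.or_eq_true_iff.1 this).resolve_right fun k => ?_)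
      obtain ⟨j, hj, k⟩ := List.any_eq_true.1 k
      refine M.ne _ _ k ?_
      rw [ev_cons, ev_append, ev_single]
      exact h1 _ (mem_gen μ (by simp at hj; omega) (by simp at hj; omega))
    rcases M.memZ.1 h2 with e | e
    · exact ⟨[v], by simp, by rw [ev_single, ← inv_mul_eq_one.1 e], Bool.false_ne_true⟩
    · exact ⟨[v, 1], by simp, by rw [ev_cons, ev_single, ← e, mul_inv_cancel_left],
        Bool.false_ne_true⟩

theorem stepB {S : List ℕ} {j : ℕ} (C : List (List ℕ)) (hj : j < 4)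
    (hS : (List.range' 1 j).all S.contains = true)
    (h : allP (fun w c => lettersIn j w || (q (c ++ w) ((j + 1) :: c) &&
      allL (fun i => q (c ++ [i]) (i :: c)) S)) (subs (dn 0 4)) C = true) :
    Cl μ ((j + 1) :: S) → Cl μ S :=
  M.step _ _ (lettersIn j) h fun θ p f => by
    obtain ⟨w, hw, e⟩ := cov_zero M.pc 4 (by decide) _
      (M.mapV M.ln1 p.1 (mem_gen μ (x := j + 1) (by omega) hj))
    refine ⟨w, hw, e, fun k => M.pc.not_mem (j := j) (by omega) ?_⟩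
    have h1 : θ (ev μ w) = ev μ w := fixg f hS (ev_gen μ k)
    rw [θ.injective (e.trans h1.symm)]
    exact ev_gen μ k

theorem inn {i : ℕ} (hi : i ∈ [2, 6]) (θ : MulAut L) (e : θ (μ i) = μ i) : H46.S95.Inn θ := by
  refine M.stepB (j := 1) [[], [], [], [7], [11, 9, 10, 11, 10], [11, 9, 8, 11, 10], [11, 9, 10, 11], [11, 9, 8, 11], [11, 9], [11, 9, 5], [11, 9, 10], [11, 9, 8], [11, 8, 5], [11, 8], [11], [11, 5]] (by decide) rfl (by decide +kernel)
    (M.stepB (j := 2) [[], [], [], [], [], [6], [10], [10, 6], [11, 10, 11, 10], [11, 10, 11, 8], [11, 10, 11], [11, 10, 11, 5], [11, 10, 11, 9], [11, 10, 11, 9, 5], [11, 10, 11, 10, 9], [11, 10, 11, 9, 8]] (by decide) rfl (by decide +kernel)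
    (M.stepB (j := 3) [[], [], [], [], [], [], [], [], [], [5], [8, 5], [8], [9, 8, 5], [9, 8], [9], [9, 5]] (by decide) rfl (by decide +kernel)
    (M.stepA [3] rfl rfl (by decide +kernel) (M.stepA [2] rfl rfl (by decide +kernel)
    (M.stepA [4, 3, 2] rfl rfl (by decide +kernel) M.base))))) θ ?_
    (List.forall_mem_singleton.2 (M.fixz θ))
  simp only [List.mem_cons, List.not_mem_nil, or_false] at hi
  rcases hi with rfl | rfl
  · exact ⟨e.symm ▸ IsConj.refl _, (M.cj M.ln2 θ).resolve_left fun k =>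
      M.n26 (isConj_of (θ := θ) (e.symm ▸ k))⟩
  · exact ⟨(M.cj M.ln1 θ).resolve_right fun k => M.n26 (isConj_of (θ := θ) (e.symm ▸ k)).symm,
      e.symm ▸ IsConj.refl _⟩

end Mo

theorem s3_conj {z w w' : L} (h : S3 z w) {c : L} (hc : c * z = z * c) (e : c * w * c⁻¹ = w') :
    S3 z w' := by
  obtain ⟨h1, h2, h3, h4, ⟨σ, h5, h6⟩, p, h7, h8⟩ := h
  have hz : MulAut.conj c z = z := by rw [MulAut.conj_apply, hc, mul_inv_cancel_right]
  have hw : MulAut.conj c w = w' := e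
  have k := fun {a b : L} (e : a = b) => congrArg (MulAut.conj c) e
  refine ⟨?_, fun e => h2 ?_, fun e => h3 ?_, ?_, ⟨MulAut.conj c σ, ?_, ?_⟩, MulAut.conj c p, ?_, ?_⟩
  · simpa only [map_mul, map_one, hw] using k h1
  · exact (MulAut.conj c).map_eq_one_iff.1 (hw.trans e)
  · exact (MulAut.conj c).injective (hw.trans (e.trans hz.symm))
  · simpa only [map_mul, hw, hz] using k h4
  · simpa only [map_mul, map_inv, hw, hz] using k h5
  · simpa only [map_mul, map_inv, hw, hz] using k h6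
  · simpa only [map_mul, map_inv, hw, hz] using k h7
  · simpa only [map_mul, map_inv, hw, hz] using k h8

theorem card_Cz {a b : L} (h : IsConj a b) : Nat.card (Cz a) = Nat.card (Cz b) := by
  obtain ⟨c, rfl⟩ := isConj_iff.1 h
  refine Nat.card_congr ((MulAut.conj c).toEquiv.subtypeEquiv fun x => ?_)
  rw [mem_Cz, mem_Cz]
  change _ ↔ MulAut.conj c x * MulAut.conj c a = MulAut.conj c a * MulAut.conj c x
  rw [← map_mul, ← map_mul, (MulAut.conj c).apply_eq_iff_eq]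

end general

open Cfsg.Agent.H46.S95.He

theorem τ_all {P : List ℕ → Bool} (h : allL P TL = true) (x : ℕ) : P (τ x) = true :=
  allL_iff.1 h _ ((nth_mem [] TL x).elim (fun e => (show τ x = [] from e).symm ▸ List.mem_cons_self) id)

/-- The letters in the centraliser. -/
noncomputable def μ (x : ℕ) : Cz (ν 1) :=
  ⟨ev ν (τ x), mem_cent ok (τ_all (P := fun w => D.eqW (w ++ [1]) (1 :: w)) (by decide +kernel) x)⟩

theorem coe_ev (l : List ℕ) : ((ev μ l : Cz (ν 1)) : Γ) = ev ν (l.flatMap τ) :=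
  (map_ev (Cz (ν 1)).subtype μ l).trans (ev_flatMap ν τ l).symm

theorem coe_μ {x : ℕ} (h : τ x = [x]) : (μ x : Γ) = ν x := (congrArg (ev ν) h).trans (ev_single ν x)

theorem orcμ : Orc μ q := fun l r e => Subtype.ext (by rw [coe_ev, coe_ev]; exact ok.eq e)

theorem mo : Mo μ where
  eq := orcμ
  ne := fun l r e k => ok.ne e (by rw [← coe_ev, ← coe_ev, k])
  sq := fun x => Subtype.ext ((ev_append ..).symm.trans
    (ok.eq (τ_all (P := fun w => D.eqW (w ++ w) []) (by decide +kernel) x)))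
  zc := fun g => Subtype.ext (by
    rw [coe_mul, coe_mul, coe_μ (x := 1) rfl]
    exact mem_Cz.1 g.2)
  pc := Pc.of orcμ (W := WP) (allL_iff.1 (by decide +kernel)) (by
    rw [← card_map_of_injective (Cz (ν 1)).subtype_injective, ← pc.card 10 le_rfl]
    exact card_le_of_le (gen_le.2 fun x h1 h2 => ⟨μ x, mem_gen μ h1 h2,
      coe_μ (by interval_cases x <;> rfl)⟩))
  card := cz_n
  top := top_le_iff.1 fun g _ => by
    refine (mem_map_iff_mem (Cz (ν 1)).subtype_injective).1 ((wgen_le.2 fun s hs => ?_ :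
      _ ≤ (gen μ 11).map (Cz (ν 1)).subtype) (cz_c g.2))
    obtain ⟨w, e⟩ := allP_spec (p := fun s w => lettersIn 11 w && D.eqW (w.flatMap τ) s)
      (l' := [[5, 11, 10, 9, 6], [9, 6, 4, 8, 7], [8, 7, 4, 8, 6], [10, 8, 7], [8, 10, 7], [5, 6, 3, 2], [8, 10, 4, 5]]) (by decide +kernel) s hs
    obtain ⟨e1, e2⟩ := Bool.and_eq_true_iff.1 e
    exact ⟨_, ev_gen μ e1, (coe_ev w).trans (ok.eq e2)⟩

theorem perfC : ⁅Cz (ν 1), Cz (ν 1)⁆ = Cz (ν 1) := by
  simpa only [map_commutator, ← MonoidHom.range_eq_map, range_subtype] using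
    congrArg (map (Cz (ν 1)).subtype) mo.perf

theorem genC : Cz (ν 1) ≤ closure {l | l ∈ Cz (ν 1) ∧ l * l = 1} := fun g hg =>
  (gen_le.2 fun x _ _ => subset_closure ⟨(μ x).2, congrArg Subtype.val (mo.sq x)⟩ :
    gen μ 11 ≤ (closure {l | l ∈ Cz (ν 1) ∧ l * l = 1}).comap (Cz (ν 1)).subtype)
    (mo.top ▸ mem_top (⟨g, hg⟩ : Cz (ν 1)))

theorem facts {y : ℕ} (σ p : List ℕ) (W : List (List ℕ))
    (e1 : D.eqsB [([y, y], []), ([y, 1], [1, y]), (σ ++ [1], [1, y] ++ σ), (σ ++ [y], y :: σ),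
      (p ++ [1], 1 :: p), (p ++ [y], [y, 1] ++ p)] = true)
    (e2 : (D.neW [y] [] && D.neW [y] [1]) = true)
    (e3 : allL (fun x => D.eqW [x, 1] [1, x]) (List.range' 1 17) = true)
    (e4 : allP (fun a w => w.all (· ≤ 17) && D.eqW (a ++ sub σ w ++ [1]) (1 :: (a ++ sub σ w)))
      (sing [29, 31, 33, 35, 37, 39, 41]) W = true) :
    S3 (ν 1) (ν y) ∧ Cz (ν 1) ⊔ Cz (ν y) = ⊤ := by
  have E := ok.eqs e1
  simp only [eqs_cons, eqs_nil, ev_append, ev_cons, ev_nil, mul_one, and_true] at E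
  obtain ⟨a1, a2, a3, a4, a5, a6⟩ := E
  obtain ⟨n1, n2⟩ := Bool.and_eq_true_iff.1 e2
  refine ⟨⟨a1, ev_single ν y ▸ ok.ne n1, ev_single ν y ▸ ev_single ν 1 ▸ ok.ne n2, a2,
    ⟨_, H80.HeLc.conj_of a3, H80.HeLc.conj_of a4⟩, _, H80.HeLc.conj_of a5, H80.HeLc.conj_of a6⟩,
    top_le_iff.1 fun g _ => (wgen_le.2 fun a ha => ?_ : _ ≤ Cz (ν 1) ⊔ Cz (ν y))
    (ok.mem_wgen (grp_le_wgen' (S := sing [29, 31, 33, 35, 37, 39, 41])
      [29, 31, 33, 35, 37, 39, 41] rfl (by decide +kernel) g.2))⟩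
  obtain ⟨w, e⟩ := allP_spec e4 a ha
  obtain ⟨k1, k2⟩ := Bool.and_eq_true_iff.1 e
  have h1 : ev ν (sub σ w) ∈ Cz (ν 1) ⊔ Cz (ν y) := by
    rw [ev_sub]
    refine ev_mem fun x hx => ?_
    unfold ux
    split_ifs with h0
    · exact mem_sup_right (mem_Cz.2 a4)
    · have := of_decide_eq_true (List.all_eq_true.1 k1 x hx)
      exact mem_sup_left (ev_single ν x ▸ mem_cent ok
        (allL_iff.1 e3 x (List.mem_range'_1.2 ⟨by omega, by omega⟩)))
  have h2 := mem_cent ok k2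
  rw [ev_append] at h2
  exact (mul_mem_cancel_right h1).1 (mem_sup_left h2)

theorem fact2 : S3 (ν 1) (ν 2) ∧ Cz (ν 1) ⊔ Cz (ν 2) = ⊤ :=
  facts [62, 50, 41, 50, 53, 60, 5, 59, 54, 49, 42, 49, 61] [7] [[0, 11, 15, 9, 8, 9, 11, 15, 9, 9, 0, 11, 15, 9, 0, 9, 8, 11, 15, 9, 0], [11, 15, 9, 10, 9, 11, 15, 9, 0, 11, 15, 9, 0, 9, 11, 15, 9, 7, 0, 8, 11, 15, 9, 9, 0, 11, 15, 9, 0], [7, 0, 11, 15, 9, 9, 8, 11, 15, 9, 3, 0, 11, 15, 9, 9, 0, 11, 15, 9, 0], [11, 15, 9, 7, 0, 9, 11, 15, 9, 0, 9, 10, 11, 15, 9, 9, 0, 8, 11, 15, 9, 7, 9, 0, 11, 15, 9, 0, 9, 11, 15, 9, 0], [0, 11, 15, 9, 9, 8, 11, 15, 9, 0, 9, 11, 15, 9, 0, 9, 8, 11, 15, 9, 0], [3, 0, 11, 15, 9, 0, 11, 15, 9, 7, 9, 0, 11, 15, 9, 0, 9, 11, 15, 9, 7, 0, 9, 11, 15, 9, 9, 0, 11, 15, 9, 0], [7, 3, 0, 11, 15, 9, 9, 8, 11, 15, 9, 0, 11, 15, 9, 9, 0, 11, 15, 9, 0]]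
    (by decide +kernel) (by decide +kernel) (by decide +kernel) (by decide +kernel)

theorem fact6 : S3 (ν 1) (ν 6) ∧ Cz (ν 1) ⊔ Cz (ν 6) = ⊤ :=
  facts [50, 65, 31, 49, 48, 53, 53, 59, 3, 60, 54, 54, 47, 50, 32, 66, 49] [3] [[11, 15, 9, 9, 0, 8, 11, 15, 9, 9, 5, 0, 9, 11, 15, 9, 9, 3, 0, 9, 0], [10, 11, 15, 9, 10, 9, 0, 9, 0, 11, 15, 9, 10, 9, 0, 9, 11, 15, 9, 4, 0, 9, 0], [11, 15, 9, 9, 0, 8, 11, 15, 9, 10, 9, 7, 0, 9, 11, 15, 9, 9, 0, 9, 0], [9, 0, 9, 11, 15, 9, 9, 4, 0, 9, 7, 0, 9, 11, 15, 9, 9, 3, 0, 9, 11, 15, 9, 0, 9, 0], [11, 15, 9, 9, 0, 9, 4, 8, 11, 15, 9, 9, 0, 9, 11, 15, 9, 0, 9, 0], [8, 11, 15, 9, 9, 5, 8, 0, 9, 11, 15, 9, 9, 0, 9, 0], [11, 15, 9, 9, 0, 9, 4, 8, 11, 15, 9, 9, 0, 9, 0, 11, 15, 9, 9, 0]]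
    (by decide +kernel) (by decide +kernel) (by decide +kernel) (by decide +kernel)

theorem s3 {i : ℕ} (h : S3 (ν 1) (μ i : Γ)) {x : Cz (ν 1)} (e : IsConj (μ i) x) :
    S3 (ν 1) (x : Γ) := by
  obtain ⟨c, e⟩ := isConj_iff.1 e
  exact s3_conj h (mem_Cz.1 c.2) (congrArg Subtype.val e)

theorem hfs (cl : CL) : HFS := fun i hi => by
  have hc : (μ i : Γ) = ν i := coe_μ (by
    simp only [List.mem_cons, List.not_mem_nil, or_false] at hi
    rcases hi with rfl | rfl <;> rfl)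
  have zz : ν 1 * ν 1 = 1 := by simpa [ev] using ok.eq (l := [1, 1]) (r := []) (by decide +kernel)
  refine ⟨μ i, hc, zz, ev_single ν 1 ▸ ok.ne (r := []) (by decide +kernel), fun a a2 a1 h => ?_,
    perfC, genC, by simp, fun θ => ?_, fun u v _ _ h _ => Or.inl ⟨1, by simp, ?_⟩,
    fun θ e _ => mo.inn hi θ e, cl, fun α h => ?_⟩
  · obtain ⟨r, hr, e⟩ := Cov.reps pc (by rw [HeM.card_grp]; norm_num) cov1 a
      (orderOf_eq_prime (by rwa [pow_two]) a1)
    simp only [List.mem_cons, List.not_mem_nil, or_false] at hr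
    rcases hr with rfl | rfl <;> rw [ev_single] at e
    · exact e
    · rw [← card_Cz e, cz_n, cb_n] at h
      norm_num at h
  · have : IsConj (μ 2) (θ (μ i)) ∨ IsConj (μ 6) (θ (μ i)) := by
      simp only [List.mem_cons, List.not_mem_nil, or_false] at hi
      rcases hi with rfl | rfl
      exacts [mo.cj mo.ln1 θ, mo.cj mo.ln2 θ]
    exact this.elim (s3 (coe_μ (x := 2) rfl ▸ fact2.1)) (s3 (coe_μ (x := 6) rfl ▸ fact6.1))
  · rw [orderOf_one, orderOf_eq_one_iff] at h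
    simp [h]
  · have yz := mem_Cz.1 (μ i).2
    obtain ⟨c, hc⟩ := mo.inn hi (H80.HeLc.resAut α (h _ (mem_Cz.2 rfl) yz.symm))
      (Subtype.ext (h _ (μ i).2 rfl))
    obtain ⟨d, -, hd⟩ := cl (MulAut.conj (c : Γ)⁻¹ * α) fun l hl => by
      have e : α l = c * l * (c : Γ)⁻¹ := by
        simpa [H80.HeLc.resAut] using congrArg Subtype.val (DFunLike.congr_fun hc ⟨l, hl⟩)
      simp only [MulAut.mul_apply, MulAut.conj_apply, e]
      group
    exact (Inn.conj _).of_mul_left ⟨d, hd⟩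

theorem rzs (cl : CL) : RZS := by
  refine ⟨perfC, genC, mem_zpowers _, zpowers_le.2 fun g hg => mem_Cz.1 hg, fun α h x hx => ?_,
    fun α _ h => cl α h, fun K h1 h2 => ?_⟩
  · exact (H80.HeLc.resAut α h ⟨x, hx⟩).2
  · rcases mo.lemN (normal_subgroupOf_of_le_normalizer h2) with e | e | e
    · refine Or.inl fun x hx => ?_
      rcases mo.memZ.1 (e (x := ⟨x, h1 hx⟩) hx) with k | k
      · exact (show x = 1 from congrArg Subtype.val k).symm ▸ one_mem _
      · exact (show x = ν 1 from (congrArg Subtype.val k).trans (coe_μ rfl)).symm ▸ mem_zpowers _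
    · exact Or.inr ⟨_, coe_μ (x := 2) rfl ▸ e, fact2.1.1, fact2.1.2.1, Or.inl fact2.2⟩
    · exact Or.inr ⟨_, coe_μ (x := 6) rfl ▸ e, fact6.1.1, fact6.1.2.1, Or.inl fact6.2⟩

end Cfsg.Agent.H64.HeHF
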