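import Cfsg.Agent.H29.SpKit

/-!
# Standard subgroups of type `Sp₂ₖ(2ⁿ)`: the first step for the doubled transvections

A mover for a transvection is corrected to one that commutes with the whole point stabilizer and
with the doubled short root elements through the point.
-/

set_option autoImplicit false

namespace Cfsg.Agent.H64.SpC2

open Cfsg Cfsg.Agent.H63 Cfsg.Agent.H63.SL Cfsg.Agent.H26 Cfsg.Agent.H68.Sp
open Cfsg.Agent.H78 hiding tv
open Cfsg.Agent.H29.SpK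
open Subgroup Module
open scoped commutatorElement

universe u v

section Gen

variable {G : Type u} [Group G]

theorem tt {L : Subgroup G} {t : G} (h : Tc L t) : t * t = 1 := by
  rw [← pow_two, ← h.t2, pow_orderOf_eq_one]

theorem tinv {L : Subgroup G} {t : G} (h : Tc L t) : t⁻¹ = t :=
  inv_eq_of_mul_eq_one_right (tt h)

theorem comm_of_C {H : Subgroup G} {g x : G} (hg : g ∈ C[H]) (hx : x ∈ H) : Commute g x :=
  (hg x hx).symm

/-- An odd power of an element of `C(L) ∩ C(t)` is `1` or `t`. -/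
theorem odd_pow [Finite G] {L : Subgroup G} {t κ : G} (r2 : R2 L t) (hκ : κ ∈ C[L])
    (hc : Commute κ t) : ∃ m, Odd m ∧ (κ ^ m = 1 ∨ κ ^ m = t) := by
  obtain ⟨a, m, hm, e⟩ := Nat.exists_eq_two_pow_mul_odd (orderOf_pos κ).ne'
  refine ⟨m, hm, r2 _ (pow_mem hκ m) (hc.pow_left m) ⟨a, ?_⟩⟩
  rw [← pow_mul, mul_comm, ← e, pow_orderOf_eq_one]

theorem odd_order {o : G} {m : ℕ} (hm : Odd m) (e : o ^ m = 1) : Odd (orderOf o) :=
  Odd.of_dvd_nat hm (orderOf_dvd_of_pow_eq_one e)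

/-- Splitting an element of `C(L) ∩ C(t)`. -/
theorem split [Finite G] {L : Subgroup G} {t κ : G} (tc : Tc L t) (r2 : R2 L t) (hκ : κ ∈ C[L])
    (hc : Commute κ t) :
    ∃ o ∈ C[L], Commute o t ∧ Odd (orderOf o) ∧ (κ = o ∨ κ = t * o) := by
  obtain ⟨m, hm, e | e⟩ := odd_pow r2 hκ hc
  · exact ⟨κ, hκ, hc, odd_order hm e, Or.inl rfl⟩
  · refine ⟨t * κ, mul_mem tc.tc hκ, (Commute.refl t).mul_left hc, odd_order hm ?_, Or.inr ?_⟩
    · obtain ⟨j, rfl⟩ := hm
      rw [hc.symm.mul_pow, e, pow_succ, pow_mul, pow_two, tt tc, one_pow, one_mul, tt tc]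
    · rw [← mul_assoc, tt tc, one_mul]

theorem odd_sq {o z : G} (ho : Odd (orderOf o)) (hz : z * z = 1) (e : o * o * z = 1) :
    o = 1 ∧ z = 1 := by
  have e1 : o * o = z := by
    rw [eq_inv_of_mul_eq_one_left e, inv_eq_of_mul_eq_one_right hz]
  have e2 : o ^ 2 ^ 2 = 1 := by
    rw [show (2 : ℕ) ^ 2 = 2 * 2 from rfl, pow_mul, pow_two, pow_two, e1, hz]
  have e3 : orderOf o = 1 :=
    Nat.Coprime.eq_one_of_dvd (Nat.Coprime.pow_right 2 (Nat.coprime_two_right.2 ho))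
      (orderOf_dvd_of_pow_eq_one e2)
  have e4 := orderOf_eq_one_iff.1 e3
  exact ⟨e4, by rw [← e1, e4, one_mul]⟩

/-- A `2`-element an odd power of which commutes with `o` commutes with `o`. -/
theorem comm_of_odd {p o : G} (hp : Is2 p) {m : ℕ} (hm : Odd m) (hc : Commute o (p ^ m)) :
    Commute o p := by
  obtain ⟨n, hn⟩ := hp
  have hco : (orderOf p).Coprime m :=
    Nat.Coprime.coprime_dvd_left (orderOf_dvd_of_pow_eq_one hn)
      (Nat.Coprime.pow_left n (Nat.coprime_two_left.2 hm))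
  obtain ⟨j, hj⟩ := exists_pow_eq_self_of_coprime hco.symm
  rw [← hj]
  exact hc.pow_right j

end Gen

section Vec

variable {F V : Type v} [Field F] [AddCommGroup V] [Module F V] {G : Type u} [Group G]
  {P : PForm F V} {φ : P.E →* G} {L : Subgroup G} {k : ℕ} {t : G}

theorem zL (c : LL P φ L k) {z : G} (hz : z ∈ L) (hc : z ∈ C[L]) : z = 1 := by
  obtain ⟨e, rfl⟩ := exists_φ c.toSG hz
  refine (φ_eq_one c.toSG).2 fun x => ?_
  by_cases hx : x = 0
  · rw [hx, map_zero]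
  · exact c.nf.ct e x 1 hx one_ne_zero (hc _ (ET_mem c.toSG x 0 1)).symm

theorem i2_iff {w v : V} : I2 P w v ↔ P.f w v = 0 ∧ v ≠ 0 ∧ ∀ r : F, r • v ≠ w := by
  constructor
  · rintro ⟨h0, hl⟩
    have hl' := LinearIndependent.pair_symm_iff.1 hl
    have hv : v ≠ 0 := hl'.ne_zero 0
    exact ⟨h0, hv, (LinearIndependent.pair_iff' hv).1 hl'⟩
  · rintro ⟨h0, hv, hl⟩
    exact ⟨h0, LinearIndependent.pair_symm_iff.1 ((LinearIndependent.pair_iff' hv).2 hl)⟩

theorem i2_symm {w v : V} (H : I2 P w v) : I2 P v w :=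
  ⟨PForm.f_symm_zero H.1, LinearIndependent.pair_symm_iff.1 H.2⟩

theorem i2_of {w v z : V} (h0 : P.f w v = 0) (hv : v ≠ 0) (hw : P.f w z ≠ 0)
    (hz : P.f v z = 0) : I2 P w v :=
  i2_iff.2 ⟨h0, hv, fun r e => hw (by rw [← e, P.f_smul_left, hz, mul_zero])⟩

theorem i2_shear (h : SG P φ L k) {w v : V} (H : I2 P w v) (r : F) : I2 P (w + r • v) v := by
  obtain ⟨h0, hv, hl⟩ := i2_iff.1 H
  refine i2_iff.2 ⟨by rw [P.f_add_left, P.f_smul_left, h0, fs h, mul_zero, add_zero], hv,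
    fun s e => hl (s - r) ?_⟩
  rw [sub_smul, e, add_sub_cancel_right]

theorem i2_map {w v : V} (H : I2 P w v) {e : P.E} (he : e.1 v = v) : I2 P (e.1 w) v := by
  obtain ⟨h0, hv, hl⟩ := i2_iff.1 H
  refine i2_iff.2 ⟨by rw [← he, ef, h0], hv, fun s e' => hl s (e.1.injective ?_)⟩
  rw [map_smul, he, e']

theorem ET_uniq (h : SG P φ L k) {v x x' : V} {ν ν' : F} (hv : v ≠ 0) (hx : P.f v x = 0)
    (hx' : P.f v x' = 0) (e : ET P φ v x ν = ET P φ v x' ν') :
    ν = ν' ∧ ∃ s : F, x + x' = s • v := by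
  have e1 : ET P φ v (x + x') (ν + ν' + P.f x x') = 1 := by
    rw [← ET_mul h hx hx', e, ET_sq h]
  obtain ⟨e2, s, hs⟩ := ET_eq_one h hv (by rw [P.f_add_right, hx, hx', add_zero]) e1
  refine ⟨?_, s, hs⟩
  have e3 : P.f x x' = 0 := by
    have : x' = x + s • v := by rw [← hs, ← add_assoc, vadd_self h, zero_add]
    rw [this, P.f_add_right, fs h, fr h, fc h x v, hx, mul_zero, add_zero]
  rw [e3, add_zero] at e2
  rw [eq_neg_of_add_eq_zero_left e2, fneg h]

theorem sq_surj [Finite F] (h : SG P φ L k) (a : F) : ∃ r : F, r * r = a := by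
  refine ((Finite.injective_iff_surjective (f := fun r : F => r * r)).1 fun r s e => ?_) a
  have e' : r * r = s * s := e
  have : (r + s) * (r + s) = 0 := by linear_combination e' + (r * s + s * s) * h.two
  rw [eq_neg_of_add_eq_zero_left (mul_self_eq_zero.1 this), fneg h]

theorem gram (h : SG P φ L k) {Fr : Frame P k} (hN : Fr.Norm) (a : BI k) :
    P.f (Fr.e a) (Fr.e (ng a)) = 1 := by
  rcases a with ⟨i, _ | _⟩
  · exact hN i
  · exact (fc h _ _).trans (hN i)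

theorem ne_ng {a b : BI k} (hab : a.1 ≠ b.1) : a ≠ ng b := fun e => hab (by rw [e]; rfl)

theorem orth1 (Fr : Frame P k) {a b : BI k} (hab : a.1 ≠ b.1) : P.f (Fr.e a) (Fr.e b) = 0 :=
  Fr.orth a b (ne_ng hab.symm)

theorem idx_cases (a c : BI k) : a = c ∨ a = ng c ∨ a.1 ≠ c.1 := by
  rcases a with ⟨i, s⟩
  rcases c with ⟨j, s'⟩
  by_cases e : i = j
  · subst e
    cases s <;> cases s' <;> simp [ng]
  · exact Or.inr (Or.inr e)

theorem expand (h : SG P φ L k) (g1 : G1 P k) {Fr : Frame P k} (hN : Fr.Norm) (x : V) :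
    x = ∑ a, P.f x (Fr.e (ng a)) • Fr.e a := by
  have := Fr.sub_sum_mem x
  rw [g1.v0, Submodule.mem_bot, sub_eq_zero] at this
  simpa only [gram h hN, div_one] using this

variable {y : V → V → G}

theorem y_comm (hy : Y1 P φ L t 1 y) {w v : V} (H : I2 P w v) {e : P.E} (hw : e.1 w = w)
    (hv : e.1 v = v) : Commute (y w v) (φ e) :=
  comm_of_C (hy.cent w v H) (mem_YW.2 ⟨e, by
    rintro _ (rfl | rfl)
    exacts [hw, hv], rfl⟩)

theorem y_comm_ET (hy : Y1 P φ L t 1 y) (h : SG P φ L k) {w v x : V} (H : I2 P w v)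
    (hx : P.f w x = 0) (hx' : P.f v x = 0) (ν : F) : Commute (y w v) (ET P φ v x ν) :=
  y_comm hy H (eE_fix h H.1 hx ν) (eE_fix h (fs h v) hx' ν)

theorem y_comm_tv (hy : Y1 P φ L t 1 y) (h : SG P φ L k) {w v : V} (H : I2 P w v) (ν : F) :
    Commute (y w v) (tv P φ v ν) :=
  y_comm_ET hy h H (P.f_zero_right w) (P.f_zero_right v) ν

theorem y_inv (hy : Y1 P φ L t 1 y) {w v : V} (H : I2 P w v) : (y w v)⁻¹ = y w v :=
  inv_eq_of_mul_eq_one_right (hy.sq w v H)

/-- The shear rule in the first variable. -/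
theorem y_shear (hy : Y1 P φ L t 1 y) (h : SG P φ L k) {w v : V} (H : I2 P w v) (r : F) :
    y (w + r • v) v = y w v * tv P φ v r := by
  have e1 := hy.swap v w (i2_symm H)
  have e2 := hy.swap v (w + r • v) (i2_symm (i2_shear h H r))
  rw [e2, e1, hy.shear v w (i2_symm H), one_smul, one_smul, one_mul, Es_shear h, mul_assoc,
    mul_assoc, (comm_same h v 0 w r 0).eq]

theorem ET_y (hy : Y1 P φ L t 1 y) (h : SG P φ L k) {w v x : V} (H : I2 P w v)
    (hx : P.f v x = 0) (ν : F) :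
    ET P φ v x ν * y w v = y w v * tv P φ v (P.f w x) * ET P φ v x ν := by
  have e := hy.conj w v H (eE P v x ν)
  rw [eE_fix h (fs h v) hx, eE_apply h hx, H.1, zero_smul, add_zero, mul_zero, add_zero,
    y_shear hy h H, ← ET_eq] at e
  rw [← e, inv_mul_cancel_right]

theorem y_ET (hy : Y1 P φ L t 1 y) (h : SG P φ L k) {w v x : V} (H : I2 P w v)
    (hx : P.f v x = 0) (ν : F) :
    y w v * ET P φ v x ν = ET P φ v x (ν + P.f w x) * y w v := by
  rw [ET_y hy h H hx, mul_assoc, ET_mul h (P.f_zero_right v) hx, zero_add, P.f_zero_left,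
    add_zero, add_comm ν, ← add_assoc, fadd_self h, zero_add]

theorem y_t (hy : Y1 P φ L t 1 y) (h : SG P φ L k) (tc : Tc L t) {w v : V} (H : I2 P w v) :
    y w v * t = t * Es P φ v w * y w v := by
  have e := hy.tact w v H
  have c := y_comm_ET hy h H (fs h w) (PForm.f_symm_zero H.1) 0
  rw [Es_symm h w v, tinv tc, c.eq] at e
  rw [mul_assoc, ← e, ← mul_assoc, ← mul_assoc, tt tc, one_mul]

theorem y_add {c0 : F} (ha : AddU P φ c0 y) {w w' v : V}
    (H : I2 P w v) (H' : I2 P w' v) (H'' : I2 P (w + w') v) :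
    ∃ a, y (w + w') v = y w v * y w' v * tv P φ v a := by
  have e := ha w w' v H H' H'' ⟨0, 1⟩
  simp only [YA, zero_smul, one_smul, Es_zero, one_mul] at e
  exact ⟨_, e⟩

end Vec

section Main

variable {F V : Type v} [Field F] [Finite F] [AddCommGroup V] [Module F V]
  {G : Type u} [Group G] [Finite G] {P : PForm F V} {φ : P.E →* G} {L : Subgroup G} {k : ℕ}
  {t : G} {y : V → V → G} {p : G}

variable (P φ y p) in
/-- The action of `p` on `y w v`. -/
def A (v w x : V) (ν : F) : Prop :=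
  I2 P w v ∧ P.f v x = 0 ∧ p * y w v * p⁻¹ = ET P φ v x ν * y w v

omit [Finite F] [Finite G] in
theorem cQ {v x : V} (hQ : p ∈ C[QW P φ {v}]) (hx : P.f v x = 0) (ν : F) :
    Commute p (ET P φ v x ν) :=
  comm_of_C hQ (ET_mem_QW (Submodule.mem_span_singleton_self v)
    (by rintro _ rfl; exact PForm.f_symm_zero hx) ν)

omit [Finite F] [Finite G] in
theorem t_comm (h : SG P φ L k) (tc : Tc L t) (e : P.E) : Commute t (φ e) :=
  comm_of_C tc.tc (φ_mem h e)

omit [Finite F] [Finite G] in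
theorem p_t {v : V} (mv : p * t * p⁻¹ = t * tv P φ v 1) : p * t = t * tv P φ v 1 * p := by
  rw [← mv, inv_mul_cancel_right]

omit [Finite F] [Finite G] in
theorem A.uniq (h : SG P φ L k) {v w x x' : V} {ν ν' : F} (H : A P φ y p v w x ν)
    (H' : A P φ y p v w x' ν') : ν = ν' ∧ ∃ s : F, x + x' = s • v :=
  ET_uniq h (i2_iff.1 H.1).2.1 H.2.1 H'.2.1 (mul_right_cancel (H.2.2.symm.trans H'.2.2))

omit [Finite F] in
/-- The commutator of the mover with a doubled short root element lies in `Q`. -/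
theorem A_ex (hC : Ctx P φ L k t) (r2 : R2 L t) (hy : Y1 P φ L t 1 y) {v w : V}
    (hQ : p ∈ C[QW P φ {v}]) (mv : p * t * p⁻¹ = t * tv P φ v 1) (H : I2 P w v) :
    ∃ x ν, P.f w x = 0 ∧ A P φ y p v w x ν := by
  have h := hC.toSG
  have tc := hC.tc
  have hv := (i2_iff.1 H).2.1
  have hvw : P.f v w = 0 := PForm.f_symm_zero H.1
  set Y := y w v with hY
  have YY : Y * Y = 1 := hy.sq w v H
  have pτ : ∀ a, Commute p (tv P φ v a) := fun a => cQ hQ (P.f_zero_right v) a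
  have Yτ : ∀ a, Commute Y (tv P φ v a) := y_comm_tv hy h H
  have tτ : ∀ a, Commute t (tv P φ v a) := fun a => t_comm h tc _
  have pE : Commute p (Es P φ v w) := cQ hQ hvw 0
  have YE : Commute Y (Es P φ v w) := y_comm_ET hy h H (fs h w) hvw 0
  have tE : Commute t (Es P φ v w) := t_comm h tc _
  have Yt : Y * t = t * Es P φ v w * Y := y_t hy h tc H
  have pt : p * t = t * tv P φ v 1 * p := p_t mv
  -- both `p Y` and `Y p` act in the same way on `t` and on `Q`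
  have a1 : p * Y * t = t * (tv P φ v 1 * Es P φ v w) * (p * Y) := by
    rw [mul_assoc, Yt, ← mul_assoc, ← mul_assoc, pt, mul_assoc _ p, pE.eq]
    simp only [mul_assoc]
  have a2 : Y * p * t = t * (tv P φ v 1 * Es P φ v w) * (Y * p) := by
    rw [mul_assoc, pt, ← mul_assoc, ← mul_assoc, Yt, mul_assoc _ Y, (Yτ 1).eq,
      (comm_same h v 0 w 1 0).eq]
    simp only [mul_assoc]
  have ρt : Commute (p * Y * (Y * p)⁻¹) t := by
    have c1 : Commute (p * Y) (tv P φ v 1 * Es P φ v w) :=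
      ((pτ 1).mul_right pE).mul_left ((Yτ 1).mul_right YE)
    have c2 : Commute (Y * p) (tv P φ v 1 * Es P φ v w) :=
      ((Yτ 1).mul_right YE).mul_left ((pτ 1).mul_right pE)
    generalize tv P φ v 1 * Es P φ v w = z at a1 a2 c1 c2
    generalize p * Y = a at a1 c1
    generalize Y * p = b at a2 c2
    have a3 : Commute (a * b⁻¹) (t * z) := by
      change a * b⁻¹ * (t * z) = t * z * (a * b⁻¹)
      rw [← mul_assoc (t * z), ← a1, eq_mul_inv_of_mul_eq a2.symm]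
      group
    simpa using a3.mul_right (c1.mul_left c2.inv_left).inv_right
  have ρQ : p * Y * (Y * p)⁻¹ ∈ C[QW P φ {v}] := by
    intro q hq
    obtain ⟨x, ν, hx, rfl⟩ := (hC.g2.crdQ v q).1 hq
    have hx' : P.f v x = 0 := PForm.f_symm_zero hx
    have d1 : p * Y * ET P φ v x (ν + P.f w x) = ET P φ v x ν * (p * Y) := by
      rw [mul_assoc, y_ET hy h H hx', add_assoc, fadd_self h, add_zero, ← mul_assoc,
        (cQ hQ hx' ν).eq, mul_assoc]
    have d2 : Y * p * ET P φ v x (ν + P.f w x) = ET P φ v x ν * (Y * p) := by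
      rw [mul_assoc, (cQ hQ hx' _).eq, ← mul_assoc, y_ET hy h H hx', add_assoc, fadd_self h,
        add_zero, mul_assoc]
    rw [← mul_assoc, ← d1, eq_mul_inv_of_mul_eq d2.symm]
    group
  obtain ⟨q, hq, κ, hκ, e⟩ := hC.nf.cQ1 v hv _ ⟨tc.cN (mem_centralizer_singleton_iff.2 ρt.eq), ρQ⟩
  obtain ⟨x, ν, hx, rfl⟩ := (hC.g2.crdQ v q).1 hq
  have hx' : P.f v x = 0 := PForm.f_symm_zero hx
  have κt : Commute κ t := by
    rw [eq_inv_mul_of_mul_eq e.symm]
    exact (t_comm h tc _).symm.inv_left.mul_left ρt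
  have e1 : p * Y * p⁻¹ = ET P φ v x ν * κ * Y := by
    rw [← e, mul_inv_rev, inv_eq_of_mul_eq_one_right YY]
    simp only [mul_assoc, YY, mul_one]
  have e2 : ET P φ v x ν * κ * Y * (ET P φ v x ν * κ * Y) = 1 := by
    rw [← e1]
    calc _ = p * (Y * Y) * p⁻¹ := by group
      _ = 1 := by rw [YY]; group
  obtain ⟨o, ho, ot, oo, hk⟩ := split tc r2 hκ κt
  have oY : Commute o Y := hy.odd w v H o ho ot oo
  have oq : ∀ a, Commute o (ET P φ v x a) := fun a => comm_of_C ho (ET_mem h _ _ _)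
  have qY : ET P φ v x ν * Y * ET P φ v x ν = tv P φ v (P.f w x) * Y := by
    rw [mul_assoc, y_ET hy h H hx', ← mul_assoc, ET_mul h hx' hx', vadd_self h, fs h, add_zero,
      ← add_assoc, fadd_self h, zero_add]
  rcases hk with rfl | rfl
  · have e3 : κ * κ * tv P φ v (P.f w x) = 1 := by
      rw [← e2]
      calc _ = κ * κ * (ET P φ v x ν * Y * ET P φ v x ν) * Y := by
            rw [qY, mul_assoc, mul_assoc, mul_assoc, mul_assoc, YY, mul_one]
        _ = _ := by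
            rw [← (oq ν).eq, mul_assoc κ κ, (((oq ν).mul_right oY).mul_right (oq ν)).eq,
              mul_assoc _ _ κ, ← (oq ν).eq]
            simp only [mul_assoc]
    obtain ⟨rfl, e4⟩ := odd_sq oo (tv_sq h _ _) e3
    exact ⟨x, ν, (tv_eq_one h hv).1 e4, H, hx', by rw [e1, mul_one]⟩
  · exfalso
    have tq : Commute t (ET P φ v x ν) := t_comm h tc _
    have oE : Commute o (Es P φ v w) := comm_of_C ho (ET_mem h _ _ _)
    have e3 : o * o * ET P φ v w (P.f w x) = 1 := by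
      rw [← e2, ET_split h hvw]
      calc _ = o * o * (t * t) * (tv P φ v (P.f w x) * (Es P φ v w * (Y * Y))) := by
            rw [tt tc, YY, mul_one, mul_one]
        _ = o * o * t * (tv P φ v (P.f w x) * (t * Es P φ v w * Y) * Y) := by
            rw [← mul_assoc (tv P φ v _), ← mul_assoc (tv P φ v _), ← mul_assoc (tv P φ v _),
              ← (tτ _).eq]
            simp only [mul_assoc]
        _ = o * o * t * (ET P φ v x ν * Y * ET P φ v x ν * t * Y) := by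
            rw [← Yt, qY]
            simp only [mul_assoc]
        _ = _ := by
            simp only [mul_assoc]
            simp only [← ot.left_comm, ← (oq ν).left_comm, ← oY.left_comm, tq.left_comm]
    obtain ⟨-, e4⟩ := odd_sq oo (ET_sq h _ _ _) e3
    obtain ⟨-, r, hr⟩ := ET_eq_one h hv hvw e4
    exact (i2_iff.1 H).2.2 r hr.symm

omit [Finite F] [Finite G] in
theorem A.shear (h : SG P φ L k) {v w x : V} {ν : F} (H : A P φ y p v w x ν) (r : F) :
    A P φ y p v w (x + r • v) ν :=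
  ⟨H.1, by rw [P.f_add_right, H.2.1, fr h, fs h, mul_zero, add_zero], by
    rw [ET_shear h]; exact H.2.2⟩

omit [Finite F] [Finite G] in
/-- Additivity. -/
theorem A.add (h : SG P φ L k) (hy : Y1 P φ L t 1 y) {c0 : F} (ha : AddU P φ c0 y) {v w w' x x' : V}
    (hQ : p ∈ C[QW P φ {v}]) {ν ν' : F} (H : A P φ y p v w x ν) (H' : A P φ y p v w' x' ν')
    (H'' : I2 P (w + w') v) :
    A P φ y p v (w + w') (x + x') (ν + (ν' + P.f w x') + P.f x x') := by
  obtain ⟨a, e⟩ := y_add ha H.1 H'.1 H''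
  refine ⟨H'', by rw [P.f_add_right, H.2.1, H'.2.1, add_zero], ?_⟩
  have c : Commute p (tv P φ v a) := cQ hQ (P.f_zero_right v) a
  calc _ = (p * y w v * p⁻¹) * (p * y w' v * p⁻¹) * (p * tv P φ v a * p⁻¹) := by rw [e]; group
    _ = ET P φ v x ν * (y w v * ET P φ v x' ν') * y w' v * tv P φ v a := by
        rw [H.2.2, H'.2.2, c.eq]; group
    _ = _ := by
        rw [y_ET hy h H.1 H'.2.1, e, ← ET_mul h H.2.1 H'.2.1]; group

omit [Finite F] [Finite G] in
/-- Equivariance. -/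
theorem A.map (h : SG P φ L k) (hy : Y1 P φ L t 1 y) {v w x x0 : V} {ν : F}
    (H : A P φ y p v w x ν) {e : P.E} (he : e.1 v = v) (h0 : P.f v x0 = 0)
    (hp : ⁅p, φ e⁆ = Es P φ v x0) :
    A P φ y p v (e.1 w) (e.1 x) (ν + P.f (e.1 w) x0) := by
  have H1 := i2_map H.1 he
  have hx : P.f v (e.1 x) = 0 := by rw [← he, ef, H.2.1]
  refine ⟨H1, hx, ?_⟩
  have e1 : φ e * y w v * (φ e)⁻¹ = y (e.1 w) v := by rw [hy.conj w v H.1, he]
  have e2 : φ e * ET P φ v x ν * (φ e)⁻¹ = ET P φ v (e.1 x) ν := by rw [conj_ET h, he]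
  have e3 : p * φ e * p⁻¹ = Es P φ v x0 * φ e := by rw [← hp, commutatorElement_def]; group
  have e4 := ET_y hy h H1 h0 0
  calc _ = (p * φ e * p⁻¹) * (p * y w v * p⁻¹) * (p * φ e * p⁻¹)⁻¹ := by rw [← e1]; group
    _ = Es P φ v x0 * (φ e * ET P φ v x ν * (φ e)⁻¹) * (φ e * y w v * (φ e)⁻¹) *
          (Es P φ v x0)⁻¹ := by rw [e3, H.2.2]; group
    _ = ET P φ v (e.1 x) ν * (Es P φ v x0 * y (e.1 w) v) * (Es P φ v x0)⁻¹ := by
        rw [e1, e2, (comm_same h v x0 (e.1 x) 0 ν).eq]; group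
    _ = ET P φ v (e.1 x) ν * tv P φ v (P.f (e.1 w) x0) * y (e.1 w) v := by
        rw [e4, (y_comm_tv hy h H1 _).eq]; group
    _ = _ := by
        rw [ET_mul h hx (P.f_zero_right v), add_zero, P.f_zero_right, add_zero]

omit [Finite F] [Finite G] in
theorem A.map0 (h : SG P φ L k) (hy : Y1 P φ L t 1 y) {v w x : V} {ν : F}
    (H : A P φ y p v w x ν) {e : P.E} (he : e.1 v = v) (hp : Commute p (φ e)) :
    A P φ y p v (e.1 w) (e.1 x) ν := by
  have := H.map h hy he (P.f_zero_right v)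
    (by rw [Es_zero]; exact commutatorElement_eq_one_iff_commute.2 hp)
  rwa [P.f_zero_right, add_zero] at this

variable {Fr : Frame P k} {b : BI k} {l1 : F}

omit [Finite F] [Finite G] in
theorem i2_fr (h : SG P φ L k) (hN : Fr.Norm) {c : BI k} (hc : c.1 ≠ b.1) {r : F} (hr : r ≠ 0) :
    I2 P (r • Fr.e c) (Fr.e b) :=
  i2_of (z := Fr.e (ng c)) (by rw [P.f_smul_left, orth1 Fr hc, mul_zero]) (Fr.e_ne_zero b)
    (by rwa [P.f_smul_left, gram h hN, mul_one]) (orth1 Fr hc.symm)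

omit [Finite F] in
/-- The value at a multiple of a frame vector. -/
theorem A_fr (hC : Ctx P φ L k t) (r2 : R2 L t) (hy : Y1 P φ L t 1 y) (hN : Fr.Norm)
    (hp : MB P φ Fr t l1 b 1 p) {c : BI k} (hc : c.1 ≠ b.1) {r : F} (hr : r ≠ 0) :
    ∃ μ ν : F, A P φ y p (Fr.e b) (r • Fr.e c) (μ • Fr.e c) ν := by
  have h := hC.toSG
  obtain ⟨x, ν, hx, H⟩ := A_ex hC r2 hy hp.cent (by rw [hp.mv, one_mul]) (i2_fr h hN hc hr)
  have hxc : P.f x (Fr.e c) = 0 := by
    rw [P.f_smul_left] at hx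
    exact PForm.f_symm_zero ((mul_eq_zero.1 hx).resolve_left hr)
  have key : ∀ a, a.1 ≠ c.1 → a ≠ ng b → P.f x (Fr.e a) = 0 := by
    intro a h1 h2
    have o1 : P.f (Fr.e c) (Fr.e a) = 0 := orth1 Fr h1.symm
    have cm := hp.comS c a h1.symm (ne_ng hc) h2 1
    rw [one_smul] at cm
    have H' := H.map0 h hy (eE_fix h (orth1 Fr hc.symm) (Fr.orth b a h2) 0) cm
    rw [eE_fix h (by rw [P.f_smul_left, fs h, mul_zero]) (by rw [P.f_smul_left, o1, mul_zero]),
      Es_apply h o1, hxc, zero_smul, add_zero] at H'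
    obtain ⟨-, s, hs⟩ := H.uniq h H'
    rw [← add_assoc, vadd_self h, zero_add] at hs
    have := congrArg (P.f · (Fr.e (ng c))) hs
    simp only [P.f_smul_left] at this
    rwa [gram h hN, orth1 Fr (a := b) (b := ng c) hc.symm, mul_one, mul_zero] at this
  refine ⟨P.f x (Fr.e (ng c)), ν, ?_⟩
  have e : x + P.f x (Fr.e (ng b)) • Fr.e b = P.f x (Fr.e (ng c)) • Fr.e c := by
    rw [← sub_eq_zero, ← Submodule.mem_bot F, ← hC.g1.v0 Fr, Frame.mem_V0]
    intro a
    rw [P.f_sub_left, P.f_add_left, P.f_smul_left, P.f_smul_left]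
    rcases idx_cases a c with rfl | rfl | h1
    · rw [hxc, orth1 Fr hc.symm, fs h]; ring
    · rw [gram h hN, orth1 Fr (a := b) (b := ng c) hc.symm]; ring
    · rw [orth1 Fr h1.symm]
      by_cases h2 : a = ng b
      · rw [h2, gram h hN, mul_one, fadd_self h]; ring
      · rw [key a h1 h2, Fr.orth b a h2]; ring
  rw [← e]
  exact H.shear h _

omit [Finite F] in
/-- Transfer from one frame vector to another. -/
theorem A_tr (hC : Ctx P φ L k t) (r2 : R2 L t) (hy : Y1 P φ L t 1 y) {c0 : F}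
    (ha : AddU P φ c0 y) (hN : Fr.Norm) (hp : MB P φ Fr t l1 b 1 p) {c a : BI k} (hc : c.1 ≠ b.1)
    (ha1 : a.1 ≠ b.1) (hca : c.1 ≠ a.1) {μ ν : F}
    (H : A P φ y p (Fr.e b) (Fr.e c) (μ • Fr.e c) ν) {s : F} (hs : s ≠ 0) :
    A P φ y p (Fr.e b) (s • Fr.e a) ((μ * s) • Fr.e a) 0 := by
  have h := hC.toSG
  obtain ⟨μ', ν', H'⟩ := A_fr hC r2 hy hN hp ha1 hs
  have o1 : P.f (Fr.e c) (Fr.e a) = 0 := orth1 Fr hca
  have o2 : P.f (Fr.e (ng c)) (s • Fr.e a) = 0 := by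
    rw [fr h, orth1 Fr (a := ng c) hca, mul_zero]
  have cm := hp.comS (ng c) a hca (ne_ng (a := ng c) hc) (ne_ng ha1) s
  have H1 := H.map0 h hy (eE_fix h (orth1 Fr (b := ng c) hc.symm)
    (by rw [fr h, orth1 Fr ha1.symm, mul_zero]) 0) cm
  rw [map_smul, Es_apply h o2, gram h hN, one_smul, fr h, o1, mul_zero, zero_smul, add_zero] at H1
  have H2 := H.add h hy ha hp.cent H' H1.1
  obtain ⟨e1, s', e2⟩ := H1.uniq h H2
  rw [fr h, fr h, P.f_smul_left, o1] at e1
  have e3 := congrArg (P.f · (Fr.e (ng a))) e2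
  simp only [P.f_smul_left, P.f_add_left] at e3
  rw [gram h hN, orth1 Fr (a := b) (b := ng a) ha1.symm, orth1 Fr (a := c) (b := ng a) hca] at e3
  have e4 : μ' = μ * s := by linear_combination e3 - (μ * s) * h.two
  have e5 : ν' = 0 := by linear_combination -e1
  rwa [e4, e5] at H'

omit [Finite F] in
/-- The action on all `y (r e_c) v`. -/
theorem A_all (hC : Ctx P φ L k t) (r2 : R2 L t) (hy : Y1 P φ L t 1 y) {c0 : F}
    (ha : AddU P φ c0 y) (hN : Fr.Norm) (hp : MB P φ Fr t l1 b 1 p) {c g : BI k} (hc : c.1 ≠ b.1)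
    (hg : g.1 ≠ b.1) (hcg : c.1 ≠ g.1) : ∃ γ : F, ∀ a : BI k, a.1 ≠ b.1 → ∀ s : F, s ≠ 0 →
      A P φ y p (Fr.e b) (s • Fr.e a) ((γ * s) • Fr.e a) 0 := by
  obtain ⟨γ, ν, H⟩ := A_fr hC r2 hy hN hp hc one_ne_zero
  rw [one_smul] at H
  refine ⟨γ, fun a h1 s hs => ?_⟩
  by_cases h2 : c.1 = a.1
  · have H' := A_tr hC r2 hy ha hN hp hc hg hcg H one_ne_zero
    rw [one_smul, mul_one] at H'
    exact A_tr hC r2 hy ha hN hp hg h1 (h2 ▸ hcg.symm) H' hs
  · exact A_tr hC r2 hy ha hN hp hc h1 h2 H hs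

omit [Finite F] [Finite G] in
theorem l1_eq (h : SG P φ L k) (hy : Y1 P φ L t 1 y) {c0 : F}
    (ha : AddU P φ c0 y) (hN : Fr.Norm) (hp : MB P φ Fr t l1 b 1 p) {c : BI k} (hc : c.1 ≠ b.1)
    {γ : F} (hγ : ∀ a : BI k, a.1 ≠ b.1 → ∀ s : F, s ≠ 0 →
      A P φ y p (Fr.e b) (s • Fr.e a) ((γ * s) • Fr.e a) 0) : l1 = 0 ∧ (γ = 0 ∨ γ = 1) := by
  have key : ∀ r : F, r ≠ 0 → l1 * r = (γ + γ * γ) * (r * r) := by
    intro r hr
    have hc' : (ng c).1 ≠ b.1 := hc
    have H := hγ c hc 1 one_ne_zero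
    rw [one_smul, mul_one] at H
    have H1 := H.map h hy (e := eE P (Fr.e (ng c)) 0 (r * r))
      (eE_fix h (orth1 Fr hc'.symm) (P.f_zero_right _) _)
      (by rw [fr h, orth1 Fr hc'.symm, mul_zero]) (hp.comT (ng c) (ne_ng hc') r)
    rw [map_smul, tv_apply h, gram h hN, mul_one] at H1
    have H2 := H.add h hy ha hp.cent (hγ (ng c) hc' (r * r) (mul_ne_zero hr hr)) H1.1
    have e := (H1.uniq h H2).1
    simp only [P.f_add_left, P.f_smul_left, fr h, gram h hN, fs h] at e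
    linear_combination e
  have k1 := key 1 one_ne_zero
  have k2 : γ + γ * γ = 0 := by
    by_cases h0 : γ = 0
    · rw [h0, mul_zero, add_zero]
    · refine mul_self_eq_zero.1 ?_
      linear_combination key γ h0 - γ * k1 + (γ + γ * γ) * (γ * γ) * h.two
  refine ⟨by rw [← mul_one l1, k1, k2, zero_mul], ?_⟩
  by_cases h0 : γ = 0
  · exact Or.inl h0
  · refine Or.inr (mul_left_cancel₀ h0 ?_)
    linear_combination k2 - γ * h.two

variable (P φ Fr t y b p) in
/-- The corrected mover. -/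
structure Gd : Prop where
  cent : p ∈ C[QW P φ {Fr.e b}]
  two : Is2 p
  mv : p * t * p⁻¹ = t * tv P φ (Fr.e b) 1
  comS : ∀ c e, c.1 ≠ e.1 → c ≠ ng b → e ≠ ng b → ∀ r : F,
    Commute p (Es P φ (Fr.e c) (r • Fr.e e))
  comT : ∀ c, c ≠ ng b → ∀ a : F, Commute p (tv P φ (Fr.e c) a)
  comY : ∀ c : BI k, c.1 ≠ b.1 → ∀ r : F, r ≠ 0 → Commute p (y (r • Fr.e c) (Fr.e b))

theorem exists_gd (hC : Ctx P φ L k t) (r2 : R2 L t) (hy : Y1 P φ L t 1 y) {c0 : F}
    (ha : AddU P φ c0 y) (hN : Fr.Norm) (hp : MB P φ Fr t l1 b 1 p) {c g : BI k} (hc : c.1 ≠ b.1)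
    (hg : g.1 ≠ b.1) (hcg : c.1 ≠ g.1) : ∃ p', Gd P φ t y p' Fr b := by
  have h := hC.toSG
  have tc := hC.tc
  obtain ⟨γ, hγ⟩ := A_all hC r2 hy ha hN hp hc hg hcg
  obtain ⟨rfl, h01⟩ := l1_eq h hy ha hN hp hc hγ
  have mv : p * t * p⁻¹ = t * tv P φ (Fr.e b) 1 := by rw [hp.mv, one_mul]
  have cT : ∀ c, c ≠ ng b → ∀ a : F, Commute p (tv P φ (Fr.e c) a) := by
    intro c hc a
    obtain ⟨r, rfl⟩ := sq_surj h a
    refine commutatorElement_eq_one_iff_commute.1 ?_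
    rw [hp.comT c hc r, zero_mul, zero_mul, zero_smul, Es_zero]
  rcases h01 with rfl | rfl
  · refine ⟨p, hp.cent, hp.two, mv, hp.comS, cT, fun a h1 r hr => ?_⟩
    have := (hγ a h1 r hr).2.2
    rw [zero_mul, zero_smul, ET_zero, one_mul] at this
    exact eq_mul_of_mul_inv_eq this
  · have hQL : ∀ q ∈ QW P φ {Fr.e b}, q ∈ L := by
      intro q hq
      obtain ⟨x, ν, -, rfl⟩ := (hC.g2.crdQ _ q).1 hq
      exact ET_mem h _ _ _
    have pτ : Commute p (tv P φ (Fr.e b) 1) := cQ hp.cent (P.f_zero_right _) 1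
    have tτ : Commute t (tv P φ (Fr.e b) 1) := t_comm h tc _
    refine ⟨p * t, mul_mem hp.cent fun q hq => tc.tc q (hQL q hq), ?_, ?_,
      fun c e h1 h2 h3 r => (hp.comS c e h1 h2 h3 r).mul_left (t_comm h tc _),
      fun c hc a => (cT c hc a).mul_left (t_comm h tc _), fun a h1 r hr => ?_⟩
    · obtain ⟨n, hn⟩ := hp.two
      refine ⟨n + 2, ?_⟩
      have e1 : (p * t) ^ 2 = tv P φ (Fr.e b) 1 * p ^ 2 := by
        have e0 : t * p * t = tv P φ (Fr.e b) 1 * p := by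
          rw [mul_assoc, p_t mv, ← mul_assoc, ← mul_assoc, tt tc, one_mul]
        rw [pow_two, pow_two, ← mul_assoc _ p p, ← pτ.eq, mul_assoc p _ p, ← e0]
        simp only [mul_assoc]
      rw [pow_add, mul_comm, pow_mul, show (2 : ℕ) ^ 2 = 2 * 2 from rfl, pow_mul, e1,
        (pτ.symm.pow_right 2).mul_pow, pow_two, tv_sq h, one_mul, ← pow_mul p 2 2, ← pow_mul,
        mul_comm, pow_mul, hn, one_pow]
    · rw [← mv]; group
    · obtain ⟨H, h0, e⟩ := hγ a h1 r hr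
      rw [one_mul] at e h0
      have e1 := hy.tact _ _ H
      have c1 := y_comm_ET hy h H (fs h _) h0 0
      have c2 := cQ hp.cent h0 0
      rw [Es_symm h] at e1
      refine eq_mul_of_mul_inv_eq ?_
      calc _ = p * (t * y (r • Fr.e a) (Fr.e b) * t⁻¹) * p⁻¹ := by group
        _ = (p * y (r • Fr.e a) (Fr.e b) * p⁻¹) * Es P φ (Fr.e b) (r • Fr.e a) := by
            rw [e1, mul_assoc (p * _), c2.inv_left.eq]; group
        _ = _ := by rw [e, ← c1.eq, mul_assoc, Es_sq h, mul_one]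

omit [Finite F] [Finite G] in
theorem Gd.comE (h : SG P φ L k) (g1 : G1 P k) (hN : Fr.Norm) (hp : Gd P φ t y p Fr b) {g : BI k}
    (hg : g ≠ ng b) {x : V} (hx : P.f x (Fr.e g) = 0) (hb : P.f x (Fr.e b) = 0) (ν : F) :
    Commute p (ET P φ (Fr.e g) x ν) := by
  have key : ∀ s : Finset (BI k), P.f (Fr.e g) (∑ a ∈ s, P.f x (Fr.e (ng a)) • Fr.e a) = 0 ∧
      ∀ ν, Commute p (ET P φ (Fr.e g) (∑ a ∈ s, P.f x (Fr.e (ng a)) • Fr.e a) ν) := by
    intro s
    induction s using Finset.induction_on with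
    | empty =>
      rw [Finset.sum_empty]
      exact ⟨P.f_zero_right _, hp.comT g hg⟩
    | insert a s has ih =>
      rw [Finset.sum_insert has]
      have h1 : P.f (Fr.e g) (P.f x (Fr.e (ng a)) • Fr.e a) = 0 ∧
          Commute p (Es P φ (Fr.e g) (P.f x (Fr.e (ng a)) • Fr.e a)) := by
        by_cases hab : a = ng b
        · rw [hab, ng_ng, hb, zero_smul, Es_zero]
          exact ⟨P.f_zero_right _, Commute.one_right p⟩
        rcases idx_cases a g with rfl | rfl | h2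
        · rw [Es_self h, fr h, fs h, mul_zero]
          exact ⟨rfl, Commute.one_right p⟩
        · rw [ng_ng, hx, zero_smul, Es_zero]
          exact ⟨P.f_zero_right _, Commute.one_right p⟩
        · exact ⟨by rw [fr h, orth1 Fr h2.symm, mul_zero], hp.comS g a h2.symm hg hab _⟩
      refine ⟨by rw [P.f_add_right, h1.1, ih.1, add_zero], fun ν => ?_⟩
      have := h1.2.mul_right (ih.2 (ν + P.f (P.f x (Fr.e (ng a)) • Fr.e a)
        (∑ a ∈ s, P.f x (Fr.e (ng a)) • Fr.e a)))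
      rwa [ET_mul h h1.1 ih.1, zero_add, add_assoc, fadd_self h, add_zero] at this
  rw [expand h g1 hN x]
  exact (key _).2 ν

omit [Finite F] [Finite G] in
/-- Every vector orthogonal to `v` and outside the line of `v` comes from a frame vector. -/
theorem Gd.reach (h : SG P φ L k) (g1 : G1 P k) (hN : Fr.Norm) (hp : Gd P φ t y p Fr b) {w : V}
    (H : I2 P w (Fr.e b)) : ∃ (c : BI k) (r : F) (e : P.E), c.1 ≠ b.1 ∧ r ≠ 0 ∧
      e.1 (Fr.e b) = Fr.e b ∧ Commute p (φ e) ∧ e.1 (r • Fr.e c) = w := by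
  obtain ⟨h0, -, hl⟩ := i2_iff.1 H
  have : ∃ c : BI k, c.1 ≠ b.1 ∧ P.f w (Fr.e (ng c)) ≠ 0 := by
    by_contra hn
    push Not at hn
    refine hl (P.f w (Fr.e (ng b))) ?_
    conv_rhs => rw [expand h g1 hN w]
    symm
    refine Finset.sum_eq_single b (fun a _ hab => ?_) fun hb => absurd (Finset.mem_univ b) hb
    rcases idx_cases a b with rfl | rfl | h2
    · exact absurd rfl hab
    · rw [ng_ng, h0, zero_smul]
    · rw [hn a h2, zero_smul]
  obtain ⟨c, hc, hr⟩ := this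
  set r := P.f w (Fr.e (ng c)) with hrd
  have hc' : (ng c).1 ≠ b.1 := hc
  have x1 : P.f (r⁻¹ • w + Fr.e c) (Fr.e (ng c)) = 0 := by
    rw [P.f_add_left, P.f_smul_left, gram h hN, ← hrd, inv_mul_cancel₀ hr, fadd_self h]
  have x2 : P.f (r⁻¹ • w + Fr.e c) (Fr.e b) = 0 := by
    rw [P.f_add_left, P.f_smul_left, h0, orth1 Fr hc, mul_zero, add_zero]
  refine ⟨c, r, eE P (Fr.e (ng c)) (r⁻¹ • w + Fr.e c) (P.f (Fr.e c) (r⁻¹ • w + Fr.e c)), hc, hr,
    eE_fix h (orth1 Fr hc'.symm) (PForm.f_symm_zero x2) _,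
    hp.comE h g1 hN (ne_ng hc') x1 x2 _, ?_⟩
  rw [map_smul, eE_apply h (PForm.f_symm_zero x1), gram h hN, one_smul, mul_one, fadd_self h,
    zero_smul, add_zero, add_comm (r⁻¹ • w), ← add_assoc, vadd_self h, zero_add, smul_smul,
    mul_inv_cancel₀ hr, one_smul]

omit [Finite F] [Finite G] in
theorem Gd.centY (h : LL P φ L k) (hN : Fr.Norm) (hp : Gd P φ t y p Fr b) :
    p ∈ C[YW P φ {Fr.e b}] := by
  rw [h.g2.gen, S2, centralizer_closure]
  rintro _ ⟨w, hw, a, rfl⟩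
  rw [Submodule.span_eq, PForm.mem_perp_span_singleton] at hw
  refine Commute.eq (Commute.symm ?_)
  by_cases hl : ∃ r : F, r • Fr.e b = w
  · obtain ⟨r, rfl⟩ := hl
    rw [tv_smul h.toSG]
    exact hp.comT b (ng_ne b).symm _
  · push Not at hl
    obtain ⟨c, r, e, hc, -, -, ce, rfl⟩ :=
      hp.reach h.toSG h.g1 hN (i2_iff.2 ⟨hw, Fr.e_ne_zero b, hl⟩)
    rw [← conj_tv h.toSG, tv_smul h.toSG]
    exact (ce.mul_right (hp.comT c (ne_ng hc) _)).mul_right ce.inv_right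

omit [Finite F] [Finite G] in
theorem Gd.comY' (h : LL P φ L k) (hy : Y1 P φ L t 1 y) (hN : Fr.Norm) (hp : Gd P φ t y p Fr b)
    {w : V} (H : I2 P w (Fr.e b)) : Commute p (y w (Fr.e b)) := by
  obtain ⟨c, r, e, hc, hr, he, ce, rfl⟩ := hp.reach h.toSG h.g1 hN H
  have := hy.conj _ _ (i2_fr h.toSG hN hc hr) e
  rw [he] at this
  rw [← this]
  exact (ce.mul_right (hp.comY c hc r hr)).mul_right ce.inv_right

variable (L t) in
/-- The elements of odd order of `C(L) ∩ C(t)`. -/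
def Od (o : G) : Prop := o ∈ C[L] ∧ Commute o t ∧ Odd (orderOf o)

omit [Finite F] [Finite G] in
theorem od_conj (hC : Ctx P φ L k t) {v : V} (hv : v ≠ 0) (hQ : p ∈ C[QW P φ {v}])
    (mv : p * t * p⁻¹ = t * tv P φ v 1) {o : G} (ho : Od L t o) : Od L t (p * o * p⁻¹) := by
  have h := hC.toSG
  have oo : Odd (orderOf (p * o * p⁻¹)) := by
    rw [(SemiconjBy.orderOf_eq p (x := o) (by simp [SemiconjBy])).symm]
    exact ho.2.2
  have pτ : Commute p (tv P φ v 1) := cQ hQ (P.f_zero_right _) 1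
  have oτ : Commute o (tv P φ v 1) := comm_of_C ho.1 (ET_mem h _ _ _)
  have ct : Commute (p * o * p⁻¹) t := by
    have c1 : Commute (p * o * p⁻¹) (p * t * p⁻¹) := ho.2.1.conj p
    rw [mv] at c1
    simpa using c1.mul_right ((pτ.mul_left oτ).mul_left pτ.inv_left).inv_right
  have cq : p * o * p⁻¹ ∈ C[QW P φ {v}] := by
    refine mul_mem (mul_mem hQ fun q hq => ho.1 q ?_) (inv_mem hQ)
    obtain ⟨x, ν, -, rfl⟩ := (hC.g2.crdQ _ q).1 hq
    exact ET_mem h _ _ _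
  obtain ⟨q, hq, κ, hκ, e⟩ :=
    hC.nf.cQ1 v hv _ ⟨hC.tc.cN (mem_centralizer_singleton_iff.2 ct.eq), cq⟩
  obtain ⟨x, ν, -, rfl⟩ := (hC.g2.crdQ _ q).1 hq
  refine ⟨?_, ct, oo⟩
  obtain ⟨j, hj⟩ := oo
  have e1 := pow_orderOf_eq_one (p * o * p⁻¹)
  rw [hj, e, (comm_of_C hκ (ET_mem h v x ν)).symm.mul_pow, pow_succ, pow_mul, pow_two, ET_sq h,
    one_pow, one_mul] at e1
  have e2 : ET P φ v x ν = 1 := zL hC.toLL (ET_mem h _ _ _) (by
    rw [eq_inv_of_mul_eq_one_left e1]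
    exact inv_mem (pow_mem hκ _))
  rwa [e, e2, one_mul]

variable (P φ L t p) in
/-- A conjugate of the mover under `L`. -/
structure Mov (v : V) (p' : G) : Prop where
  cent : ∀ e : P.E, e.1 v = v → Commute p' (φ e)
  mv : p' * t * p'⁻¹ = t * tv P φ v 1
  act : ∀ o, Od L t o → p' * o * p'⁻¹ = p * o * p⁻¹

omit [Finite F] [Finite G] in
theorem exists_mov (hC : Ctx P φ L k t) {v : V} (hv : v ≠ 0) (hY : p ∈ C[YW P φ {v}])
    (hQ : p ∈ C[QW P φ {v}]) (mv : p * t * p⁻¹ = t * tv P φ v 1) {u : V} (hu : u ≠ 0) :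
    ∃ p', Mov P φ L t p u p' := by
  have h := hC.toSG
  obtain ⟨e, he⟩ := hC.g1.witt (m := 1) (fun _ => v) (fun _ => u)
    (linearIndependent_unique_iff.2 hv) (linearIndependent_unique_iff.2 hu)
    fun _ _ => by rw [fs h, fs h]
  replace he : e.1 v = u := he 0
  have te := t_comm h hC.tc e
  refine ⟨φ e * p * (φ e)⁻¹, fun e' he' => ?_, ?_, fun o ho => ?_⟩
  · have c : Commute p (φ (e⁻¹ * e' * e)) := comm_of_C hY (mem_YW.2 ⟨_, by
      rintro _ rfl
      rw [emul, emul, he, he', ← he, einv_apply], rfl⟩)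
    have := c.conj (φ e)
    rwa [map_mul, map_mul, map_inv, show φ e * ((φ e)⁻¹ * φ e' * φ e) * (φ e)⁻¹ = φ e' by group]
      at this
  · calc _ = φ e * (p * ((φ e)⁻¹ * (t * φ e)) * p⁻¹) * (φ e)⁻¹ := by group
      _ = φ e * t * (φ e)⁻¹ * (φ e * tv P φ v 1 * (φ e)⁻¹) := by
          rw [te.eq, inv_mul_cancel_left, mv]; group
      _ = _ := by rw [conj_tv h, he, ← te.eq, mul_inv_cancel_right]
  · have c1 : Commute o (φ e) := comm_of_C ho.1 (φ_mem h e)
    have c2 : Commute (p * o * p⁻¹) (φ e) := comm_of_C (od_conj hC hv hQ mv ho).1 (φ_mem h e)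
    calc _ = φ e * (p * ((φ e)⁻¹ * (o * φ e)) * p⁻¹) * (φ e)⁻¹ := by group
      _ = _ := by rw [c1.eq, inv_mul_cancel_left, ← c2.eq, mul_inv_cancel_right]

omit [Finite F] in
/-- The mover commutes with the elements of odd order of `C(L) ∩ C(t)`. -/
theorem co (hC : Ctx P φ L k t) (r2 : R2 L t) (hy : Y1 P φ L t 1 y) {u v : V} (H : I2 P u v)
    (hY : p ∈ C[YW P φ {v}]) (hQ : p ∈ C[QW P φ {v}]) (two : Is2 p)
    (mv : p * t * p⁻¹ = t * tv P φ v 1) : CO L t p := by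
  have h := hC.toSG
  have tc := hC.tc
  obtain ⟨h0, hv, hl⟩ := i2_iff.1 H
  have hu : u ≠ 0 := fun e => hl 0 (by rw [e, zero_smul])
  have huv : u + v ≠ 0 := fun e => hl (-1) (by rw [neg_one_smul, eq_neg_of_add_eq_zero_left e])
  have h0' : P.f v u = 0 := PForm.f_symm_zero h0
  obtain ⟨p1, m1⟩ := exists_mov hC hv hY hQ mv hu
  obtain ⟨p2, m2⟩ := exists_mov hC hv hY hQ mv hv
  obtain ⟨p3, m3⟩ := exists_mov hC hv hY hQ mv huv
  have z := P.f_zero_right
  have a1 : P.f (u + v) u = 0 := by rw [P.f_add_left, fs h, h0', add_zero]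
  have a2 : P.f (u + v) v = 0 := by rw [P.f_add_left, fs h, h0, add_zero]
  have ct : Commute (p1 * p2 * p3 * y u v) t := by
    have c3 : Commute p3 (Es P φ v u) := m3.cent _ (eE_fix h a2 a1 0)
    have c2 : Commute p2 (tv P φ u 1) := m2.cent _ (eE_fix h h0' (z v) 1)
    have c2' : Commute p2 (tv P φ v 1) := m2.cent _ (eE_fix h (fs h v) (z v) 1)
    have c1 : Commute p1 (tv P φ u 1) := m1.cent _ (eE_fix h (fs h u) (z u) 1)
    have s3 : p3 * (t * Es P φ v u) = t * (tv P φ u 1 * tv P φ v 1) * p3 := by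
      rw [← mul_assoc, p_t m3.mv, mul_assoc _ p3, c3.eq, tv_add_vec h h0, one_smul, Es_symm h u v,
        ← mul_assoc, mul_assoc t, mul_assoc _ (Es P φ v u), Es_sq h, mul_one]
    have s2 : p2 * (t * (tv P φ u 1 * tv P φ v 1)) = t * tv P φ u 1 * p2 := by
      rw [← mul_assoc, p_t m2.mv, mul_assoc _ p2, (c2.mul_right c2').eq,
        (comm_tv_tv h h0 1 1).eq, ← mul_assoc, mul_assoc t, ← mul_assoc (tv P φ v 1), tv_sq h,
        one_mul]
    have s1 : p1 * (t * tv P φ u 1) = t * p1 := by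
      rw [← mul_assoc, p_t m1.mv, mul_assoc _ p1, c1.eq, ← mul_assoc, mul_assoc t, tv_sq h,
        mul_one]
    calc p1 * p2 * p3 * y u v * t = p1 * p2 * (p3 * (t * Es P φ v u)) * y u v := by
          rw [mul_assoc _ _ t, y_t hy h tc H]; simp only [mul_assoc]
      _ = p1 * (p2 * (t * (tv P φ u 1 * tv P φ v 1))) * p3 * y u v := by
          rw [s3]; simp only [mul_assoc]
      _ = p1 * (t * tv P φ u 1) * p2 * p3 * y u v := by rw [s2]; simp only [mul_assoc]
      _ = t * (p1 * p2 * p3 * y u v) := by rw [s1]; simp only [mul_assoc]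
  obtain ⟨e, κ, hκ, -, eq⟩ := hC.nf.cT _ (tc.cN (mem_centralizer_singleton_iff.2 ct.eq)) v hv
    fun c => (((m1.cent _ (eE_fix h h0 (z u) c)).mul_left
      (m2.cent _ (eE_fix h (fs h v) (z v) c))).mul_left
      (m3.cent _ (eE_fix h a2 (z _) c))).mul_left (y_comm_tv hy h H c)
  have κt : Commute κ t := by
    rw [eq_inv_mul_of_mul_eq eq.symm]
    exact (t_comm h tc _).symm.inv_left.mul_left ct
  have κo : ∀ o, Od L t o → Od L t (κ * o * κ⁻¹) := fun o ho =>
    ⟨mul_mem (mul_mem hκ ho.1) (inv_mem hκ), (κt.mul_left ho.2.1).mul_left κt.inv_left, by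
      rw [(SemiconjBy.orderOf_eq κ (x := o) (by simp [SemiconjBy])).symm]
      exact ho.2.2⟩
  have step : ∀ o, Od L t o → p ^ 3 * o * (p ^ 3)⁻¹ = κ * o * κ⁻¹ := by
    intro o ho
    have o1 := od_conj hC hv hQ mv ho
    have o2 := od_conj hC hv hQ mv o1
    have cy : Commute o (y u v) := hy.odd u v H o ho.1 ho.2.1 ho.2.2
    have ce : Commute (κ * o * κ⁻¹) (φ e) := comm_of_C (κo o ho).1 (φ_mem h e)
    calc _ = p * (p * (p * o * p⁻¹) * p⁻¹) * p⁻¹ := by
          rw [pow_three]; simp only [mul_inv_rev, mul_assoc]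
      _ = p1 * (p2 * (p3 * (y u v * o * (y u v)⁻¹) * p3⁻¹) * p2⁻¹) * p1⁻¹ := by
          rw [← cy.eq, mul_inv_cancel_right, m3.act o ho, m2.act _ o1, m1.act _ o2]
      _ = (p1 * p2 * p3 * y u v) * o * (p1 * p2 * p3 * y u v)⁻¹ := by group
      _ = φ e * (κ * o * κ⁻¹) * (φ e)⁻¹ := by rw [eq]; group
      _ = _ := by rw [← ce.eq, mul_inv_cancel_right]
  have iter : ∀ j : ℕ, ∀ o, Od L t o → (p ^ 3) ^ j * o * ((p ^ 3) ^ j)⁻¹ = κ ^ j * o * (κ ^ j)⁻¹ := by
    intro j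
    induction j with
    | zero => intro o _; simp
    | succ j ih =>
      intro o ho
      calc _ = (p ^ 3) ^ j * (p ^ 3 * o * (p ^ 3)⁻¹) * ((p ^ 3) ^ j)⁻¹ := by rw [pow_succ]; group
        _ = _ := by rw [step o ho, ih _ (κo o ho), pow_succ]; group
  intro o ho ot oo
  obtain ⟨m, hm, em⟩ := odd_pow r2 hκ κt
  have c : Commute o (κ ^ m) := by
    rcases em with em | em <;> rw [em]
    exacts [Commute.one_right o, ot]
  have e1 := iter m o ⟨ho, ot, oo⟩
  rw [← c.eq, mul_inv_cancel_right, ← pow_mul] at e1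
  exact comm_of_odd two (Odd.mul (by decide) hm) (eq_mul_of_mul_inv_eq e1).symm

end Main

/-- **C2A** -/
theorem c2a : C2aStmt.{u, v} := by
  intro F V _ _ _ _ _ G _ _ P φ L k t hC r2 c0 y hy _ ha Fr hN l1 hp
  have k3 := hC.k3
  obtain ⟨p, hp⟩ := hp (⟨0, by omega⟩, false) 1
  have hc : ((⟨1, by omega⟩, false) : BI k).1 ≠ ((⟨0, by omega⟩, false) : BI k).1 := by simp
  obtain ⟨p', h'⟩ := exists_gd hC r2 hy ha hN hp (g := (⟨2, by omega⟩, false)) hc (by simp)
    (by simp)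
  have hY := h'.centY hC.toLL hN
  exact ⟨_, Fr.e_ne_zero _, p', hY, h'.two, h'.mv,
    co hC r2 hy (i2_fr hC.toSG hN hc one_ne_zero) hY h'.cent h'.two h'.mv,
    fun w H => h'.comY' hC.toLL hy hN H⟩

end Cfsg.Agent.H64.SpC2
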