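import Cfsg.Agent.H97.XSBase

/-!
# Extraspecial subgroup of index `p`: the exponent in the unitary case (S5177, piece C2c)
-/

set_option autoImplicit false
set_option linter.unusedSectionVars false

namespace Cfsg.Agent.H64.XsC

open Cfsg Cfsg.FusionSystem Cfsg.Agent.H97 Cfsg.Agent.H98 Cfsg.Agent.H96 Cfsg.Agent.H5 Subgroup
open Cfsg.Agent.H97.XS
open scoped commutatorElement

universe u

variable {Ω : Type*} [Group Ω] {p : ℕ} [hp : Fact p.Prime] {S Q E : Subgroup Ω} [Finite S]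
  {F : FusionSystem S} {z : Ω}

theorem card_step {X : Type*} (P B : Subgroup Ω) [Finite P] (f : Ω → X) (T : Set X) [Finite T]
    (hf : ∀ x ∈ P, ∀ y ∈ P, f x = f y → x⁻¹ * y ∈ B) (hS : ∀ x ∈ P, f x ∈ T) :
    Nat.card P ≤ Nat.card T * Nat.card ↥(B ⊓ P) := by
  have ex : ∀ x : P, ∃ y ∈ P, f y = f x := fun x => ⟨x, x.2, rfl⟩
  classical
  haveI : Finite ↥(B ⊓ P) := finite_of_le (inf_le_right : B ⊓ P ≤ P)
  let r : X → Ω := fun c => if h : ∃ y ∈ P, f y = c then h.choose else 1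
  have hr : ∀ x : P, r (f x) ∈ P ∧ f (r (f x)) = f x := fun x => by
    simp only [r, dif_pos (ex x)]
    exact (ex x).choose_spec
  rw [← Nat.card_prod]
  refine Nat.card_le_card_of_injective (fun x => (⟨f x, hS x x.2⟩, ⟨(r (f x))⁻¹ * x,
    hf _ (hr x).1 _ x.2 (hr x).2, P.mul_mem (P.inv_mem (hr x).1) x.2⟩)) fun x y e => ?_
  have e1 : f x = f y := congrArg (fun p => p.1.1) e
  have e2 : (r (f x))⁻¹ * x = (r (f y))⁻¹ * y := congrArg (fun p => p.2.1) e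
  rw [e1] at e2
  exact Subtype.ext (mul_left_cancel e2)

theorem gen {a w : Ω} (ha : a ^ p = 1) (hw : w ∈ zpowers a) (h1 : w ≠ 1) : a ∈ zpowers w := by
  have a1 : a ≠ 1 := fun e => h1 (by simpa [e] using hw)
  have oa := orderOf_eq_prime ha a1
  have ow : orderOf w = p := by
    obtain ⟨n, rfl⟩ := hw
    exact orderOf_eq_prime (by
      simp only
      rw [← zpow_natCast, ← zpow_mul, mul_comm, zpow_mul, zpow_natCast, ha, one_zpow]) h1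
  haveI : Finite (zpowers a) := Nat.finite_of_card_ne_zero (by
    rw [Nat.card_zpowers, oa]; exact hp.out.ne_zero)
  have := eq_of_le_of_card_ge (zpowers_le.2 hw) (by rw [Nat.card_zpowers, Nat.card_zpowers, oa, ow])
  exact this.ge (mem_zpowers a)

theorem eq_one_of_sq (h2 : p ≠ 2) {a : Ω} (ha : a ^ p = 1) (h : a ^ 2 = 1) : a = 1 := by
  have := pow_gcd_eq_one.2 ⟨ha, h⟩
  rwa [(Nat.coprime_primes hp.out Nat.prime_two).2 h2, pow_one] at this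

theorem card_lt_pow (hS : IsPGroup p S) {A B : Subgroup Ω} (hB : B ≤ S) (h : A < B) {n : ℕ}
    (hn : p ^ n ≤ Nat.card A) : p ^ (n + 1) ≤ Nat.card B := by
  haveI := finite_of_le hB
  obtain ⟨k, hk⟩ := (hS.to_le hB).exists_card_eq
  have h1 : Nat.card A < Nat.card B :=
    lt_of_le_of_ne (card_le_of_le h.le) fun e => h.ne (eq_of_le_of_card_ge h.le e.ge)
  rw [hk] at h1 ⊢
  exact Nat.pow_le_pow_right hp.out.pos ((Nat.pow_lt_pow_iff_right hp.out.one_lt).1 (hn.trans_lt h1))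

/-- The hypotheses of the unitary case. -/
structure Cx (p : ℕ) {S : Subgroup Ω} (F : FusionSystem S) (Q E : Subgroup Ω) (z : Ω) : Prop
    extends Loc p F Q E z where
  out : Out2 F Q E z
  ab : ∀ x ∈ E, ∀ y ∈ E, Commute x y
  ex : ∀ x ∈ E, x ^ p = 1
  cS : Nat.card S = p ^ 6
  cE4 : Nat.card E = p ^ 4
  nrm : ∀ g ∈ S, ∀ x ∈ E, ⁅g, x⁆ ∈ E ⊓ Q
  an : ∀ β ∈ F.autGroup E, ext β z ∉ zpowers z →
    (∀ y ∈ Q, ⁅y, ⁅y, ext β z⁆⁆ = 1 → y ∈ E) ∧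
    (∀ y ∈ Q, ext β⁻¹ (⁅y, ⁅y, ext β z⁆⁆⁻¹ * ⁅y, ext β z⁆ ^ 2) ∈ Q)

/-- The image of `E ⊓ Q` under `β`. -/
def Hp (Q : Subgroup Ω) (β : MulAut E) : Subgroup Ω where
  carrier := {u | u ∈ E ∧ ext β⁻¹ u ∈ Q}
  one_mem' := ⟨E.one_mem, by rw [(homOn_ext _).map_one]; exact Q.one_mem⟩
  mul_mem' := fun {a b} ha hb => ⟨E.mul_mem ha.1 hb.1, by
    rw [(homOn_ext _).map_mul ha.1 hb.1]; exact Q.mul_mem ha.2 hb.2⟩
  inv_mem' := fun {a} ha => ⟨E.inv_mem ha.1, by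
    rw [(homOn_ext _).map_inv ha.1]; exact Q.inv_mem ha.2⟩

namespace Cx

variable (h : Cx p F Q E z)
include h

theorem xq : XQ p S Q z := h.toLoc.toXQ

theorem nE : S ≤ normalizer (E : Set Ω) := fun g hg => by
  haveI := finite_of_le h.ES
  refine mem_normalizer_of_conj_mem fun x hx => ?_
  rw [show g * x * g⁻¹ = ⁅g, x⁆ * x by rw [commutatorElement_def]; group]
  exact E.mul_mem (h.nrm g hg x hx).1 hx

theorem cA {g : Ω} (hg : g ∈ S) : conjAut E (h.nE hg) ∈ F.autGroup E :=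
  autInducedBy_le_autGroup F h.ES le_rfl (conjAut_mem_autInducedBy hg _)

theorem out' {β : MulAut E} (hβ : β ∈ F.autGroup E) {w : Ω} (hw : w ∈ zpowers z) (h1 : w ≠ 1)
    (e : ext β w ∈ Q) : ext β z ∈ zpowers z := by
  obtain ⟨n, hn⟩ := gen h.zp hw h1
  refine h.out β hβ ?_
  rw [← hn]
  simp only
  rw [(homOn_ext β).map_zpow (h.zleE hw)]
  exact Q.zpow_mem e n

theorem cardQ : Nat.card Q = p ^ 5 :=
  Nat.eq_of_mul_eq_mul_right hp.out.pos (by rw [h.xq.card_Q, h.cS, pow_succ])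

theorem cardH : Nat.card ↥(E ⊓ Q) = p ^ 3 := by
  have := H8.card_eq_card_mul_relIndex (inf_le_left : E ⊓ Q ≤ E)
  rw [h.idxH, h.cE4] at this
  exact Nat.eq_of_mul_eq_mul_right hp.out.pos (by rw [← this, pow_succ])

theorem orth {a : Ω} (ha : a ∈ Q) : ∃ y ∈ Q, y ∉ E ∧ ⁅y, a⁆ = 1 := by
  by_contra hc
  push Not at hc
  haveI := finite_of_le h.le
  haveI : Finite (zpowers z : Set Ω) := finite_of_le h.xq.zle
  have := card_step Q E (fun x => ⁅x, a⁆) (zpowers z) (fun x hx y hy e => by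
    by_contra h1
    refine hc _ (Q.mul_mem (Q.inv_mem hx) hy) h1 ?_
    rw [h.xq.comm_mul_left (Q.inv_mem hx) hy ha, h.xq.comm_inv_left hx ha, ← e, inv_mul_cancel])
    fun x hx => h.comm x hx a ha
  rw [h.cardQ, h.cardH, show Nat.card (zpowers z : Set Ω) = p from h.xq.card_z, ← pow_succ'] at this
  exact absurd ((Nat.pow_le_pow_iff_right hp.out.one_lt).1 this) (by omega)

theorem dec {e v : Ω} (he : e ∈ E) (hv : v ∈ E) (h1 : v ∉ Q) :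
    ∃ n : ℕ, ∃ a ∈ E ⊓ Q, v ^ n = a * e := by
  obtain ⟨q, hq, k, e1⟩ := h.xq.exists_eq (h.ES hv) h1 (h.ES he)
  have : q = e * (v ^ k)⁻¹ := by rw [e1, mul_inv_cancel_right]
  exact ⟨k, q⁻¹, ⟨E.inv_mem (this ▸ E.mul_mem he (E.inv_mem (E.pow_mem hv k))), Q.inv_mem hq⟩,
    by rw [e1, inv_mul_cancel_left]⟩

theorem bsym {e x y : Ω} (he : e ∈ E) (hx : x ∈ Q) (hy : y ∈ Q) : ⁅x, ⁅y, e⁆⁆ = ⁅y, ⁅x, e⁆⁆ := by
  have e1 := h.xq.invar hx hy (h.ES he)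
  rw [commutatorElement_eq_one_iff_commute.2 (h.ab _ (h.nrm x (h.le hx) e he).1 _
    (h.nrm y (h.le hy) e he).1)] at e1
  rw [← commutatorElement_inv ⁅x, e⁆ y, eq_comm, inv_eq_iff_mul_eq_one, e1]

theorem bb {e x y w : Ω} (he : e ∈ E) (hx : x ∈ Q) (hy : y ∈ Q) (hw : w ∈ Q) (s t : ℤ) :
    ⁅w, ⁅x ^ s * y ^ t, e⁆⁆ = ⁅w, ⁅x, e⁆⁆ ^ s * ⁅w, ⁅y, e⁆⁆ ^ t := by
  have k := (h.nrm w (h.le hw) e he).2
  rw [h.bsym he hw (Q.mul_mem (Q.zpow_mem hx s) (Q.zpow_mem hy t)),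
    h.xq.comm_mul_left (Q.zpow_mem hx s) (Q.zpow_mem hy t) k, h.xq.comm_zpow_left hx k,
    h.xq.comm_zpow_left hy k, h.bsym he hx hw, h.bsym he hy hw]

theorem rearr {φ w f a e : Ω} (b1 : φ ∈ E) (b2 : w ∈ E) (b3 : f ∈ E) (b4 : a ∈ E) (b5 : e ∈ E)
    (s : ℤ) : (φ * e) ^ s * (w * a) = w * f ^ s * (e ^ s * (a * (φ * f⁻¹) ^ s)) := by
  lift φ to E using b1
  lift w to E using b2
  lift f to E using b3
  lift a to E using b4
  lift e to E using b5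
  letI : CommGroup E := { mul_comm := fun x y => Subtype.ext (h.ab x x.2 y y.2) }
  refine congrArg Subtype.val (show (φ * e) ^ s * (w * a) =
    w * f ^ s * (e ^ s * (a * (φ * f⁻¹) ^ s)) from ?_)
  rw [mul_zpow, mul_zpow, inv_zpow, mul_assoc w, mul_left_comm (f ^ s), mul_left_comm (f ^ s),
    mul_left_comm (f ^ s), mul_inv_cancel, mul_one]
  ac_rfl

section Mv

variable {β : MulAut E} (hβ : β ∈ F.autGroup E) (hm : ext β z ∉ zpowers z)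
include hβ hm

theorem eQ : ext β z ∉ Q := fun e => hm (h.out β hβ e)

theorem bgen {y : Ω} (hy : y ∈ Q) (h1 : y ∉ E) {c : Ω} (hc : c ∈ zpowers z) :
    ∃ n : ℤ, ⁅y, ⁅y, ext β z⁆⁆ ^ n = c :=
  zpowers_le.2 (gen h.zp (h.comm y hy _ (h.nrm y (h.le hy) _ (ext_mem β h.zE)).2)
    fun e => h1 ((h.an β hβ hm).1 y hy e)) hc

theorem pair : ∃ y₁ ∈ Q, ∃ y₂ ∈ Q, y₁ ∉ E ∧ y₂ ∉ E ∧ ⁅y₂, ⁅y₁, ext β z⁆⁆ = 1 := by
  obtain ⟨y₁, h1, h2, -⟩ := h.orth Q.one_mem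
  obtain ⟨y₂, h3, h4, h5⟩ := h.orth (h.nrm y₁ (h.le h1) _ (ext_mem β h.zE)).2
  exact ⟨y₁, h1, y₂, h3, h2, h4, h5⟩

theorem onto {a : Ω} (ha : a ∈ E ⊓ Q) : ∃ y ∈ Q, ⁅y, ext β z⁆⁻¹ * a ∈ zpowers z := by
  have eE := ext_mem β h.zE
  obtain ⟨y₁, h1, y₂, h2, n1, n2, o⟩ := h.pair hβ hm
  obtain ⟨s, hs⟩ := h.bgen hβ hm h1 n1 (h.comm y₁ h1 a ha.2)
  obtain ⟨t, ht⟩ := h.bgen hβ hm h2 n2 (h.comm y₂ h2 a ha.2)
  have hy := Q.mul_mem (Q.zpow_mem h1 s) (Q.zpow_mem h2 t)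
  have k := h.nrm _ (h.le hy) _ eE
  have k' := mul_mem (inv_mem k) ha
  refine ⟨_, hy, h.cen _ k'.2 fun x hx => ?_⟩
  set a' := ⁅y₁ ^ s * y₂ ^ t, ext β z⁆⁻¹ * a
  have c : ∀ y ∈ Q, ⁅y, ⁅y₁ ^ s * y₂ ^ t, ext β z⁆⁆ = ⁅y, a⁆ → y ∈ centralizer {a'} :=
    fun y hy e => by
      rw [mem_centralizer_singleton_iff]
      refine commutatorElement_eq_one_iff_commute.1 ?_
      rw [h.xq.comm_mul_right (Q.inv_mem k.2) ha.2 hy, h.xq.comm_inv_right k.2 hy, e,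
        inv_mul_cancel]
  have c1 := c y₁ h1 (by rw [h.bb eE h1 h2 h1, h.bsym eE h1 h2, o, one_zpow, mul_one, hs])
  have c2 := c y₂ h2 (by rw [h.bb eE h1 h2 h2, o, one_zpow, one_mul, ht])
  have k1 := h.nrm _ (h.le h1) _ eE
  have l1 : E ⊓ Q < Q ⊓ centralizer {a'} ⊓ centralizer {⁅y₁, ext β z⁆} :=
    lt_of_le_of_ne (fun u hu => ⟨⟨hu.2, mem_centralizer_singleton_iff.2 (h.ab u hu.1 _ k'.1)⟩,
      mem_centralizer_singleton_iff.2 (h.ab u hu.1 _ k1.1)⟩) fun e =>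
      n2 (e.ge ⟨⟨h2, c2⟩, mem_centralizer_singleton_iff.2
        (commutatorElement_eq_one_iff_commute.1 o)⟩).1
  have l2 : Q ⊓ centralizer {a'} ⊓ centralizer {⁅y₁, ext β z⁆} < Q ⊓ centralizer {a'} :=
    lt_of_le_of_ne inf_le_left fun e => n1 ((h.an β hβ hm).1 y₁ h1
      (commutatorElement_eq_one_iff_commute.2
        (mem_centralizer_singleton_iff.1 (e.ge ⟨h1, c1⟩).2)))
  have l3 := card_lt_pow h.pS (inf_le_left.trans h.le) l2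
    (card_lt_pow h.pS ((inf_le_left.trans inf_le_left).trans h.le) l1 h.cardH.ge)
  haveI := finite_of_le h.le
  have l4 := eq_of_le_of_card_ge (inf_le_left : Q ⊓ centralizer {a'} ≤ Q) (h.cardQ.le.trans l3)
  exact (mem_centralizer_singleton_iff.1 (l4.ge hx).2).symm

theorem univ {c : Ω} (hc : c ∈ zpowers z) : ∃ y ∈ Q, ⁅y, ⁅y, ext β z⁆⁆ = c := by
  have eE := ext_mem β h.zE
  obtain ⟨y₁, h1, y₂, h2, n1, n2, o⟩ := h.pair hβ hm
  have m1 := h.comm y₁ h1 _ (h.nrm y₁ (h.le h1) _ eE).2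
  obtain ⟨k, hk⟩ := h.bgen hβ hm h1 n1 (h.comm y₂ h2 _ (h.nrm y₂ (h.le h2) _ eE).2)
  obtain ⟨n, rfl⟩ := h.bgen hβ hm h1 n1 hc
  have o1 : orderOf ⁅y₁, ⁅y₁, ext β z⁆⁆ = p :=
    orderOf_eq_prime (h.xq.zpow_eq_one m1) fun e => n1 ((h.an β hβ hm).1 y₁ h1 e)
  have k0 : (k : ZMod p) ≠ 0 := fun e => n2 ((h.an β hβ hm).1 y₂ h2 (by
    rw [← hk, ← orderOf_dvd_iff_zpow_eq_one, o1]
    exact (ZMod.intCast_zmod_eq_zero_iff_dvd k p).1 e))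
  obtain ⟨a, b, e⟩ := FiniteField.exists_root_sum_quadratic (R := ZMod p)
    (f := Polynomial.X ^ 2 - Polynomial.C (n : ZMod p))
    (g := Polynomial.C (k : ZMod p) * Polynomial.X ^ 2)
    (Polynomial.degree_X_pow_sub_C (by norm_num) _) (Polynomial.degree_C_mul_X_pow 2 k0)
    (by rw [ZMod.card]; exact hp.out.eq_two_or_odd.resolve_left h.odd)
  obtain ⟨s, rfl⟩ := ZMod.intCast_surjective a
  obtain ⟨t, rfl⟩ := ZMod.intCast_surjective b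
  have hy := Q.mul_mem (Q.zpow_mem h1 s) (Q.zpow_mem h2 t)
  refine ⟨_, hy, ?_⟩
  rw [h.bb eE h1 h2 hy, h.bsym eE hy h1, h.bsym eE hy h2, h.bb eE h1 h2 h1, h.bb eE h1 h2 h2,
    h.bsym eE h1 h2, o, one_zpow, one_zpow, mul_one, one_mul, ← hk, ← zpow_mul, ← zpow_mul,
    ← zpow_mul, ← zpow_add, zpow_eq_zpow_iff_modEq, o1, ← ZMod.intCast_eq_intCast_iff]
  simp only [Polynomial.eval_sub, Polynomial.eval_pow, Polynomial.eval_X, Polynomial.eval_C,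
    Polynomial.eval_mul] at e
  push_cast
  linear_combination e

theorem half {y : Ω} (hy : y ∈ Q) : ∃ f ∈ zpowers z, f ^ 2 = ⁅y, ⁅y, ext β z⁆⁆ ∧
    ⁅y, ext β z⁆ * f⁻¹ ∈ Hp Q β := by
  have k := h.nrm y (h.le hy) _ (ext_mem β h.zE)
  have m := h.comm y hy _ k.2
  obtain ⟨n, hn⟩ : ∃ n, 2 * n = p + 1 := by
    have := hp.out.eq_two_or_odd.resolve_left h.odd
    exact ⟨(p + 1) / 2, by omega⟩
  have c := h.ab _ (h.zleE m) _ k.1
  refine ⟨_, pow_mem m n, by rw [← pow_mul, mul_comm, hn, pow_succ, h.xq.zpow_eq_one m, one_mul], ?_⟩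
  have := (Hp Q β).pow_mem (x := ⁅y, ⁅y, ext β z⁆⁆⁻¹ * ⁅y, ext β z⁆ ^ 2)
    ⟨E.mul_mem (E.inv_mem (h.zleE m)) (E.pow_mem k.1 2), (h.an β hβ hm).2 y hy⟩ n
  rwa [(c.inv_left.pow_right 2).mul_pow, ← pow_mul, hn, pow_succ, h.ex _ k.1, one_mul, inv_pow,
    (c.pow_left n).inv_left.eq] at this

theorem eHp : zpowers (ext β z) ≤ Hp Q β :=
  zpowers_le.2 ⟨ext_mem β h.zE, by rw [ext_inv_ext]; exact h.zQ⟩

theorem zHp {w : Ω} (hw : w ∈ zpowers z) (e : w ∈ Hp Q β) : w = 1 := by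
  by_contra h1
  have := h.inv_mem (h.out' (Subgroup.inv_mem _ hβ) hw h1 e.2)
  rw [inv_inv] at this
  exact hm this

theorem eQ' {w : Ω} (hw : w ∈ zpowers (ext β z)) (e : w ∈ Q) : w = 1 := by
  by_contra h1
  exact h.eQ hβ hm (zpowers_le.2 e (gen (h.ext_pow β) hw h1))

theorem cj_e {y a : Ω} (hy : y ∈ Q) (ha : ⁅y, ext β z⁆⁻¹ * a ∈ zpowers z) :
    ∃ c ∈ zpowers z, a * ext β z = c * (y * ext β z * y⁻¹) := by
  refine ⟨_, ha, ?_⟩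
  rw [show y * ext β z * y⁻¹ = ⁅y, ext β z⁆ * ext β z by rw [commutatorElement_def]; group,
    ← mul_assoc, (h.xq.zcomm ha (h.le (h.nrm y (h.le hy) _ (ext_mem β h.zE)).2)).eq,
    mul_inv_cancel_left]

theorem trans {γ : MulAut E} (hγ : γ ∈ F.autGroup E) (hg : ext γ z ∉ zpowers z) :
    ∃ x ∈ Q, x * ext γ z * x⁻¹ ∈ zpowers (ext β z) := by
  have eE := ext_mem β h.zE
  obtain ⟨n, a, ha, e⟩ := h.dec eE (ext_mem γ h.zE) (h.eQ hγ hg)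
  obtain ⟨y, hy, e1⟩ := h.onto hβ hm ha
  obtain ⟨c, hc, e2⟩ := h.cj_e hβ hm hy e1
  obtain ⟨y₁, h1, e3⟩ := h.univ hβ hm (pow_mem (inv_mem hc) 2)
  obtain ⟨f, hf, e4, e5⟩ := h.half hβ hm h1
  have cf := h.xq.zcomm hc (h.le (h.xq.zle hf))
  obtain rfl : f = c⁻¹ := eq_inv_of_mul_eq_one_right (eq_one_of_sq h.odd
    (h.xq.zpow_eq_one (mul_mem hc hf)) (by rw [cf.mul_pow, e4, e3, inv_pow, mul_inv_cancel]))
  have hx := Q.mul_mem h1 (Q.inv_mem hy)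
  refine ⟨_, hx, ?_⟩
  have z1 : z ^ n ≠ 1 := fun e0 => by
    rw [← (homOn_ext γ).map_pow h.zE, e0, (homOn_ext γ).map_one] at e
    exact h.eQ hβ hm (by rw [eq_inv_of_mul_eq_one_right e.symm]; exact Q.inv_mem ha.2)
  have := h.out' (β := β⁻¹ * (conjAut E (h.nE (h.le hx)) * γ))
    (mul_mem (inv_mem hβ) (mul_mem (h.cA (h.le hx)) hγ)) (pow_mem (mem_zpowers z) n) z1 (by
      rw [ext_mul, ext_mul, ext_conjAut _ (ext_mem γ (E.pow_mem h.zE n)),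
        (homOn_ext γ).map_pow h.zE, e, e2]
      have e6 : y₁ * y⁻¹ * (c * (y * ext β z * y⁻¹)) * (y₁ * y⁻¹)⁻¹ =
          ⁅y₁, ext β z⁆ * c⁻¹⁻¹ * ext β z := by
        rw [← mul_assoc, ← (h.xq.zcomm hc (h.le hx)).eq, inv_inv,
          ← (h.xq.zcomm hc (h.le (h.nrm y₁ (h.le h1) _ eE).2)).eq, commutatorElement_def]
        group
      rw [e6]
      exact ((Hp Q β).mul_mem e5 (h.eHp hβ hm (mem_zpowers _))).2)
  rw [ext_mul, ext_mul, ext_conjAut _ (ext_mem γ h.zE)] at this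
  have e7 := Loc.ext_zpowers (β := β) h.zE (mem_zpowers _) this
  rwa [ext_ext_inv] at e7

theorem fixH {δ : MulAut E} (hδ : δ ∈ F.autGroup E) (hz : ext δ z ∈ zpowers z) {x : Ω}
    (hx : x ∈ E) (hQ : x ∈ Q) : ext δ x ∈ Q := by
  by_contra h1
  have eE := ext_mem β h.zE
  obtain ⟨n, a, ha, e⟩ := h.dec eE (ext_mem δ hx) h1
  obtain ⟨y, hy, e1⟩ := h.onto hβ hm ha
  obtain ⟨c, hc, e2⟩ := h.cj_e hβ hm hy e1
  have m1 : a * ext β z ∈ Hp Q δ :=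
    e ▸ (Hp Q δ).pow_mem (x := ext δ x) ⟨ext_mem δ hx, by rw [ext_inv_ext]; exact hQ⟩ n
  have m2 : c ∈ Hp Q δ := ⟨h.zleE hc, h.xq.zle (Loc.ext_zpowers h.zE (h.inv_mem hz) hc)⟩
  rw [e2, mul_mem_cancel_left m2] at m1
  have := h.out (δ⁻¹ * (conjAut E (h.nE (h.le hy)) * β))
    (mul_mem (inv_mem hδ) (mul_mem (h.cA (h.le hy)) hβ)) (by
      rw [ext_mul, ext_mul, ext_conjAut _ eE]; exact m1.2)
  rw [ext_mul, ext_mul, ext_conjAut _ eE] at this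
  have e7 := Loc.ext_zpowers (β := δ) h.zE hz this
  rw [ext_ext_inv] at e7
  have e8 := (h.xq.zcomm e7 (h.le hy)).eq
  rw [mul_assoc, inv_mul_cancel, mul_one, mul_right_inj] at e8
  exact hm (e8 ▸ e7)

/-- The conjugates by `β` of the inner automorphisms from `Q`. -/
theorem trans' {γ γ' : MulAut E} (hγ : γ ∈ F.autGroup E) (hγ' : γ' ∈ F.autGroup E)
    (hg : ext γ z ∉ zpowers (ext β z)) (hg' : ext γ' z ∉ zpowers (ext β z)) :
    ∃ τ ∈ F.autGroup E, ext τ (ext γ z) ∈ zpowers (ext γ' z) ∧ ext τ (ext β z) = ext β z ∧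
      (∀ u ∈ E, ext τ u ∈ Hp Q β → u ∈ Hp Q β) ∧
      ∀ u ∈ Hp Q β, ∃ w ∈ zpowers (ext β z), ext τ u = w * u := by
  have k : ∀ γ : MulAut E, ext γ z ∉ zpowers (ext β z) → ext (β⁻¹ * γ) z ∉ zpowers z :=
    fun γ hg e => hg (by
      have := Loc.ext_zpowers (β := β) h.zE (mem_zpowers _) e
      rwa [ext_mul, ext_ext_inv] at this)
  obtain ⟨x, hx, e⟩ := h.trans (mul_mem (inv_mem hβ) hγ') (k γ' hg') (mul_mem (inv_mem hβ) hγ)
    (k γ hg)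
  have t : ∀ u ∈ E, ext (β * conjAut E (h.nE (h.le hx)) * β⁻¹) u = ext β (x * ext β⁻¹ u * x⁻¹) :=
    fun u hu => by rw [ext_mul, ext_mul, ext_conjAut _ (ext_mem _ hu)]
  refine ⟨_, mul_mem (mul_mem hβ (h.cA (h.le hx))) (inv_mem hβ), ?_, ?_, fun u hu e => ⟨hu, ?_⟩,
    fun u hu => ?_⟩
  · rw [t _ (ext_mem γ h.zE), ← ext_mul β⁻¹]
    refine Loc.ext_zpowers (ext_mem _ h.zE) ?_ e
    rw [ext_mul, ext_ext_inv]
    exact mem_zpowers _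
  · rw [t _ (ext_mem β h.zE), ext_inv_ext, ← (h.zc x (h.le hx)).eq, mul_inv_cancel_right]
  · have := e.2
    rw [t u hu, ext_inv_ext] at this
    simpa [mul_assoc] using Q.mul_mem (Q.mul_mem (Q.inv_mem hx) this) hx
  · refine ⟨_, Loc.ext_zpowers h.zE (mem_zpowers _) (h.comm x hx _ hu.2), ?_⟩
    rw [t u hu.1, show x * ext β⁻¹ u * x⁻¹ = ⁅x, ext β⁻¹ u⁆ * ext β⁻¹ u by
      rw [commutatorElement_def]; group, (homOn_ext β).map_mul (h.zleE (h.comm x hx _ hu.2))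
      (ext_mem _ hu.1), ext_ext_inv]

theorem refl {y : Ω} (hy : y ∈ Q) (h1 : y ∉ E) {f : Ω} (hf : f ∈ zpowers z)
    (h0 : ⁅y, ext β z⁆ * f⁻¹ ∈ Hp Q β) : ∃ m ∈ F.autGroup E, ext m z ∈ zpowers (ext β z) ∧
      ext m (ext β z) ∈ zpowers z ∧ ∀ a ∈ Q, a ∈ Hp Q β → ∃ s : ℤ, ⁅y, a⁆ * f ^ s = 1 ∧
        ext m a = a * (⁅y, ext β z⁆ * f⁻¹) ^ s := by
  have eE := ext_mem β h.zE
  have k : ∀ y (hy : y ∈ Q), y ∉ E → ext (conjAut E (h.nE (h.le hy)) * β) z ∉ zpowers (ext β z) :=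
    fun y hy h1 e => by
      rw [ext_mul, ext_conjAut _ eE] at e
      refine h1 ((h.an β hβ hm).1 y hy ?_)
      rw [h.eQ' hβ hm (w := ⁅y, ext β z⁆) (mul_mem e (inv_mem (mem_zpowers _)))
        (h.nrm y (h.le hy) _ eE).2, commutatorElement_one_right]
  have k1 : ext (1 : MulAut E) z ∉ zpowers (ext β z) := fun e =>
    hm (by simpa only [ext_one] using h.ext_symm e)
  obtain ⟨τ, hτ, t1, t2, t3, t4⟩ := h.trans' hβ hm (mul_mem (h.cA (h.le hy)) hβ) (one_mem _)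
    (k y hy h1) k1
  obtain ⟨υ, hυ, u1, u2, -, u4⟩ := h.trans' hβ hm (one_mem _)
    (mul_mem (h.cA (h.le (Q.inv_mem hy))) hβ) k1 (k _ (Q.inv_mem hy) fun e => h1 (by simpa using e))
  rw [ext_one] at t1 u1
  rw [ext_mul] at t1
  have hM := mul_mem hτ (mul_mem (h.cA (h.le hy)) hυ)
  have m1 : ext (τ * (conjAut E (h.nE (h.le hy)) * υ)) z ∈ zpowers (ext β z) := by
    rw [ext_mul, ext_mul]
    refine Loc.ext_zpowers eE (t2.symm ▸ mem_zpowers _) (Loc.ext_zpowers (ext_mem _ h.zE) ?_ u1)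
    rw [ext_mul, ext_conjAut _ eE, ext_conjAut _ (H96.conj_mem_of_mem_normalizer
      (h.nE (h.le (Q.inv_mem hy))) eE)]
    simp [mul_assoc]
  have m2 : ext (τ * (conjAut E (h.nE (h.le hy)) * υ)) (ext β z) ∈ zpowers z := by
    rw [ext_mul, ext_mul, u2]
    exact t1
  refine ⟨_, hM, m1, m2, fun a ha ha' => ?_⟩
  have q1 : ext (τ * (conjAut E (h.nE (h.le hy)) * υ)) a ∈ Q := by
    have := h.fixH hβ hm (mul_mem hM hβ) (by rw [ext_mul]; exact m2) (ext_mem _ ha'.1) ha'.2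
    rwa [ext_mul, ext_ext_inv] at this
  have q2 : ext (τ * (conjAut E (h.nE (h.le hy)) * υ)) a ∈ Hp Q β := by
    refine ⟨ext_mem _ ha'.1, ?_⟩
    rw [← ext_mul]
    refine h.fixH hβ hm (mul_mem (inv_mem hβ) hM) ?_ ha'.1 ha
    rw [ext_mul]
    exact Loc.ext_zpowers eE (by rw [ext_inv_ext]; exact mem_zpowers z) m1
  obtain ⟨_, ⟨s, rfl⟩, e⟩ := u4 a ha'
  simp only at e
  have e1 : ext (conjAut E (h.nE (h.le hy)) * υ) a =
      ⁅y, a⁆ * f ^ s * (ext β z ^ s * (a * (⁅y, ext β z⁆ * f⁻¹) ^ s)) := by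
    rw [ext_mul, ext_conjAut _ (ext_mem _ ha'.1), e,
      show y * (ext β z ^ s * a) * y⁻¹ = (y * ext β z * y⁻¹) ^ s * (y * a * y⁻¹) by
        rw [conj_zpow]; group,
      show y * ext β z * y⁻¹ = ⁅y, ext β z⁆ * ext β z by rw [commutatorElement_def]; group,
      show y * a * y⁻¹ = ⁅y, a⁆ * a by rw [commutatorElement_def]; group]
    exact h.rearr (h.nrm y (h.le hy) _ eE).1 (h.zleE (h.comm y hy a ha)) (h.zleE hf) ha'.1 eE s
  have m3 : ext β z ^ s * (a * (⁅y, ext β z⁆ * f⁻¹) ^ s) ∈ Hp Q β :=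
    mul_mem (h.eHp hβ hm (zpow_mem (mem_zpowers _) s)) (mul_mem ha' (zpow_mem h0 s))
  rw [ext_mul] at q1 q2 ⊢
  have q3 := t3 _ (ext_mem _ ha'.1) q2
  rw [e1, mul_mem_cancel_right m3] at q3
  have e2 := h.zHp hβ hm (mul_mem (h.comm y hy a ha) (zpow_mem hf s)) q3
  rw [e2, one_mul] at e1
  obtain ⟨w, hw, e3⟩ := t4 _ m3
  rw [e1, e3, ← mul_assoc] at q1 ⊢
  rw [mul_mem_cancel_right (Q.mul_mem ha (Q.zpow_mem (Q.mul_mem (h.nrm y (h.le hy) _ eE).2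
    (Q.inv_mem (h.xq.zle hf))) s))] at q1
  exact ⟨s, e2, by rw [h.eQ' hβ hm (mul_mem hw (zpow_mem (mem_zpowers _) s)) q1, one_mul]⟩

theorem rk2 : Rk2 Q z (ext β z) := by
  have eE := ext_mem β h.zE
  obtain ⟨y₁, h1, y₂, h2, n1, n2, o⟩ := h.pair hβ hm
  refine ⟨y₁, h1, y₂, h2, fun e => n1 ((h.an β hβ hm).1 y₁ h1 (h.xq.comm_z_right e (h.le h1))),
    fun e => n2 ((h.an β hβ hm).1 y₂ h2 ?_)⟩
  have : zpowers z ⊔ zpowers ⁅y₁, ext β z⁆ ≤ centralizer {y₂} := sup_le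
    (zpowers_le.2 (mem_centralizer_singleton_iff.2 (h.zc _ (h.le h2))))
    (zpowers_le.2 (mem_centralizer_singleton_iff.2 (commutatorElement_eq_one_iff_commute.1 o).symm))
  exact commutatorElement_eq_one_iff_commute.2 (mem_centralizer_singleton_iff.1 (this e)).symm

theorem extend {δ : MulAut E} (hδ : δ ∈ F.autGroup E) (hz : ext δ z ∈ zpowers z) :
    ∃ σ, HomOn S σ ∧ (∀ x ∈ Q, σ x ∈ Q) ∧ ∀ x ∈ E, σ x = ext δ x := by
  haveI := finite_of_le h.ES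
  let X : Set (MulAut E) := {α | α ∈ F.autGroup E ∧ (∀ x ∈ E, x⁻¹ * ext α x ∈ E ⊓ Q) ∧
    (∀ x ∈ E, x ∈ E ⊓ Q → x⁻¹ * ext α x ∈ zpowers z) ∧
    ∀ x ∈ E, x ∈ zpowers z → x⁻¹ * ext α x ∈ (⊥ : Subgroup Ω)}
  have hX : IsPGroup p (closure X) := UniChain.isPGroup (h.pS.to_le h.ES)
    (.step (.step (.step .bot bot_le fun α hα => hα.2.2.2) (le_inf h.zleE h.xq.zle)
      fun α hα => hα.2.2.1) inf_le_left fun α hα x hx _ => hα.2.1 x hx) le_rfl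
  have key : ∀ δ ∈ F.autGroup E, ext δ z ∈ zpowers z → ∀ c ∈ autInducedBy S E, δ * c * δ⁻¹ ∈ X := by
    intro δ hδ hz c hc
    obtain ⟨g, hg, e⟩ := mem_autInducedBy_iff.1 hc
    have t : ∀ x ∈ E, x⁻¹ * ext (δ * c * δ⁻¹) x = ext δ ⁅g, ext δ⁻¹ x⁆ := fun x hx => by
      have b := h.nrm g hg _ (ext_mem δ⁻¹ hx)
      rw [ext_mul, ext_mul, e _ (ext_mem _ hx), show g * ext δ⁻¹ x * g⁻¹ =
        ⁅g, ext δ⁻¹ x⁆ * ext δ⁻¹ x by rw [commutatorElement_def]; group,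
        (homOn_ext δ).map_mul b.1 (ext_mem _ hx), ext_ext_inv, (h.ab _ (ext_mem δ b.1) x hx).eq,
        inv_mul_cancel_left]
    refine ⟨mul_mem (mul_mem hδ (autInducedBy_le_autGroup F h.ES le_rfl hc)) (inv_mem hδ),
      fun x hx => ?_, fun x hx hx' => ?_, fun x hx hx' => ?_⟩ <;> rw [t x hx]
    · have b := h.nrm g hg _ (ext_mem δ⁻¹ hx)
      exact ⟨ext_mem δ b.1, h.fixH hβ hm hδ hz b.1 b.2⟩
    · have b := h.fixH hβ hm (inv_mem hδ) (h.inv_mem hz) hx hx'.2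
      refine Loc.ext_zpowers h.zE hz ?_
      rw [← commutatorElement_inv]
      exact inv_mem (h.xq.comm_mem_z b (h.ES (ext_mem β h.zE)) (h.eQ hβ hm) (by
        rw [commutatorElement_eq_one_iff_commute.2 (h.ab _ (ext_mem _ hx) _ (ext_mem β h.zE))]
        exact one_mem _) hg)
    · rw [h.xq.comm_z_right (Loc.ext_zpowers h.zE (h.inv_mem hz) hx') hg, (homOn_ext δ).map_one]
      exact one_mem _
  have e := h.syl.eq_of_le ((closure_le _).2 fun α hα => hα.1) hX fun c hc => subset_closure (by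
    simpa using key 1 (one_mem _) (by rw [ext_one]; exact mem_zpowers z) c hc)
  obtain ⟨σ, hσ, eσ⟩ := exists_ext_normalizerIn h.pS h.sat h.ess.1 hδ
    fun c hc => e ▸ subset_closure (key δ hδ hz c hc)
  rw [show normalizerIn S E = S from inf_eq_left.2 h.nE] at hσ
  exact ⟨σ, hσ.mor.homOn, h.xq.char hσ.mor.homOn hσ.mor.injOn hσ.mem (h.ES (ext_mem β h.zE))
    (h.rk2 hβ hm), eσ⟩

theorem main {y : Ω} (hy : y ∈ Q) (h1 : y ∉ E) : y ^ p = 1 := by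
  have eE := ext_mem β h.zE
  have k := h.nrm y (h.le hy) _ eE
  obtain ⟨f, hf, f2, f0⟩ := h.half hβ hm hy
  have aQ : ⁅y, ext β z⁆ * f⁻¹ ∈ Q := mul_mem k.2 (inv_mem (h.xq.zle hf))
  have cz : ∀ x ∈ Q, ∀ φ ∈ Q, ∀ f ∈ zpowers z, ⁅x, φ * f⁆ = ⁅x, φ⁆ := fun x hx φ hφ f hf => by
    rw [h.xq.comm_mul_right hφ (h.xq.zle hf) hx, h.xq.comm_z_right hf (h.le hx), mul_one]
  obtain ⟨y₂, h2, n2, o⟩ := h.orth k.2
  obtain ⟨f₂, hf₂, f2', f0'⟩ := h.half hβ hm h2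
  obtain ⟨m, hM, m1, m2, m3⟩ := h.refl hβ hm hy h1 hf f0
  obtain ⟨m', hM', m1', m2', m3'⟩ := h.refl hβ hm h2 n2 hf₂ f0'
  have pw : ∀ {g a : Ω}, g ∈ zpowers z → g ≠ 1 → a ∈ E → ∀ n : ℤ, g ^ n = 1 → a ^ n = 1 :=
    fun hg g1 ha n e => by
      rw [← orderOf_dvd_iff_zpow_eq_one] at e ⊢
      rw [orderOf_eq_prime (h.xq.zpow_eq_one hg) g1] at e
      exact (Int.natCast_dvd_natCast.2 (orderOf_dvd_of_pow_eq_one (h.ex _ ha))).trans e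
  have b1 : ⁅y, ⁅y, ext β z⁆⁆ ≠ 1 := fun e => h1 ((h.an β hβ hm).1 y hy e)
  set a := ⁅y, ext β z⁆ * f⁻¹ with ha
  have da : ext (m * m') a = a⁻¹ := by
    obtain ⟨s, e1, e2⟩ := m3 a aQ f0
    obtain ⟨s', e1', e2'⟩ := m3' a aQ f0
    rw [ha, cz _ h2 _ k.2 _ (inv_mem hf), o, one_mul] at e1'
    rw [pw hf₂ (fun e => n2 ((h.an β hβ hm).1 y₂ h2 (by rw [← f2', e, one_pow]))) f0'.1 s' e1',
      mul_one] at e2'
    rw [ha, cz _ hy _ k.2 _ (inv_mem hf), ← f2, ← zpow_natCast, ← zpow_add] at e1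
    have := pw hf (fun e => b1 (by rw [← f2, e, one_pow])) f0.1 _ e1
    rw [ext_mul, e2', e2, eq_inv_iff_mul_eq_one, ← this, zpow_add, zpow_natCast]
    group
  have dz : ext (m * m') z ∈ zpowers z := by
    rw [ext_mul]; exact Loc.ext_zpowers eE m2 m1'
  obtain ⟨l, de⟩ : ext (m * m') (ext β z) ∈ zpowers (ext β z) := by
    rw [ext_mul]; exact Loc.ext_zpowers h.zE m1 m2'
  obtain ⟨σ, s1, s2, s3⟩ := h.extend hβ hm (mul_mem hM hM') dz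
  obtain ⟨μ, hμ⟩ := dz
  simp only at de hμ
  have sz : ∀ w ∈ zpowers z, σ w = w ^ μ := by
    rintro _ ⟨n, rfl⟩
    simp only
    rw [s1.map_zpow (h.le h.zQ), s3 z h.zE, ← hμ, ← zpow_mul, ← zpow_mul, mul_comm]
  have sc : ∀ x ∈ S, ∀ w ∈ S, σ ⁅x, w⁆ = ⁅σ x, σ w⁆ := fun x hx w hw => by
    rw [commutatorElement_def, s1.map_mul (mul_mem (mul_mem hx hw) (inv_mem hx)) (inv_mem hw),
      s1.map_conj hx hw, s1.map_inv hw, commutatorElement_def]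
  have sy := s2 y hy
  have k' := h.nrm _ (h.le sy) _ eE
  have e1 : ⁅σ y, ext β z⁆ ^ l = a⁻¹ * f ^ μ := by
    have e := sc y (h.le hy) _ (h.ES eE)
    rw [s3 _ eE, ← de, show ⁅y, ext β z⁆ = a * f by rw [ha, inv_mul_cancel_right],
      s1.map_mul (h.le aQ) (h.le (h.xq.zle hf)), s3 a f0.1, da, sz f hf] at e
    rw [e, commutatorElement_def (σ y) (_ ^ l), ← conj_zpow,
      show σ y * ext β z * (σ y)⁻¹ = ⁅σ y, ext β z⁆ * ext β z by rw [commutatorElement_def]; group,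
      (h.ab _ k'.1 _ eE).mul_zpow, mul_inv_cancel_right]
  have hw := Q.mul_mem (Q.zpow_mem sy l) (Q.zpow_mem hy 1)
  have wE : σ y ^ l * y ^ (1 : ℤ) ∈ E := (h.an β hβ hm).1 _ hw (by
    rw [h.bb eE sy hy hw, zpow_one ⁅_, _⁆, ← h.xq.comm_zpow_right k'.2 hw, e1,
      cz _ hw _ (inv_mem aQ) _ (zpow_mem hf μ), h.xq.comm_inv_right aQ hw, ha,
      cz _ hw _ k.2 _ (inv_mem hf), inv_mul_cancel])
  rw [zpow_one] at wE hw
  have yz := h.pow y hy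
  have e2 : ((y ^ p) ^ μ) ^ l * y ^ p = 1 := by
    have := h.ex _ wE
    rwa [h.xq.mul_pow (Q.zpow_mem sy l) hy, ← zpow_natCast (_ ^ l), ← zpow_mul, mul_comm l,
      zpow_mul, zpow_natCast, ← s1.map_pow (h.le hy), sz _ yz] at this
  have e3 : (⁅y, a⁆ ^ μ) ^ l = ⁅y, a⁆ := by
    rw [← sz _ (h.comm y hy a aQ), sc y (h.le hy) a (h.le aQ), s3 a f0.1, da,
      ← h.xq.comm_zpow_left sy (inv_mem aQ), ← mul_inv_cancel_right (σ y ^ l) y,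
      h.xq.comm_mul_left hw (inv_mem hy) (inv_mem aQ),
      commutatorElement_eq_one_iff_commute.2 (h.ab _ wE _ (inv_mem f0.1)), one_mul,
      h.xq.comm_inv_left hy (inv_mem aQ), h.xq.comm_inv_right aQ hy, inv_inv]
  rw [ha, cz _ hy _ k.2 _ (inv_mem hf)] at e3
  obtain ⟨n, hn⟩ := h.bgen hβ hm hy h1 yz
  have e4 : ((y ^ p) ^ μ) ^ l = y ^ p := by
    rw [← hn, ← zpow_mul, ← zpow_mul, show n * (μ * l) = μ * l * n by ring, zpow_mul, zpow_mul, e3]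
  rw [e4, ← pow_two] at e2
  exact eq_one_of_sq h.odd (h.xq.zpow_eq_one yz) e2

end Mv

end Cx

theorem c2c : C2cStmt.{u} := by
  intro Ω _ p _ S Q E _ F z h o ab ex cS cE nrm an x hx
  obtain ⟨β, hβ, hm⟩ := h.mov
  by_cases h1 : x ∈ E
  · exact ex x h1
  · exact Cx.main ⟨h, o, ab, ex, cS, cE, nrm, an⟩ hβ hm hx h1

end Cfsg.Agent.H64.XsC
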